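import Mathlib.Algebra.Homology.DerivedCategory.Ext.ExactSequences
import Mathlib.CategoryTheory.Sites.SheafCohomology.Basic

/-!
# Long exact Ext sequences: vanishing and bijectivity bookkeeping
-/

set_option autoImplicit false
universe w v u
open CategoryTheory CategoryTheory.Limits Abelian

namespace K771.HExt

variable {C : Type u} [Category.{v} C] [Abelian C] [HasExt.{w} C]

section covariant

variable {S : ShortComplex C} (hS : S.ShortExact) (A : C)

include hS

theorem surjective_g (n : ℕ) [Subsingleton (Ext A S.X₁ (n + 1))] :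
    Function.Surjective (fun x : Ext A S.X₂ n => x.comp (Ext.mk₀ S.g) (add_zero n)) := fun x => by
  obtain ⟨y, hy⟩ := Ext.covariant_sequence_exact₃ A hS x rfl (Subsingleton.elim _ _)
  exact ⟨y, hy⟩

theorem injective_g (n : ℕ) [Subsingleton (Ext A S.X₁ n)] :
    Function.Injective ((Ext.mk₀ S.g).postcomp A (add_zero n)) :=
  (injective_iff_map_eq_zero _).2 fun x hx => by
    obtain ⟨y, rfl⟩ := Ext.covariant_sequence_exact₂ A hS x hx
    rw [Subsingleton.elim y 0, Ext.zero_comp]

theorem surjective_f (n : ℕ) [Subsingleton (Ext A S.X₃ n)] :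
    Function.Surjective (fun x : Ext A S.X₁ n => x.comp (Ext.mk₀ S.f) (add_zero n)) := fun x => by
  obtain ⟨y, hy⟩ := Ext.covariant_sequence_exact₂ A hS x (Subsingleton.elim _ _)
  exact ⟨y, hy⟩

theorem injective_f (n : ℕ) [Subsingleton (Ext A S.X₃ n)] :
    Function.Injective ((Ext.mk₀ S.f).postcomp A (add_zero (n + 1))) :=
  (injective_iff_map_eq_zero _).2 fun x hx => by
    obtain ⟨y, rfl⟩ := Ext.covariant_sequence_exact₁ A hS x hx rfl
    rw [Subsingleton.elim y 0, Ext.zero_comp]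

theorem sub₂ (n : ℕ) [Subsingleton (Ext A S.X₁ n)] [Subsingleton (Ext A S.X₃ n)] :
    Subsingleton (Ext A S.X₂ n) :=
  (injective_g hS A n).subsingleton

theorem sub₁ (n : ℕ) [Subsingleton (Ext A S.X₃ n)] [Subsingleton (Ext A S.X₂ (n + 1))] :
    Subsingleton (Ext A S.X₁ (n + 1)) :=
  (injective_f hS A n).subsingleton

theorem sub₃ (n : ℕ) [Subsingleton (Ext A S.X₂ n)] [Subsingleton (Ext A S.X₁ (n + 1))] :
    Subsingleton (Ext A S.X₃ n) :=
  (surjective_g hS A n).subsingleton

end covariant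

section contravariant

variable {S : ShortComplex C} (hS : S.ShortExact) (B : C)

include hS

theorem surjective_f' (n : ℕ) [Subsingleton (Ext S.X₃ B (n + 1))] :
    Function.Surjective (fun x : Ext S.X₂ B n => (Ext.mk₀ S.f).comp x (zero_add n)) := fun x => by
  obtain ⟨y, hy⟩ := Ext.contravariant_sequence_exact₁ hS B x (add_comm 1 n) (Subsingleton.elim _ _)
  exact ⟨y, hy⟩

theorem injective_f' (n : ℕ) [Subsingleton (Ext S.X₃ B n)] :
    Function.Injective ((Ext.mk₀ S.f).precomp B (zero_add n)) :=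
  (injective_iff_map_eq_zero _).2 fun x hx => by
    obtain ⟨y, rfl⟩ := Ext.contravariant_sequence_exact₂ hS B x hx
    rw [Subsingleton.elim y 0, Ext.comp_zero]

theorem sub₂' (n : ℕ) [Subsingleton (Ext S.X₁ B n)] [Subsingleton (Ext S.X₃ B n)] :
    Subsingleton (Ext S.X₂ B n) :=
  (injective_f' hS B n).subsingleton

theorem surjective_g' (n : ℕ) [Subsingleton (Ext S.X₁ B n)] :
    Function.Surjective (fun x : Ext S.X₃ B n => (Ext.mk₀ S.g).comp x (zero_add n)) := fun x => by
  obtain ⟨y, hy⟩ := Ext.contravariant_sequence_exact₂ hS B x (Subsingleton.elim _ _)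
  exact ⟨y, hy⟩

theorem injective_g' (n : ℕ) [Subsingleton (Ext S.X₁ B n)] :
    Function.Injective ((Ext.mk₀ S.g).precomp B (zero_add (n + 1))) :=
  (injective_iff_map_eq_zero _).2 fun x hx => by
    obtain ⟨y, rfl⟩ := Ext.contravariant_sequence_exact₃ hS B x hx (add_comm 1 n)
    rw [Subsingleton.elim y 0, Ext.comp_zero]

theorem sub₃' (n : ℕ) [Subsingleton (Ext S.X₁ B n)] [Subsingleton (Ext S.X₂ B (n + 1))] :
    Subsingleton (Ext S.X₃ B (n + 1)) :=
  (injective_g' hS B n).subsingleton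

theorem sub₁' (n : ℕ) [Subsingleton (Ext S.X₂ B n)] [Subsingleton (Ext S.X₃ B (n + 1))] :
    Subsingleton (Ext S.X₁ B n) :=
  (surjective_f' hS B n).subsingleton

end contravariant

theorem sub_of_isZero_right {A B : C} (hB : IsZero B) (n : ℕ) : Subsingleton (Ext A B n) := by
  refine subsingleton_of_forall_eq 0 fun x => ?_
  rw [← x.comp_mk₀_id, (IsZero.iff_id_eq_zero _).1 hB, Ext.mk₀_zero, Ext.comp_zero]

theorem sub_of_isZero_left {A B : C} (hA : IsZero A) (n : ℕ) : Subsingleton (Ext A B n) := by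
  refine subsingleton_of_forall_eq 0 fun x => ?_
  rw [← x.mk₀_id_comp, (IsZero.iff_id_eq_zero _).1 hA, Ext.mk₀_zero, Ext.zero_comp]

theorem sub_of_iso_right {A B B' : C} (e : B ≅ B') (n : ℕ) [Subsingleton (Ext A B n)] : Subsingleton (Ext A B' n) := by
  refine subsingleton_of_forall_eq 0 fun x => ?_
  have : x = (x.comp (Ext.mk₀ e.inv) (add_zero n)).comp (Ext.mk₀ e.hom) (add_zero n) := by
    rw [Ext.comp_assoc_of_third_deg_zero, Ext.mk₀_comp_mk₀, e.inv_hom_id, Ext.comp_mk₀_id]
  rw [this, Subsingleton.elim (x.comp (Ext.mk₀ e.inv) (add_zero n)) 0, Ext.zero_comp]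

theorem sub_of_iso_left {A A' B : C} (e : A ≅ A') (n : ℕ) [Subsingleton (Ext A B n)] : Subsingleton (Ext A' B n) := by
  refine subsingleton_of_forall_eq 0 fun x => ?_
  have : x = (Ext.mk₀ e.inv).comp ((Ext.mk₀ e.hom).comp x (zero_add n)) (zero_add n) := by
    rw [Ext.mk₀_comp_mk₀_assoc, e.inv_hom_id, Ext.mk₀_id_comp]
  rw [this, Subsingleton.elim ((Ext.mk₀ e.hom).comp x (zero_add n)) 0, Ext.comp_zero]

end K771.HExt
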