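import Groth.Agent.GaDual.K771.CAGa
import Groth.Agent.Etrest.FppfExact
import Groth.Agent.S0109
import Groth.Agent.S0779
import Groth.Agent.GaDual.K771.HExt

/-!
# fppf cohomology of `G_a`

* `isZero_rightDerived`: `R^q a_* G_a = 0` for `q > 0`, over any base.
* `nonempty_equiv`: `H^n_et(X, G_a) ≃+ H^n_fppf(X, G_a)`.
* `subsingleton`: `H^n_fppf(X, G_a) = 0` for `X` affine, `n > 0`.
-/

set_option autoImplicit false
universe u
open CategoryTheory CategoryTheory.Limits AlgebraicGeometry Opposite

noncomputable section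

namespace K771.FppfGa

open Groth.Agent.Etdl.H432.Sec K771.Pts Groth.Agent

variable (X : Scheme.{u})

instance aCont : EtFppf.ACont X := Groth.Agent.S0779.result _

theorem isZero_rightDerived (q : ℕ) (hq : 0 < q) : IsZero (((EtFppf.aPush X).rightDerived q).obj (Ga X)) := by
  have := Etrest.FppfExact.aPull_preservesFiniteLimits X
  exact Etrest.FppfMain.isZero_rightDerived_of_CA (EtFppf.aPush X) (fun α h => Etrest.FppfMain.epi_aPush α h)
    CAGa.ca_Ga q hq

/-- The restriction of `G_a` to the small étale site. -/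
def iso : (EtFppf.aPush X).obj (Ga X) ≅ EtCoh.Ga X :=
  (fullyFaithfulSheafToPresheaf _ _).preimageIso (NatIso.ofComponents
    (fun U => AddEquiv.toAddCommGrpIso
      { toFun := fun s => ULift.up (ga (U := (EtFppf.a X).obj U.unop) s)
        invFun := fun s => gas (U := (EtFppf.a X).obj U.unop) s.down
        left_inv := fun s => gas_ga s
        right_inv := fun s => ULift.ext _ _ (ga_gas (U := (EtFppf.a X).obj U.unop) s.down)
        map_add' := fun s t => ULift.ext _ _ (ga_add (U := (EtFppf.a X).obj U.unop) s t) })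
    (fun {U V} f => by
      ext s
      exact congrArg ULift.up (ga_r ((EtFppf.a X).map f.unop) s)))

theorem nonempty_equiv (q : ℕ) : Nonempty (EtCoh.H X (EtCoh.Ga X) q ≃+ EtFppf.HF X (Ga X) q) := by
  obtain ⟨e⟩ := Etrest.RAcyc.nonempty_extAddEquiv (EtFppf.aAdj X)
    (Etrest.FppfExact.aPush_injective X) (G := Ga X) (isZero_rightDerived X)
    ((constantSheaf X.smallEtaleTopology AddCommGrpCat.{u + 1}).obj (AddCommGrpCat.of (ULift ℤ))) q
  have e1 : EtCoh.H X (EtCoh.Ga X) q ≃+ EtCoh.H X ((EtFppf.aPush X).obj (Ga X)) q :=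
    ((Abelian.extFunctorObj _ q).mapIso (iso X).symm).addCommGroupIsoToAddEquiv
  have e2 : Abelian.Ext ((EtFppf.aPull X).obj ((constantSheaf X.smallEtaleTopology AddCommGrpCat.{u + 1}).obj
      (AddCommGrpCat.of (ULift ℤ)))) (Ga X) q ≃+ EtFppf.HF X (Ga X) q :=
    (((Abelian.extFunctor q).mapIso
      (Etrest.FppfExact.constIso X (AddCommGrpCat.of (ULift ℤ))).symm.op).app (Ga X)).addCommGroupIsoToAddEquiv
  exact ⟨e1.trans (e.trans e2)⟩

theorem subsingleton [IsAffine X] (q : ℕ) (hq : 0 < q) : Subsingleton (EtFppf.HF X (Ga X) q) := by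
  obtain ⟨e⟩ := nonempty_equiv X q
  have := Groth.Agent.S0109.result X q hq
  exact e.symm.toEquiv.subsingleton

end K771.FppfGa
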