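import Groth.Prelude.Def_CGrpSh2
import Groth.Agent.Etdl.H432.Sec
import Groth.Agent.Sga3B.GaPts
import Groth.Agent.Sga3.H811.Pts

/-!
# Sections of `G_a` and `G_m` on the big fppf site, as functions

`ga s`, `gm s` : the function (the invertible function) attached to a section of `pts Ga`, `pts Gm`.
-/

set_option autoImplicit false
universe u
open CategoryTheory CategoryTheory.Limits AlgebraicGeometry Opposite

noncomputable section

namespace K771.Pts

open Groth.Agent.Etdl.H432.Sec Groth.Agent.Sga3B.GaPts Groth.Agent.Sga3.H811.Pts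

variable {X : Scheme.{u}}

/-- The additive group as a sheaf on the big fppf site. -/
abbrev Ga (X : Scheme.{u}) : EtFppf.AbF X := CGrpSh2.Ga Scheme.fppfPrecoverage X

/-- The multiplicative group as a sheaf on the big fppf site. -/
abbrev Gm (X : Scheme.{u}) : EtFppf.AbF X := CGrpSh2.Gm Scheme.fppfPrecoverage X

/-- The function attached to a section of `Ga`. -/
def ga {U : Over X} (s : Γs (Ga X) U) : O U := Red.gaFn (Additive.toMul (ULift.down s))

/-- The section of `Ga` with given function. -/
def gas {U : Over X} (f : O U) : Γs (Ga X) U := ULift.up (Additive.ofMul (gaPt U f))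

@[simp] theorem ga_gas {U : Over X} (f : O U) : ga (gas f) = f := gaFn_gaPt U f

@[simp] theorem gas_ga {U : Over X} (s : Γs (Ga X) U) : gas (ga s) = s :=
  congrArg (fun z => ULift.up (Additive.ofMul z)) (gaPt_gaFn U _)

theorem ga_injective {U : Over X} : Function.Injective (ga : Γs (Ga X) U → O U) := fun s t h => by
  rw [← gas_ga s, h, gas_ga]

theorem ga_add {U : Over X} (s t : Γs (Ga X) U) : ga (s + t) = ga s + ga t := gaFn_mul _ _

theorem ga_zero {U : Over X} : ga (0 : Γs (Ga X) U) = 0 := gaFn_one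

theorem ga_neg {U : Over X} (s : Γs (Ga X) U) : ga (-s) = - ga s := gaFn_inv _

theorem ga_sub {U : Over X} (s t : Γs (Ga X) U) : ga (s - t) = ga s - ga t := by
  rw [sub_eq_add_neg, ga_add, ga_neg, sub_eq_add_neg]

theorem ga_r {U V : Over X} (g : V ⟶ U) (s : Γs (Ga X) U) : ga (r (Ga X) g s) = ro g (ga s) :=
  gaFn_comp g _

theorem gas_add {U : Over X} (f g : O U) : gas (f + g) = gas f + gas g := by
  apply ga_injective
  rw [ga_add, ga_gas, ga_gas, ga_gas]

theorem gas_zero {U : Over X} : gas (0 : O U) = 0 := by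
  apply ga_injective
  rw [ga_gas, ga_zero]

theorem r_gas {U V : Over X} (g : V ⟶ U) (f : O U) : r (Ga X) g (gas f) = gas (ro g f) := by
  apply ga_injective
  rw [ga_r, ga_gas, ga_gas]

/-- The function attached to a section of `Gm`. -/
def gm {U : Over X} (s : Γs (Gm X) U) : O U := Red.gmFn (Additive.toMul (ULift.down s))

/-- The section of `Gm` with given invertible function. -/
def gms {U : Over X} (f : (O U)ˣ) : Γs (Gm X) U := ULift.up (Additive.ofMul (gmPt U f))

@[simp] theorem gm_gms {U : Over X} (f : (O U)ˣ) : gm (gms f) = f := gmFn_gmPt U f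

theorem gm_injective {U : Over X} : Function.Injective (gm : Γs (Gm X) U → O U) := fun _ _ h =>
  congrArg (fun z => ULift.up (Additive.ofMul z)) (gmFn_injective U h)

theorem gm_add {U : Over X} (s t : Γs (Gm X) U) : gm (s + t) = gm s * gm t := gmFn_mul _ _

theorem gm_zero {U : Over X} : gm (0 : Γs (Gm X) U) = 1 := gmFn_one

theorem isUnit_gm {U : Over X} (s : Γs (Gm X) U) : IsUnit (gm s) := isUnit_gmFn _

theorem gm_neg_mul {U : Over X} (s : Γs (Gm X) U) : gm (-s) * gm s = 1 := by
  rw [← gm_add, neg_add_cancel, gm_zero]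

theorem gm_mul_neg {U : Over X} (s : Γs (Gm X) U) : gm s * gm (-s) = 1 := by
  rw [← gm_add, add_neg_cancel, gm_zero]

theorem gm_r {U V : Over X} (g : V ⟶ U) (s : Γs (Gm X) U) : gm (r (Gm X) g s) = ro g (gm s) :=
  gmFn_comp g _

theorem exists_gm {U : Over X} {f : O U} (hf : IsUnit f) : ∃ s : Γs (Gm X) U, gm s = f :=
  ⟨gms hf.unit, gm_gms _⟩

theorem gm_nsmul {U : Over X} (n : ℕ) (s : Γs (Gm X) U) : gm (n • s) = gm s ^ n := by
  induction n with
  | zero => rw [zero_smul, pow_zero, gm_zero]
  | succ n ih => rw [succ_nsmul, gm_add, ih, pow_succ]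

end K771.Pts
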