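import Groth.Agent.CGrpSh.K731.SmCA
import Groth.Agent.Etrest.FppfExact
import Groth.Agent.S0779
import Groth.Agent.Sga3B.TorusAlgClosed
import Groth.Agent.GaDual.K771.Pts
import Groth.Agent.GaDual.K771.HExt

/-!
# fppf cohomology of `G_m` and étale cohomology; restriction of `G_m` to slices of the big site

* `nonempty_equiv`: `H^n_et(X, G_m) ≃+ H^n_fppf(X, G_m)`.
* `pullIso`: `f_big⁻¹ G_m = G_m`.
* `subsingleton_HU`: `HU (Gm X) n T` vanishes if `H^n_et(T.left, G_m)` does.
-/

set_option autoImplicit false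
universe u
open CategoryTheory CategoryTheory.Limits AlgebraicGeometry Opposite

noncomputable section

namespace K771.FppfGm

open Groth.Agent.Etdl.H432.Sec K771.Pts Groth.Agent

variable (X : Scheme.{u})

instance aCont : EtFppf.ACont X := Groth.Agent.S0779.result _

set_option backward.isDefEq.respectTransparency.types false in
instance smooth_gm : Smooth (Red.Gm X).hom := by
  have h1 : Smooth (Red.diag (ULift.{u} ℤ) ℤ).hom := Groth.Agent.Sga3B.TorusAlgClosed.diag_smooth ℤ
  exact MorphismProperty.pullback_snd _ _ h1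

theorem isZero_rightDerived (q : ℕ) (hq : 0 < q) : IsZero (((EtFppf.aPush X).rightDerived q).obj (Gm X)) := by
  have := Etrest.FppfExact.aPull_preservesFiniteLimits X
  exact Etrest.FppfMain.isZero_rightDerived_of_CA (EtFppf.aPush X) (fun α h => Etrest.FppfMain.epi_aPush α h)
    (K731.SmAlg.ca_pts (Red.Gm X)) q hq

/-- Sections of `G_m` as units. -/
def gmEquiv (U : Over X) : Γs (Gm X) U ≃+ ULift.{u + 1} (Additive (O U)ˣ) where
  toFun s := ULift.up (Additive.ofMul (isUnit_gm s).unit)
  invFun s := gms (Additive.toMul s.down)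
  left_inv s := gm_injective (by rw [gm_gms]; rfl)
  right_inv s := by
    apply ULift.ext
    apply Additive.toMul.injective
    apply Units.ext
    exact gm_gms _
  map_add' s t := by
    apply ULift.ext
    apply Additive.toMul.injective
    apply Units.ext
    exact gm_add s t

/-- The restriction of `G_m` to the small étale site. -/
def iso : (EtFppf.aPush X).obj (Gm X) ≅ EtCoh.Gm X :=
  (fullyFaithfulSheafToPresheaf _ _).preimageIso (NatIso.ofComponents
    (fun U => (gmEquiv X ((EtFppf.a X).obj U.unop)).toAddCommGrpIso)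
    (fun {U V} f => by
      ext s
      apply ULift.ext
      apply Additive.toMul.injective
      apply Units.ext
      exact gm_r ((EtFppf.a X).map f.unop) s))

theorem nonempty_equiv (q : ℕ) : Nonempty (EtCoh.H X (EtCoh.Gm X) q ≃+ EtFppf.HF X (Gm X) q) := by
  obtain ⟨e⟩ := Etrest.RAcyc.nonempty_extAddEquiv (EtFppf.aAdj X)
    (Etrest.FppfExact.aPush_injective X) (G := Gm X) (isZero_rightDerived X)
    ((constantSheaf X.smallEtaleTopology AddCommGrpCat.{u + 1}).obj (AddCommGrpCat.of (ULift ℤ))) q
  have e1 : EtCoh.H X (EtCoh.Gm X) q ≃+ EtCoh.H X ((EtFppf.aPush X).obj (Gm X)) q :=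
    ((Abelian.extFunctorObj _ q).mapIso (iso X).symm).addCommGroupIsoToAddEquiv
  have e2 : Abelian.Ext ((EtFppf.aPull X).obj ((constantSheaf X.smallEtaleTopology AddCommGrpCat.{u + 1}).obj
      (AddCommGrpCat.of (ULift ℤ)))) (Gm X) q ≃+ EtFppf.HF X (Gm X) q :=
    (((Abelian.extFunctor q).mapIso
      (Etrest.FppfExact.constIso X (AddCommGrpCat.of (ULift ℤ))).symm.op).app (Gm X)).addCommGroupIsoToAddEquiv
  exact ⟨e1.trans (e.trans e2)⟩

variable {X}

/-- The restriction of `G_m` to a slice. -/
def pullIso {Y : Scheme.{u}} (f : Y ⟶ X) :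
    (BigSite.pullBig Scheme.fppfPrecoverage f AddCommGrpCat.{u + 1}).obj (Gm X) ≅ Gm Y :=
  (fullyFaithfulSheafToPresheaf _ _).preimageIso (NatIso.ofComponents
    (fun U => ((gmEquiv X ((Over.map f).obj U.unop)).trans (gmEquiv Y U.unop).symm).toAddCommGrpIso)
    (fun {U V} k => by
      ext s
      apply gm_injective
      change gm (gms _) = gm (r (Gm Y) k.unop (gms _))
      rw [gm_r, gm_gms, gm_gms]
      exact gm_r ((Over.map f).map k.unop) s))

theorem subsingleton_HU (T : Over X) (n : ℕ) [h : Subsingleton (EtCoh.H T.left (EtCoh.Gm T.left) n)] :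
    Subsingleton (BigSite.HU Scheme.fppfPrecoverage (Gm X) n T) := by
  obtain ⟨e⟩ := nonempty_equiv T.left n
  have h1 : Subsingleton (EtFppf.HF T.left (Gm T.left) n) := e.symm.toEquiv.subsingleton
  exact K771.HExt.sub_of_iso_right (pullIso T.hom).symm n

end K771.FppfGm
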