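import Groth.Agent.GaDual.K771.AffLocal
import Groth.Agent.CGrpSh.K731.Basic

/-!
# Morphisms of abelian sheaves on the big fppf site from their values on affine objects; exactness on affines

* `AffHom.homA E hE`: the morphism with values `E` on affine objects, `m_homA`.
* `epi_of_local`, `exact_of_affine`, `shortExact_of_affine`.
-/

set_option autoImplicit false
universe u
open CategoryTheory CategoryTheory.Limits AlgebraicGeometry Opposite

noncomputable section

namespace K771.AffHom

open Groth.Agent.Etdl.H432.Sec Groth.Agent.Etdl.H494 K771.AffLocal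

variable {X : Scheme.{u}} {F G : EtFppf.AbF X}

/-- The family of all affine objects over `T` is a covering. -/
theorem isCov_allAffine (T : Over X) :
    IsCov (fun a : (Σ V : Over X, {_g : V ⟶ T // IsAffine V.left}) => a.2.1) := by
  obtain ⟨ι, V, g, hg, hV⟩ := exists_aff T
  intro x
  obtain ⟨i, h⟩ := hg x
  exact ⟨⟨V i, g i, hV i⟩, h⟩

/-- Gluing over the affine objects. -/
theorem exists_glue (T : Over X) (E : ∀ (V : Over X) (_ : V ⟶ T) (_ : IsAffine V.left), Γs G V)
    (hE : ∀ (V W : Over X) (g : V ⟶ T) (k : W ⟶ V) (hV : IsAffine V.left) (hW : IsAffine W.left),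
      r G k (E V g hV) = E W (k ≫ g) hW) :
    ∃ t : Γs G T, ∀ (V : Over X) (g : V ⟶ T) (hV : IsAffine V.left), r G g t = E V g hV := by
  obtain ⟨t, ht⟩ := glue G (isCov_allAffine T) (fun a => E a.1 a.2.1 a.2.2) (fun i j Z a b hab => by
    refine eq_of_affine G _ _ fun W w hW => ?_
    rw [r_r, r_r, hE _ _ _ _ i.2.2 hW, hE _ _ _ _ j.2.2 hW]
    congr 1
    rw [Category.assoc, hab, Category.assoc])
  exact ⟨t, fun V g hV => ht ⟨V, g, hV⟩⟩

section

variable (E : ∀ (T : Over X) (_ : IsAffine T.left), Γs F T →+ Γs G T)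
  (hE : ∀ (T T' : Over X) (hT : IsAffine T.left) (hT' : IsAffine T'.left) (g : T' ⟶ T) (s : Γs F T),
    r G g (E T hT s) = E T' hT' (r F g s))

include hE in
theorem exists_val (T : Over X) (s : Γs F T) : ∃ t : Γs G T, ∀ (V : Over X) (g : V ⟶ T) (hV : IsAffine V.left),
    r G g t = E V hV (r F g s) :=
  exists_glue T (fun V g hV => E V hV (r F g s)) (fun V W g k hV hW => by rw [hE _ _ hV hW, r_r])

/-- The value on an arbitrary object. -/
def val (T : Over X) : Γs F T →+ Γs G T :=
  AddMonoidHom.mk' (fun s => (exists_val E hE T s).choose) (fun s t => by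
    refine eq_of_affine G _ _ fun V g hV => ?_
    rw [map_add, (exists_val E hE T _).choose_spec V g hV, (exists_val E hE T _).choose_spec V g hV,
      (exists_val E hE T _).choose_spec V g hV, map_add, map_add])

theorem r_val {T V : Over X} (g : V ⟶ T) (hV : IsAffine V.left) (s : Γs F T) :
    r G g (val E hE T s) = E V hV (r F g s) := (exists_val E hE T s).choose_spec V g hV

/-- The morphism of sheaves with given values on affine objects. -/
def homA : F ⟶ G :=
  ⟨{ app := fun T => AddCommGrpCat.ofHom (val E hE T.unop)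
     naturality := fun T T' g => by
      refine AddCommGrpCat.ext fun s => ?_
      change val E hE T'.unop (r F g.unop s) = r G g.unop (val E hE T.unop s)
      refine eq_of_affine G _ _ fun V k hV => ?_
      rw [r_val E hE k hV, r_r, r_r, r_val E hE _ hV] }⟩

theorem m_homA (T : Over X) (hT : IsAffine T.left) (s : Γs F T) : m (homA E hE) T s = E T hT s := by
  have h := r_val E hE (𝟙 T) hT s
  rw [r_id, r_id] at h
  exact h

end

theorem mono_of_affine (φ : F ⟶ G) (h : ∀ T : Over X, IsAffine T.left → ∀ s, m φ T s = 0 → s = 0) : Mono φ := by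
  refine K731.Basic.mono_of_injective φ fun T => ?_
  exact injective_of_affine φ (fun T hT => (injective_iff_map_eq_zero _).2 (h T hT)) T.unop

/-- Morphisms agreeing on affine objects are equal. -/
theorem hom_ext_affine {φ ψ : F ⟶ G} (h : ∀ T : Over X, IsAffine T.left → ∀ s, m φ T s = m ψ T s) : φ = ψ := by
  refine Sheaf.hom_ext (NatTrans.ext (funext fun T => AddCommGrpCat.ext fun s => ?_))
  change m φ T.unop s = m ψ T.unop s
  refine eq_of_affine G _ _ fun V g hV => ?_
  rw [← m_r, ← m_r, h V hV]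

theorem epi_of_affine (φ : F ⟶ G) (h : ∀ T : Over X, IsAffine T.left → ∀ t, ∃ (ι : Type (u + 1)) (V : ι → Over X)
    (g : ∀ i, V i ⟶ T), IsCov g ∧ ∀ i, ∃ s, m φ (V i) s = r G (g i) t) : Epi φ := by
  refine K731.Basic.epi_of_exists_lift φ fun T t => ?_
  have key : ∀ x : T.left, ∃ (V : Over X) (g : V ⟶ T) (s : Γs F V), Flat g.left ∧
      LocallyOfFinitePresentation g.left ∧ x ∈ Set.range g.left ∧ m φ V s = r G g t := by
    obtain ⟨ι, V, g, hg, hV⟩ := exists_aff T
    intro x
    obtain ⟨i, h1, h2, y, hy⟩ := hg x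
    obtain ⟨κ, W, k, hk, hs⟩ := h (V i) (hV i) (r G (g i) t)
    obtain ⟨j, h3, h4, z, hz⟩ := hk y
    obtain ⟨s, hs⟩ := hs j
    refine ⟨W j, k j ≫ g i, s, ?_, ?_, ⟨z, ?_⟩, by rw [hs, r_r]⟩
    · rw [Over.comp_left]; infer_instance
    · rw [Over.comp_left]; infer_instance
    · rw [Over.comp_left, Scheme.Hom.comp_apply, hz, hy]
  let R : Sieve T :=
    { arrows := fun V g => ∃ s : Γs F V, m φ V s = r G g t
      downward_closed := by
        rintro V W g ⟨s, hs⟩ k
        exact ⟨r F k s, by rw [m_r, hs, r_r]⟩ }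
  refine ⟨R, ?_, fun V g hg => hg⟩
  refine Groth.Agent.Etrest.BigEtSite.mem_J_iff.2 fun x => ?_
  obtain ⟨V, g, s, h1, h2, h3, h4⟩ := key x
  exact ⟨V, g, ⟨s, h4⟩, h1, h2, h3⟩

theorem exact_of_affine (S : ShortComplex (EtFppf.AbF X))
    (hm : ∀ T : Over X, IsAffine T.left → ∀ s, m S.f T s = 0 → s = 0)
    (h : ∀ T : Over X, IsAffine T.left → ∀ s, m S.g T s = 0 → ∃ a, m S.f T a = s) : S.Exact := by
  refine K731.Basic.exact_of_sections (K := Scheme.fppfPrecoverage) S fun T x hx => ?_
  have hinj := injective_of_affine S.f (fun T hT => (injective_iff_map_eq_zero _).2 (hm T hT))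
  have h1 : ∀ (V : Over X) (g : V ⟶ T) (_ : IsAffine V.left), ∃ a, m S.f V a = r _ g x := fun V g hV => by
    refine h V hV _ ?_
    rw [m_r]
    have : m S.g T x = 0 := hx
    rw [this, map_zero]
  choose a ha using h1
  obtain ⟨t, ht⟩ := exists_glue (G := S.X₁) T a (fun V W g k hV hW => hinj _ (by rw [m_r, ha, ha, r_r]))
  refine ⟨t, ?_⟩
  change m S.f T t = x
  refine eq_of_affine S.X₂ _ _ fun V g hV => ?_
  rw [← m_r, ht V g hV, ha]

theorem shortExact_of_affine (S : ShortComplex (EtFppf.AbF X))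
    (hm : ∀ T : Over X, IsAffine T.left → ∀ s, m S.f T s = 0 → s = 0)
    (h : ∀ T : Over X, IsAffine T.left → ∀ s, m S.g T s = 0 → ∃ a, m S.f T a = s)
    (he : ∀ T : Over X, IsAffine T.left → ∀ t, ∃ (ι : Type (u + 1)) (V : ι → Over X)
      (g : ∀ i, V i ⟶ T), IsCov g ∧ ∀ i, ∃ s, m S.g (V i) s = r S.X₃ (g i) t) : S.ShortExact where
  exact := exact_of_affine S hm h
  mono_f := mono_of_affine S.f hm
  epi_g := epi_of_affine S.g he

theorem isCov_id (T : Over X) : IsCov (fun _ : PUnit.{u + 2} => 𝟙 T) := fun x =>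
  ⟨PUnit.unit, by rw [Over.id_left]; infer_instance, by rw [Over.id_left]; infer_instance, by
    rw [Over.id_left]; exact ⟨x, rfl⟩⟩

theorem shortExact_of_affine' (S : ShortComplex (EtFppf.AbF X))
    (hm : ∀ T : Over X, IsAffine T.left → ∀ s, m S.f T s = 0 → s = 0)
    (h : ∀ T : Over X, IsAffine T.left → ∀ s, m S.g T s = 0 → ∃ a, m S.f T a = s)
    (he : ∀ T : Over X, IsAffine T.left → ∀ t, ∃ s, m S.g T s = t) : S.ShortExact :=
  shortExact_of_affine S hm h (fun T hT t => ⟨PUnit, fun _ => T, fun _ => 𝟙 T, isCov_id T, fun _ => by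
    obtain ⟨s, hs⟩ := he T hT t
    exact ⟨s, by rw [hs, r_id]⟩⟩)

end K771.AffHom
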