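import Groth.Agent.GaDual.K771.PicUnit
import Groth.Agent.GaDual.K771.Pts
import Groth.Agent.GaDual.K771.AffHom

/-!
# Lifting sections along a `G_m`-quotient over a scheme with trivial Picard group

`exists_lift`: for `0 ⟶ G_m ⟶ E ⟶ Q` exact on the big fppf site and `q ∈ Q(T)` liftable to `E` Zariski-locally, `q`
lifts if every invertible module on `T` is trivial.
-/

set_option autoImplicit false
universe u
open CategoryTheory CategoryTheory.Limits AlgebraicGeometry Opposite

noncomputable section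

namespace K771.PicLift

open Groth.Agent.Etdl.H432.Sec Groth.Agent.Etdl.H494 K771.Pts Groth.Agent.Fdesc.LocGen

variable {X : Scheme.{u}}

/-- The function of a section of `G_m` over an open. -/
def val {Z : Over X} {V : Z.left.Opens} (s : Γs (Gm X) (opn Z V)) : Γ(Z.left, V) := V.topIso.hom.hom (gm s)

theorem val_add {Z : Over X} {V : Z.left.Opens} (s t : Γs (Gm X) (opn Z V)) : val (s + t) = val s * val t := by
  rw [val, gm_add, map_mul]
  rfl

theorem val_zero {Z : Over X} {V : Z.left.Opens} : val (0 : Γs (Gm X) (opn Z V)) = 1 := by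
  rw [val, gm_zero, map_one]

theorem val_injective {Z : Over X} {V : Z.left.Opens} : Function.Injective (val (Z := Z) (V := V)) :=
  ((ConcreteCategory.bijective_of_isIso V.topIso.hom).1).comp gm_injective

theorem val_r {Z : Over X} {V V' : Z.left.Opens} (h : V' ≤ V) (s : Γs (Gm X) (opn Z V)) :
    val (r (Gm X) (opnLE h) s) = ores h (val s) := by
  rw [val, gm_r]
  have e : ((𝟙 Z : Z ⟶ Z).left.resLE V V' h).appTop ≫ V'.topIso.hom =
      V.topIso.hom ≫ (𝟙 Z : Z ⟶ Z).left.appLE V V' h := by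
    rw [Scheme.Hom.appTop, Scheme.Hom.resLE_app_top, Category.assoc, Category.assoc, Iso.inv_hom_id,
      Category.comp_id]
  have e2 : (𝟙 Z : Z ⟶ Z).left.appLE V V' h = Z.left.presheaf.map (homOfLE h).op := by
    change (𝟙 Z.left : Z.left ⟶ Z.left).appLE V V' h = _
    rw [Scheme.Hom.appLE, Scheme.Hom.id_app]
    exact Category.id_comp _
  rw [e2] at e
  exact congr($(e).hom (gm s))

theorem exists_val {Z : Over X} {V : Z.left.Opens} {f : Γ(Z.left, V)} (hf : IsUnit f) :
    ∃ s : Γs (Gm X) (opn Z V), val s = f := by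
  obtain ⟨s, hs⟩ := exists_gm (U := opn Z V) (hf.map V.topIso.inv.hom)
  refine ⟨s, ?_⟩
  rw [val, hs]
  change (V.topIso.inv ≫ V.topIso.hom).hom f = f
  rw [Iso.inv_hom_id]
  rfl

theorem opnLE_comp {Z : Over X} {V V' V'' : Z.left.Opens} (h : V' ≤ V) (h' : V'' ≤ V') :
    opnLE h' ≫ opnLE h = opnLE (h'.trans h) := opn_hom_ext (by simp)

variable {S : ShortComplex (EtFppf.AbF X)} (hS : S.Exact) [hm : Mono S.f] (e₁ : S.X₁ ≅ Gm X)

include hS e₁ in
theorem exists_lift (T : Over X)
    (hPic : ∀ L : T.left.Modules, PicF.IsInvertible L → Nonempty (L ≅ Coh.structureModule T.left))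
    (q : Γs S.X₃ T)
    (hloc : ∀ x : T.left, ∃ U : T.left.Opens, x ∈ U ∧ ∃ a : Γs S.X₂ (opn T U), m S.g _ a = r _ (opnι T U) q) :
    ∃ a : Γs S.X₂ T, m S.g T a = q := by
  choose U hxU a ha using hloc
  -- differences
  have hd : ∀ i j : T.left, ∃ t : Γs S.X₁ (opn T (U i ⊓ U j)), m S.f _ t =
      r S.X₂ (opnLE (inf_le_left : U i ⊓ U j ≤ U i)) (a i) - r S.X₂ (opnLE (inf_le_right : U i ⊓ U j ≤ U j)) (a j) := by
    intro i j
    refine K731.Basic.exists_of_exact_of_mono (K := Scheme.fppfPrecoverage) S hS _ ?_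
    change m S.g _ _ = 0
    rw [map_sub, m_r, m_r, ha, ha, r_r, r_r, opnLE_opnι, opnLE_opnι, sub_self]
  choose t ht using hd
  have hinj : ∀ W : Over X, Function.Injective (m S.f W) := fun W =>
    K731.Basic.injective_of_mono (K := Scheme.fppfPrecoverage) S.f (op W)
  let τ : ∀ i j, Γs (Gm X) (opn T (U i ⊓ U j)) := fun i j => m e₁.hom _ (t i j)
  obtain ⟨v, hv, hvg⟩ := PicUnit.exists_unit (Y := T.left) U (fun i j => val (τ i j)) hPic
    (fun y => ⟨y, hxU y⟩) (fun i => by
      have h1 : t i i = 0 := by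
        apply hinj
        rw [ht, map_zero]
        exact sub_self _
      change val (m e₁.hom _ (t i i)) = 1
      rw [h1, map_zero, val_zero]) (fun i j k W hi hj hk => by
      rw [← val_r, ← val_r, ← val_r, ← val_add]
      congr 1
      change r (Gm X) _ (m e₁.hom _ (t i k)) = r (Gm X) _ (m e₁.hom _ (t i j)) + r (Gm X) _ (m e₁.hom _ (t j k))
      rw [← m_r, ← m_r, ← m_r, ← map_add]
      congr 1
      apply hinj
      rw [map_add, m_r, m_r, m_r, ht, ht, ht]
      simp only [map_sub, r_r, opnLE_comp]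
      abel)
  choose w hw using fun i => exists_val (Z := T) (V := U i) (hv i)
  let b : ∀ i, Γs S.X₂ (opn T (U i)) := fun i => a i - m S.f _ (m e₁.inv _ (w i))
  obtain ⟨c, hc⟩ := glueOpen S.X₂ U (fun x => ⟨x, hxU x⟩) b (fun i j => by
    have h1 : r (Gm X) (opnLE (inf_le_left : U i ⊓ U j ≤ U i)) (w i) =
        τ i j + r (Gm X) (opnLE (inf_le_right : U i ⊓ U j ≤ U j)) (w j) := by
      apply val_injective
      rw [val_add, val_r, val_r, hw, hw, hvg]
    have h2 : m S.f _ (m e₁.inv _ (τ i j)) =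
        r S.X₂ (opnLE (inf_le_left : U i ⊓ U j ≤ U i)) (a i) - r S.X₂ (opnLE (inf_le_right : U i ⊓ U j ≤ U j)) (a j) := by
      rw [← ht]
      congr 1
      change m e₁.inv _ (m e₁.hom _ (t i j)) = t i j
      rw [← m_comp, Iso.hom_inv_id, m_id]
    change r S.X₂ _ (a i - m S.f _ (m e₁.inv _ (w i))) = r S.X₂ _ (a j - m S.f _ (m e₁.inv _ (w j)))
    rw [map_sub, map_sub, ← m_r, ← m_r, ← m_r, ← m_r, h1, map_add, map_add, h2]
    abel)
  refine ⟨c, eq_of_openCover S.X₃ U (fun x => ⟨x, hxU x⟩) _ _ fun i => ?_⟩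
  rw [← m_r, hc]
  change m S.g _ (a i - m S.f _ (m e₁.inv _ (w i))) = _
  rw [map_sub, ha, ← m_comp, S.zero, m_zero, sub_zero]

end K771.PicLift
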