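import Groth.Agent.GaDual.K771.RedCech
import Groth.Agent.TateGlob.K828.EtDie
import Groth.Agent.TateGlob.K828.FppfDisj
import Groth.Agent.TateLoc.K810.PushH1
import Groth.Agent.BigSite.K299.PullInj
import Groth.Agent.S0632

/-!
# Cohomology and nil-immersions

For a surjective closed immersion `i : X₀ ⟶ X` let `Φ : Over X ⥤ Over X` be `T ↦ T ×_X X₀` and `cc : Φ T ⟶ T`.
`Good F`: classes of `F` die étale-locally, `F(T) → F(Φ T)` is locally surjective and its kernel is Čech acyclic for affine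
fppf coverings.  `bij`: then `H^n(T, F) → H^n(Φ T, F)` is bijective for `n > 0` and `T` affine.
-/

set_option autoImplicit false
set_option linter.unusedSectionVars false

universe u

open CategoryTheory CategoryTheory.Limits AlgebraicGeometry Opposite
open Groth.Agent.Etrest.FppfCoch K828 K828.Cech K828.Cartan K828.FppfDisj
open Groth.Agent.Etrest.FppfMain (CA LocSurj)

noncomputable section

namespace K771.RedCoh

section abelian

variable {C : Type*} [Category* C] [Abelian C]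

/-- Kernels of a morphism of short exact sequences which is epi on the left. -/
theorem ker_shortExact {A B : ShortComplex C} (hA : A.ShortExact) (hB : B.Exact) [Mono B.f] (v : A ⟶ B)
    [Epi v.τ₁] :
    (ShortComplex.mk (kernel.map v.τ₁ v.τ₂ A.f B.f v.comm₁₂) (kernel.map v.τ₂ v.τ₃ A.g B.g v.comm₂₃)
      (by
        rw [← cancel_mono (kernel.ι v.τ₃), zero_comp, Category.assoc, kernel.map, kernel.map, kernel.lift_ι,
          kernel.lift_ι_assoc, Category.assoc, A.zero, comp_zero])).ShortExact := by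
  have hAm := hA.mono_f
  have hAe := hA.epi_g
  have hf : ∀ {Z : C} (x : Z ⟶ kernel v.τ₁), (x ≫ kernel.map v.τ₁ v.τ₂ A.f B.f v.comm₁₂) ≫ kernel.ι v.τ₂ =
      (x ≫ kernel.ι v.τ₁) ≫ A.f := by
    intro Z x
    rw [Category.assoc, kernel.map, kernel.lift_ι, Category.assoc]
  have hg : ∀ {Z : C} (x : Z ⟶ kernel v.τ₂), (x ≫ kernel.map v.τ₂ v.τ₃ A.g B.g v.comm₂₃) ≫ kernel.ι v.τ₃ =
      (x ≫ kernel.ι v.τ₂) ≫ A.g := by
    intro Z x
    rw [Category.assoc, kernel.map, kernel.lift_ι, Category.assoc]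
  refine ShortComplex.ShortExact.mk' ?_ ?_ ?_
  · rw [ShortComplex.exact_iff_exact_up_to_refinements]
    intro Z x hx
    have h1 : (x ≫ kernel.ι v.τ₂) ≫ A.g = 0 := by
      rw [← hg]
      exact (congrArg (fun t => t ≫ kernel.ι v.τ₃) hx).trans zero_comp
    obtain ⟨Z', π, hπ, y, hy⟩ := hA.exact.exact_up_to_refinements _ h1
    have h2 : y ≫ v.τ₁ = 0 := by
      rw [← cancel_mono B.f, zero_comp, Category.assoc, v.comm₁₂, ← Category.assoc, ← hy, Category.assoc,
        Category.assoc, kernel.condition, comp_zero, comp_zero]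
    refine ⟨Z', π, hπ, kernel.lift _ y h2, ?_⟩
    rw [← cancel_mono (kernel.ι v.τ₂), Category.assoc, hy]
    exact ((hf _).trans (congrArg (fun t => t ≫ A.f) (kernel.lift_ι _ _ _))).symm
  · constructor
    intro Z x y hxy
    rw [← cancel_mono (kernel.ι v.τ₁), ← cancel_mono A.f, ← hf, ← hf]
    exact congrArg (fun t => t ≫ kernel.ι v.τ₂) hxy
  · rw [epi_iff_surjective_up_to_refinements]
    intro Z q
    obtain ⟨Z₁, π₁, hπ₁, x, hx⟩ := (epi_iff_surjective_up_to_refinements A.g).1 hAe (q ≫ kernel.ι v.τ₃)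
    have h1 : (x ≫ v.τ₂) ≫ B.g = 0 := by
      rw [Category.assoc, v.comm₂₃, ← Category.assoc, ← hx, Category.assoc, Category.assoc, kernel.condition, comp_zero,
        comp_zero]
    obtain ⟨Z₂, π₂, hπ₂, y, hy⟩ := hB.exact_up_to_refinements _ h1
    obtain ⟨Z₃, π₃, hπ₃, z, hz⟩ := (epi_iff_surjective_up_to_refinements v.τ₁).1 inferInstance y
    let w : Z₃ ⟶ A.X₂ := π₃ ≫ π₂ ≫ x - z ≫ A.f
    have hw : w ≫ v.τ₂ = 0 := by
      rw [Preadditive.sub_comp, sub_eq_zero, Category.assoc, Category.assoc, hy, Category.assoc, ← v.comm₁₂,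
        ← Category.assoc, ← Category.assoc, hz]
    refine ⟨Z₃, π₃ ≫ π₂ ≫ π₁, inferInstance, kernel.lift _ w hw, ?_⟩
    rw [← cancel_mono (kernel.ι v.τ₃)]
    have h5 : w ≫ A.g = ((π₃ ≫ π₂ ≫ π₁) ≫ q) ≫ kernel.ι v.τ₃ := by
      have h6 : (z ≫ A.f) ≫ A.g = 0 := by rw [Category.assoc, A.zero, comp_zero]
      rw [Preadditive.sub_comp, h6, sub_zero, Category.assoc, Category.assoc, ← hx]
      simp only [Category.assoc]
    exact h5.symm.trans ((hg _).trans (congrArg (fun t => t ≫ A.g) (kernel.lift_ι _ _ _))).symm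

end abelian

variable {X X₀ : Scheme.{u}} (i : X₀ ⟶ X)

local notation "𝕂" => Scheme.fppfPrecoverage

/-- `T ↦ T ×_X X₀`, as a scheme over `X`. -/
abbrev Φ : Over X ⥤ Over X := Over.pullback i ⋙ Over.map i

/-- `T ×_X X₀ ⟶ T` -/
abbrev cc (T : Over X) : (Φ i).obj T ⟶ T := (Over.mapPullbackAdj i).counit.app T

/-- `F ↦ F ∘ Φ` -/
abbrev RR : BigSite.Ab 𝕂 X ⥤ BigSite.Ab 𝕂 X :=
  BigSite.pullBig 𝕂 i AddCommGrpCat.{u + 1} ⋙ BigSite.pushBig 𝕂 i AddCommGrpCat.{u + 1}

/-- `F(T) → F(Φ T)` -/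
abbrev η (F : BigSite.Ab 𝕂 X) : F ⟶ (RR i).obj F := (BigSite.bigAdj 𝕂 i AddCommGrpCat.{u + 1}).unit.app F

lemma η_app (F : BigSite.Ab 𝕂 X) (T : Over X) (s : F.obj.obj (op T)) :
    (η i F).hom.app (op T) s = F.obj.map (cc i T).op s := rfl

lemma cc_left (T : Over X) : (cc i T).left = pullback.fst T.hom i := by
  simp [cc, Over.mapPullbackAdj]

lemma cc_nat {T T' : Over X} (g : T' ⟶ T) : (Φ i).map g ≫ cc i T = cc i T' ≫ g :=
  (Over.mapPullbackAdj i).counit.naturality g

instance preservesFiniteLimits_RR : PreservesFiniteLimits (RR i) := by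
  have h1 : PreservesFiniteLimits (BigSite.pullBig 𝕂 i AddCommGrpCat.{u + 1}) :=
    K299.PullInj.preservesFiniteLimits_pullBig _ i
  have h2 : PreservesFiniteLimits (BigSite.pushBig 𝕂 i AddCommGrpCat.{u + 1}) :=
    K810.PushH1.preservesFiniteLimits_push _ i
  exact comp_preservesFiniteLimits (BigSite.pullBig 𝕂 i AddCommGrpCat.{u + 1})
    (BigSite.pushBig 𝕂 i AddCommGrpCat.{u + 1})

section geo

variable [IsClosedImmersion i]

instance closedImmersion_cc (T : Over X) : IsClosedImmersion (cc i T).left := by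
  rw [cc_left]
  infer_instance

instance surjective_cc [Surjective i] (T : Over X) : Surjective (cc i T).left := by
  rw [cc_left]
  infer_instance

instance mono_cc (T : Over X) : Mono (cc i T) := by
  have : Mono (cc i T).left := inferInstance
  exact Over.mono_of_mono_left _

lemma aff_Φ {T : Over X} (hT : Aff X T) : Aff X ((Φ i).obj T) := by
  have h1 : IsAffine T.left := hT
  have h2 : IsClosedImmersion (cc i T).left := inferInstance
  exact isAffine_of_isAffineHom (cc i T).left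

variable [Surjective i]

/-- Étale coverings lift. -/
theorem exists_etale_lift {T : Over X} (R : Sieve ((Φ i).obj T))
    (hR : ∀ t₀ : ((Φ i).obj T).left, ∃ (V₀ : Over X) (g : V₀ ⟶ (Φ i).obj T), R g ∧ Etale g.left ∧
      t₀ ∈ Set.range g.left) (t : T.left) :
    ∃ (V : Over X) (h : V ⟶ T), Etale h.left ∧ t ∈ Set.range h.left ∧ R ((Φ i).map h) := by
  let Z : Scheme.{u} := ((Φ i).obj T).left
  let j : Z ⟶ T.left := (cc i T).left
  choose W g hg het hz using hR
  let g' : ∀ z : Z, (W z).left ⟶ Z := fun z => (g z).left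
  have het' : ∀ z, Etale (g' z) := het
  let U : Z → Z.Etale := fun z => Scheme.Etale.mk (g' z)
  have hU : EtCoh.Covers U := fun z => by
    obtain ⟨y, hy⟩ := hz z
    exact ⟨z, y, hy⟩
  obtain ⟨κ, E, hE, hEi⟩ := Groth.Agent.S0632.result j U hU
  obtain ⟨k, y, hy⟩ := hE t
  let V : Over X := Over.mk ((E k).hom ≫ T.hom)
  let h : V ⟶ T := Over.homMk (E k).hom rfl
  have hyt : h.left y = t := hy
  refine ⟨V, h, inferInstanceAs (Etale (E k).hom), ⟨y, hyt⟩, ?_⟩
  -- the comparison `Φ V ⟶ E k ×_T Z`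
  let c : ((Φ i).obj V).left ⟶ pullback (E k).hom j := pullback.lift (cc i V).left ((Φ i).map h).left (by
    have := congrArg CommaMorphism.left (cc_nat i h)
    exact this.symm)
  have hc : c ≫ pullback.snd (E k).hom j = ((Φ i).map h).left := pullback.lift_snd _ _ _
  rcases hEi k with h0 | ⟨z, h', hh⟩
  · exfalso
    obtain ⟨x, hx⟩ := (surjective_cc i V).surj y
    exact h0.false (c x)
  · have hh' : h' ≫ g' z = pullback.snd (E k).hom j := hh
    have hw : (c ≫ h') ≫ (g z).left = ((Φ i).map h).left := by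
      rw [Category.assoc]
      exact (congrArg (fun t => c ≫ t) hh').trans hc
    let d : (Φ i).obj V ⟶ W z := Over.homMk (c ≫ h') (by
      rw [← Over.w (g z), ← Category.assoc]
      exact (congrArg (fun t => t ≫ ((Φ i).obj T).hom) hw).trans (Over.w _))
    have hd : (Φ i).map h = d ≫ g z := by
      ext : 1
      exact hw.symm
    rw [hd]
    exact R.downward_closed (hg z) d

/-- The kernel of `F → F ∘ Φ`. -/
abbrev Ker (F : BigSite.Ab 𝕂 X) : BigSite.Ab 𝕂 X := kernel (η i F)

/-- The conditions. -/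
structure Good (F : BigSite.Ab 𝕂 X) : Prop where
  ca : CA F.obj
  epi : Epi (η i F)
  acy : ∀ {T' T : Over X} (p : T' ⟶ T), Aff X T → AffCov X p → Acy (Ker i F).obj p

/-- `K_F → F → F ∘ Φ` -/
abbrev seq (F : BigSite.Ab 𝕂 X) : ShortComplex (BigSite.Ab 𝕂 X) :=
  ShortComplex.mk (kernel.ι (η i F)) (η i F) (kernel.condition _)

lemma seq_shortExact (F : BigSite.Ab 𝕂 X) [Epi (η i F)] : (seq i F).ShortExact :=
  { exact := ShortComplex.exact_kernel (η i F)
    mono_f := inferInstanceAs (Mono (kernel.ι (η i F)))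
    epi_g := inferInstanceAs (Epi (η i F)) }

lemma surj_aff {F : BigSite.Ab 𝕂 X} (hF : Good i F) {T : Over X} (hT : Aff X T) (s : F.obj.obj (op ((Φ i).obj T))) :
    ∃ t : F.obj.obj (op T), F.obj.map (cc i T).op t = s := by
  have := hF.epi
  exact exists_section_lift isGood_aff (seq_shortExact i F) (fun p h1 h2 => hF.acy p h1 h2) hT s

section inj

variable (I : BigSite.Ab 𝕂 X) [Injective I]

lemma surj_inj (T : Over X) (s : I.obj.obj (op ((Φ i).obj T))) : ∃ t : I.obj.obj (op T), I.obj.map (cc i T).op t = s := by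
  have : Injective I.obj := Groth.Agent.CohtopA.CechInj.injective_presheaf_of_injective_sheaf I
  exact K771.RedCech.surjective_of_injective I.obj (cc i T) s

lemma epi_inj : Epi (η i I) := by
  refine K731.Basic.epi_of_exists_lift _ fun T b => ⟨⊤, (QuotSh.J 𝕂 X).top_mem T, fun Y f _ => ?_⟩
  obtain ⟨t, ht⟩ := surj_inj i I T b
  refine ⟨I.obj.map f.op t, ?_⟩
  rw [nat_apply]
  congr 1

lemma injective_RR : Injective ((RR i).obj I) := by
  have h1 : Injective ((BigSite.pullBig 𝕂 i AddCommGrpCat.{u + 1}).obj I) := K299.PullInj.injective_pullBig _ i I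
  have h2 : PreservesFiniteLimits (BigSite.pullBig (Scheme.fppfPrecoverage) i AddCommGrpCat.{u + 1}) :=
    K299.PullInj.preservesFiniteLimits_pullBig _ i
  exact Injective.injective_of_adjoint (BigSite.bigAdj 𝕂 i AddCommGrpCat.{u + 1}) _

lemma acy_inj {T' T : Over X} (p : T' ⟶ T) (hT : Aff X T) (hp : AffCov X p) : Acy (Ker i I).obj p := by
  have := epi_inj i I
  have := injective_RR i I
  exact K771.RedCech.acy_kernel (le_of_shortExact (seq_shortExact i I)) ((RR i).obj I).property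
    (isGood_aff.cov p hT hp) (acy_of_injective I p) (acy_of_injective ((RR i).obj I) p) (fun q => surj_inj i I T q)
    (fun n => by
      obtain ⟨R, -⟩ := isGood_aff.rep p hT hp n
      exact ⟨R, fun q => surj_inj i I R.Y q⟩)

end inj

/-- The sequence of kernels. -/
abbrev kseq (A : ShortComplex (BigSite.Ab 𝕂 X)) : ShortComplex (BigSite.Ab 𝕂 X) :=
  ShortComplex.mk (kernel.map (η i A.X₁) (η i A.X₂) A.f ((RR i).map A.f)
      ((BigSite.bigAdj 𝕂 i AddCommGrpCat.{u + 1}).unit.naturality A.f).symm)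
    (kernel.map (η i A.X₂) (η i A.X₃) A.g ((RR i).map A.g)
      ((BigSite.bigAdj 𝕂 i AddCommGrpCat.{u + 1}).unit.naturality A.g).symm) (by
        rw [← cancel_mono (kernel.ι (η i A.X₃)), zero_comp, Category.assoc, kernel.map, kernel.map, kernel.lift_ι,
          kernel.lift_ι_assoc, Category.assoc, A.zero, comp_zero])

lemma kseq_shortExact {A : ShortComplex (BigSite.Ab 𝕂 X)} (hA : A.ShortExact) [Epi (η i A.X₁)] :
    (kseq i A).ShortExact := by
  have := hA.mono_f
  let v : A ⟶ A.map (RR i) :=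
    { τ₁ := η i A.X₁
      τ₂ := η i A.X₂
      τ₃ := η i A.X₃
      comm₁₂ := ((BigSite.bigAdj 𝕂 i AddCommGrpCat.{u + 1}).unit.naturality A.f).symm
      comm₂₃ := ((BigSite.bigAdj 𝕂 i AddCommGrpCat.{u + 1}).unit.naturality A.g).symm }
  have h1 : Epi v.τ₁ := inferInstanceAs (Epi (η i A.X₁))
  have h2 : (A.map (RR i)).Exact := hA.exact.map_of_mono_of_preservesKernel (RR i) inferInstance inferInstance
  have h3 : Mono (A.map (RR i)).f := inferInstanceAs (Mono ((RR i).map A.f))
  exact ker_shortExact hA h2 v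

theorem step {A : ShortComplex (BigSite.Ab 𝕂 X)} (hA : A.ShortExact) [Injective A.X₂] (hF : Good i A.X₁) :
    Good i A.X₃ where
  ca := (EtDie.ca_step hA hF.ca).1
  epi := by
    refine K731.Basic.epi_of_exists_lift _ fun T b => ?_
    let R₀ : Sieve ((Φ i).obj T) :=
      { arrows := fun V g => ∃ s : A.X₂.obj.obj (op V), A.g.hom.app (op V) s = A.X₃.obj.map g.op b
        downward_closed := by
          rintro V V' g ⟨s, hs⟩ f
          refine ⟨A.X₂.obj.map f.op s, ?_⟩
          rw [nat_apply, hs, K828.Cech.res_comp] }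
    have hR₀ := (EtDie.ca_step hA hF.ca).2 ((Φ i).obj T) b
    let R : Sieve T :=
      { arrows := fun V g => R₀ ((Φ i).map g)
        downward_closed := by
          intro V V' g hg f
          have h1 : R₀ ((Φ i).map f ≫ (Φ i).map g) := R₀.downward_closed hg _
          rw [← (Φ i).map_comp] at h1
          exact h1 }
    refine ⟨R, ?_, ?_⟩
    · refine (K601.FppfSieve.mem_J_iff _).2 fun t => ?_
      obtain ⟨V, h, hh, ⟨v, hv⟩, hR⟩ := exists_etale_lift i R₀ (fun t₀ => by
        obtain ⟨V₀, g, hg, ht, s, hs⟩ := hR₀ t₀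
        exact ⟨V₀, g, ⟨s, hs⟩, hg, ht⟩) t
      exact ⟨V, h, v, hR, inferInstance, inferInstance, hv⟩
    · rintro V g ⟨s, hs⟩
      obtain ⟨s', hs'⟩ := surj_inj i A.X₂ V s
      refine ⟨A.g.hom.app (op V) s', ?_⟩
      rw [η_app, ← nat_apply, hs', hs]
      rfl
  acy {T' T} p hT hp := by
    have := hF.epi
    exact acy_quotient_sheaf isGood_aff (kseq_shortExact i hA) (fun p h1 h2 => acy_inj i A.X₂ p h1 h2)
      (fun p h1 h2 => hF.acy p h1 h2) p hT hp

/-- Sections of the kernel. -/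
lemma exists_ker {F : BigSite.Ab 𝕂 X} [Epi (η i F)] {T : Over X} (s : F.obj.obj (op T))
    (hs : F.obj.map (cc i T).op s = 0) :
    ∃ t : (Ker i F).obj.obj (op T), (kernel.ι (η i F)).hom.app (op T) t = s :=
  (le_of_shortExact (seq_shortExact i F)).ex T s hs

/-- **Invariance of cohomology under nil-immersions.** -/
theorem bij (𝓗 : CohT 𝕂 X) (n : ℕ) : ∀ (F : BigSite.Ab 𝕂 X), Good i F → ∀ {T : Over X}, Aff X T →
    Function.Bijective (𝓗.res (cc i T) : 𝓗.H F (n + 1) T →+ 𝓗.H F (n + 1) ((Φ i).obj T)) := by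
  induction n with
  | zero =>
    intro F hF T hT
    obtain ⟨A, hA, rfl, hI⟩ := CohT.exists_injective_embedding F
    have hQ := step i hA hF
    have hepi := hF.epi
    have hepi' := hQ.epi
    constructor
    · rw [injective_iff_map_eq_zero]
      intro x hx
      obtain ⟨y, rfl⟩ := 𝓗.exists_del hA x
      rw [← 𝓗.del_res] at hx
      obtain ⟨z, hz⟩ := 𝓗.exact₃ hA _ hx
      obtain ⟨s, hs⟩ := surj_inj i A.X₂ T (𝓗.sec z)
      let y' := y - 𝓗.map A.g (𝓗.sec.symm s)
      have hy' : A.X₃.obj.map (cc i T).op (𝓗.sec y') = 0 := by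
        rw [← 𝓗.sec_res, map_sub, ← hz, ← 𝓗.map_res, ← map_sub]
        have h1 : z - 𝓗.res (cc i T) (𝓗.sec.symm s) = 0 := by
          apply 𝓗.sec.injective
          rw [map_sub, 𝓗.sec_res, AddEquiv.apply_symm_apply, hs, sub_self, map_zero]
        rw [h1, map_zero, map_zero]
      obtain ⟨t, ht⟩ := exists_ker i _ hy'
      obtain ⟨r, hr⟩ := exists_section_lift isGood_aff (kseq_shortExact i hA) (fun p h1 h2 => hF.acy p h1 h2) hT t
      have h2 : y' = 𝓗.map A.g (𝓗.sec.symm ((kernel.ι (η i A.X₂)).hom.app (op T) r)) := by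
        apply 𝓗.sec.injective
        rw [𝓗.sec_map, AddEquiv.apply_symm_apply, ← ht, ← hr]
        have h3 : (kseq i A).g ≫ kernel.ι (η i A.X₃) = kernel.ι (η i A.X₂) ≫ A.g := kernel.lift_ι _ _ _
        have h4 := congrArg (fun φ => φ.hom.app (op T) r) h3
        exact h4
      have h5 : y = y' + 𝓗.map A.g (𝓗.sec.symm s) := (sub_add_cancel _ _).symm
      rw [h5, map_add, 𝓗.del_map, add_zero, h2, 𝓗.del_map]
    · intro x
      obtain ⟨y, rfl⟩ := 𝓗.exists_del hA x
      obtain ⟨t, ht⟩ := surj_aff i hQ hT (𝓗.sec y)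
      refine ⟨𝓗.del hA (𝓗.sec.symm t), ?_⟩
      rw [← 𝓗.del_res]
      congr 1
      apply 𝓗.sec.injective
      rw [𝓗.sec_res, AddEquiv.apply_symm_apply, ht]
  | succ n ih =>
    intro F hF T hT
    obtain ⟨A, hA, rfl, hI⟩ := CohT.exists_injective_embedding F
    have hQ := step i hA hF
    constructor
    · rw [injective_iff_map_eq_zero]
      intro x hx
      obtain ⟨y, rfl⟩ := 𝓗.exists_del hA x
      rw [← 𝓗.del_res] at hx
      obtain ⟨z, hz⟩ := 𝓗.exact₃ hA _ hx
      have hz0 : z = 0 := 𝓗.inj A.X₂ z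
      rw [hz0, map_zero] at hz
      rw [(injective_iff_map_eq_zero _).1 (ih A.X₃ hQ hT).1 y hz.symm, map_zero]
    · intro x
      obtain ⟨y, rfl⟩ := 𝓗.exists_del hA x
      obtain ⟨t, rfl⟩ := (ih A.X₃ hQ hT).2 y
      exact ⟨𝓗.del hA t, (𝓗.del_res hA _ t).symm⟩

end geo

end K771.RedCoh
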