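import Groth.Agent.GaDual.K771.RedExt
import Groth.Agent.Etdl.H494.H90

/-!
# Hilbert 90 on the big fppf site: sections of `E / G_m` lift Zariski-locally

`exists_zar_lift`: `0 ⟶ G_m ⟶ E ⟶ Q ⟶ 0` short exact, `q ∈ Q(T)`, `x ∈ T`: `q` lifts over an open neighbourhood
of `x`.
-/

set_option autoImplicit false
universe u
open CategoryTheory CategoryTheory.Limits AlgebraicGeometry Opposite

noncomputable section

namespace K771.ZarH90

open Groth.Agent.Etdl.H432.Sec Groth.Agent.Etdl.H494 K771.Pts K771.AffLocal K771.RedExt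
open Groth.Agent.Etdl.H432.IQ (I Q α β αβ)
open Groth.Agent.Etdl.H432.Un (F un un_add un_r un_injective exists_un tr isUnit_un)

variable (X : Scheme.{u})

theorem subsingleton_O (U : Over X) : Subsingleton (O ((Over.pullback (Scheme.emptyTo X)).obj U)) := by
  have h : IsEmpty ((Over.pullback (Scheme.emptyTo X)).obj U).left :=
    Function.isEmpty (pullback.snd U.hom (Scheme.emptyTo X) : pullback U.hom (Scheme.emptyTo X) ⟶ _)
  infer_instance

/-- `G_m` as the kernel of restriction to the empty scheme. -/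
def toGm : F (Scheme.emptyTo X) ⟶ Gm X :=
  mkH (fun W => AddMonoidHom.mk' (fun s => gms (isUnit_un s).unit) (fun s t => by
    apply gm_injective
    rw [gm_add, gm_gms, gm_gms, gm_gms, IsUnit.unit_spec, IsUnit.unit_spec, IsUnit.unit_spec, un_add]))
    (fun W W' k s => by
      apply gm_injective
      change gm (r (Gm X) k (gms _)) = gm (gms _)
      rw [gm_r, gm_gms, gm_gms, IsUnit.unit_spec, IsUnit.unit_spec, un_r])

theorem gm_toGm {W : Over X} (s : Γs (F (Scheme.emptyTo X)) W) : gm (m (toGm X) W s) = un _ s := by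
  rw [toGm, m_mkH]
  exact gm_gms _

instance isIso_toGm : IsIso (toGm X) := by
  refine isIso_of_bijective _ fun W => ⟨fun s t h => ?_, fun t => ?_⟩
  · apply un_injective
    rw [← gm_toGm, h, gm_toGm]
  · have h := subsingleton_O X W
    obtain ⟨s, hs⟩ := exists_un (i := Scheme.emptyTo X) (gm t) (isUnit_gm t) (@Subsingleton.elim _ h _ _)
    exact ⟨s, gm_injective (by rw [gm_toGm, hs])⟩

variable {X}

section pushout

variable {S S' : ShortComplex (EtFppf.AbF X)} (φ : S ⟶ S') (hS : S.ShortExact) (hS' : S'.ShortExact) [IsIso φ.τ₁]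

include hS hS' in
/-- The right square of a morphism of extensions with the same kernel is cartesian. -/
theorem exists_of_iso₁ {T : Over X} (q : Γs S.X₃ T) (b : Γs S'.X₂ T) (h : m φ.τ₃ T q = m S'.g T b) :
    ∃ a : Γs S.X₂ T, m S.g T a = q := by
  have := hS.epi_g
  have hf := hS.mono_f
  have hf' := hS'.mono_f
  have hinj : ∀ W : Over X, Function.Injective (m S'.f W) := fun W =>
    K731.Basic.injective_of_mono (K := Scheme.fppfPrecoverage) S'.f (op W)
  have h23 : ∀ (W : Over X) (a : Γs S.X₂ W), m S'.g W (m φ.τ₂ W a) = m φ.τ₃ W (m S.g W a) := fun W a => by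
    rw [← m_comp, ← m_comp, φ.comm₂₃]
  have h12 : ∀ (W : Over X) (a : Γs S.X₁ W), m φ.τ₂ W (m S.f W a) = m S'.f W (m φ.τ₁ W a) := fun W a => by
    rw [← m_comp, ← m_comp, φ.comm₁₂]
  -- local lifts with prescribed image
  have h1 : ∀ x : T.left, ∃ (V : Over X) (g : V ⟶ T) (a : Γs S.X₂ V), Flat g.left ∧
      LocallyOfFinitePresentation g.left ∧ x ∈ Set.range g.left ∧ m S.g V a = r _ g q ∧ m φ.τ₂ V a = r _ g b := by
    intro x
    obtain ⟨V, g, a, h1, h2, h3, h4⟩ := exists_lift S.g q x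
    obtain ⟨c, hc⟩ : ∃ c : Γs S'.X₁ V, m S'.f V c = m φ.τ₂ V a - r _ g b := by
      refine K731.Basic.exists_of_exact_of_mono (K := Scheme.fppfPrecoverage) S' hS'.exact _ ?_
      change m S'.g _ _ = 0
      rw [map_sub, h23, h4, m_r, m_r, h, sub_self]
    refine ⟨V, g, a - m S.f V (m (inv φ.τ₁) V c), h1, h2, h3, ?_, ?_⟩
    · rw [map_sub, h4, ← m_comp, S.zero, m_zero, sub_zero]
    · have e : m φ.τ₁ V (m (inv φ.τ₁) V c) = c := by rw [← m_comp, IsIso.inv_hom_id, m_id]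
      rw [map_sub, h12, e, hc, sub_sub_cancel]
  have huniq : ∀ (W : Over X) (a a' : Γs S.X₂ W), m S.g W a = m S.g W a' → m φ.τ₂ W a = m φ.τ₂ W a' → a = a' := by
    intro W a a' e1 e2
    obtain ⟨c, hc⟩ : ∃ c : Γs S.X₁ W, m S.f W c = a - a' := by
      refine K731.Basic.exists_of_exact_of_mono (K := Scheme.fppfPrecoverage) S hS.exact _ ?_
      change m S.g _ _ = 0
      rw [map_sub, e1, sub_self]
    have h2 : m φ.τ₂ W (a - a') = 0 := by rw [map_sub, e2, sub_self]
    rw [← hc, h12] at h2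
    have h3 : m φ.τ₁ W c = 0 := hinj W (by rw [h2, map_zero])
    have h4 : c = 0 := by
      have := congrArg (m (inv φ.τ₁) W) h3
      rwa [← m_comp, IsIso.hom_inv_id, m_id, map_zero] at this
    rw [h4, map_zero] at hc
    exact (sub_eq_zero.1 hc.symm)
  choose V g a h2 h3 h4 h5 h6 using h1
  obtain ⟨t, ht⟩ := glue S.X₂ (V := V) (g := g) (fun x => ⟨x, h2 x, h3 x, h4 x⟩) a (fun i j Z x y hxy => by
    apply huniq
    · rw [m_r, m_r, h5, h5, r_r, r_r, hxy]
    · rw [m_r, m_r, h6, h6, r_r, r_r, hxy])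
  refine ⟨t, sep S.X₃ (V := V) (g := g) (fun x => ⟨x, h2 x, h3 x, h4 x⟩) _ _ fun i => ?_⟩
  rw [← m_r, ht, h5]

end pushout

/-- **Hilbert 90**: sections of an extension quotient by `G_m` lift Zariski-locally. -/
theorem exists_zar_lift {S : ShortComplex (EtFppf.AbF X)} (hS : S.ShortExact) (e₁ : S.X₁ ≅ Gm X) {T : Over X}
    (q : Γs S.X₃ T) (x : T.left) :
    ∃ U : T.left.Opens, x ∈ U ∧ ∃ a : Γs S.X₂ (opn T U), m S.g _ a = r _ (opnι T U) q := by
  have := hS.mono_f
  have := hS.epi_g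
  let i := Scheme.emptyTo X
  let j : S.X₁ ⟶ I i := e₁.hom ≫ inv (toGm X) ≫ α i
  let φ₂ : S.X₂ ⟶ I i := Injective.factorThru j S.f
  have hφ₂ : S.f ≫ φ₂ = j := Injective.comp_factorThru _ _
  have h0 : S.f ≫ φ₂ ≫ β i = 0 := by
    rw [← Category.assoc, hφ₂]
    simp only [j, Category.assoc, αβ, comp_zero]
  let φ₃ : S.X₃ ⟶ Q i := hS.exact.desc (φ₂ ≫ β i) h0
  have hφ₃ : S.g ≫ φ₃ = φ₂ ≫ β i := hS.exact.g_desc _ h0
  let Φ : S ⟶ ShortComplex.mk (α i) (β i) (αβ i) :=
    { τ₁ := e₁.hom ≫ inv (toGm X)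
      τ₂ := φ₂
      τ₃ := φ₃
      comm₁₂ := by
        rw [hφ₂]
        simp only [j, Category.assoc]
      comm₂₃ := hφ₃.symm }
  have : IsIso Φ.τ₁ := inferInstanceAs (IsIso (e₁.hom ≫ inv (toGm X)))
  obtain ⟨V, hxV, b, hb⟩ := H90.exists_open_lift (i := i) (m φ₃ T q) x
  refine ⟨V, hxV, exists_of_iso₁ Φ hS (Groth.Agent.Etdl.H432.IQ.shortExact i) _ b ?_⟩
  change m φ₃ _ _ = m (β i) _ b
  rw [hb, m_r]

end K771.ZarH90
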