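import Groth.Agent.GaDual.K771.ConstRed
import Mathlib.Algebra.MvPolynomial.Nilpotent

/-!
# Natural `G_m`-valued functions of finitely many `G_a`-variables over a reduced affine object are constant
-/

set_option autoImplicit false
universe u
open CategoryTheory CategoryTheory.Limits AlgebraicGeometry Opposite

noncomputable section

namespace K771.ConstMv

open Groth.Agent.Etdl.H432.Sec K771.Pts K771.Aff

variable {X : Scheme.{u}} {T : Over X} [IsAffine T.left] [IsReduced T.left] {n : ℕ}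
  (γ : ∀ W : Over X, (W ⟶ T) → (Fin n → Γs (Ga X) W) → Γs (Gm X) W)
  (hγ : ∀ (W W' : Over X) (k : W' ⟶ W) (h : W ⟶ T) (y : Fin n → Γs (Ga X) W),
    r (Gm X) k (γ W h y) = γ W' (k ≫ h) (fun i => r _ k (y i)))

include hγ in
theorem exists_const : ∃ a : O T, ∀ (W : Over X) (h : W ⟶ T) (y : Fin n → Γs (Ga X) W), gm (γ W h y) = ro h a := by
  let α : O T →+* MvPolynomial (Fin n) (O T) := MvPolynomial.C
  let y₀ : Fin n → Γs (Ga X) (aff α) := fun i => gas (e α (MvPolynomial.X i))
  obtain ⟨u, hu⟩ := (e α).surjective (gm (γ (aff α) (π α) y₀))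
  have hu1 : IsUnit u := by
    have h1 : IsUnit (e α u) := by rw [hu]; exact isUnit_gm _
    simpa using h1.map (e α).symm
  obtain ⟨a, -, rfl⟩ := MvPolynomial.isUnit_iff_eq_C_of_isReduced.1 hu1
  refine ⟨a, fun W h y => ?_⟩
  obtain ⟨k, hk, hk'⟩ := exists_hom α h (MvPolynomial.eval₂Hom (ro h) (fun i => ga (y i))) (fun x => by simp [α])
  have e1 : (fun i => r (Ga X) k (y₀ i)) = y := by
    funext i
    exact ga_injective (by rw [ga_r, ga_gas, hk']; simp)
  have h2 := hγ (aff α) W k (π α) y₀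
  rw [e1, hk] at h2
  rw [← h2, gm_r, ← hu, hk']
  simp

include hγ in
theorem const_mv {W : Over X} (h : W ⟶ T) (y : Fin n → Γs (Ga X) W) : γ W h y = γ W h 0 := by
  obtain ⟨a, ha⟩ := exists_const γ hγ
  exact gm_injective ((ha _ _ _).trans (ha _ _ _).symm)

end K771.ConstMv
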