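import Groth.Agent.GaDual.K771.RedExt
import Groth.Agent.GaDual.K771.ConstMv
import Groth.Agent.TateGlob.K828.Cech

/-!
# The affine line over an affine object of the big site, and fibre powers of `𝔸¹_U ⟶ 𝔸¹_X`

* `L1 V`: the affine line over `V`; `πL`, `xL` its projection and coordinate; `mkL h y` its points.
* `rep`: the fibre powers of `pL : L1 U ⟶ Red.Ga X` from those of `U ⟶ X`.
-/

set_option autoImplicit false
universe u
open CategoryTheory CategoryTheory.Limits AlgebraicGeometry Opposite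

noncomputable section

namespace K771.Line

open Groth.Agent.Etdl.H432.Sec K771.Pts K771.Aff K771.RedExt
open Groth.Agent.Etrest.FppfCoch

variable {X : Scheme.{u}}

section line

variable (V : Over X) [IsAffine V.left]

/-- The affine line over an affine object. -/
def L1 : Over X := aff (T := V) (Polynomial.C : O V →+* Polynomial (O V))

instance : IsAffine (L1 V).left := inferInstanceAs (IsAffine (aff (T := V) (Polynomial.C : O V →+* Polynomial (O V))).left)

/-- The projection. -/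
def πL : L1 V ⟶ V := π _

/-- Functions on the affine line. -/
def eL : Polynomial (O V) ≃+* O (L1 V) := e _

/-- The coordinate. -/
def xL : Γs (Ga X) (L1 V) := gas (eL V Polynomial.X)

variable {V}

theorem exists_mkL {W : Over X} (h : W ⟶ V) (y : Γs (Ga X) W) :
    ∃ k : W ⟶ L1 V, k ≫ πL V = h ∧ r (Ga X) k (xL V) = y := by
  obtain ⟨k, hk, hk'⟩ := exists_hom (T := V) (Polynomial.C : O V →+* Polynomial (O V)) h
    (Polynomial.eval₂RingHom (ro h) (ga y)) (fun x => by simp)
  refine ⟨k, hk, ga_injective ?_⟩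
  rw [ga_r, xL, ga_gas]
  exact (hk' Polynomial.X).trans (by simp)

/-- The point of the affine line with given coordinate. -/
def mkL {W : Over X} (h : W ⟶ V) (y : Γs (Ga X) W) : W ⟶ L1 V := (exists_mkL h y).choose

@[simp] theorem mkL_πL {W : Over X} (h : W ⟶ V) (y : Γs (Ga X) W) : mkL h y ≫ πL V = h :=
  (exists_mkL h y).choose_spec.1

@[simp] theorem r_mkL_xL {W : Over X} (h : W ⟶ V) (y : Γs (Ga X) W) : r (Ga X) (mkL h y) (xL V) = y :=
  (exists_mkL h y).choose_spec.2

theorem ro_πL (x : O V) : ro (πL V) x = eL V (Polynomial.C x) := ro_π _ x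

theorem L1_ext {W : Over X} (k k' : W ⟶ L1 V) (h : k ≫ πL V = k' ≫ πL V) (h' : r (Ga X) k (xL V) = r (Ga X) k' (xL V)) :
    k = k' := by
  have h1 : (ro k).comp (eL V).toRingHom = (ro k').comp (eL V).toRingHom := by
    refine Polynomial.ringHom_ext (fun a => ?_) ?_
    · change ro k (eL V (Polynomial.C a)) = ro k' (eL V (Polynomial.C a))
      rw [← ro_πL, ro_ro, ro_ro, h]
    · have h2 := congrArg ga h'
      rw [ga_r, ga_r, xL, ga_gas] at h2
      exact h2
  exact Aff.hom_ext _ _ _ fun x => congr($h1 x)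

theorem comp_mkL {W W' : Over X} (k : W' ⟶ W) (h : W ⟶ V) (y : Γs (Ga X) W) :
    k ≫ mkL h y = mkL (k ≫ h) (r (Ga X) k y) := by
  apply L1_ext
  · rw [Category.assoc, mkL_πL, mkL_πL]
  · rw [← r_r, r_mkL_xL, r_mkL_xL]

variable (V) in
/-- The projection to the affine line over the base. -/
def pL : L1 V ⟶ Red.Ga X := pt (xL V)

theorem comp_pL {W : Over X} (k : W ⟶ L1 V) : k ≫ pL V = pt (r (Ga X) k (xL V)) := (pt_r _ _).symm

theorem mkL_pL {W : Over X} (h : W ⟶ V) (y : Γs (Ga X) W) : mkL h y ≫ pL V = pt y := by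
  rw [comp_pL, r_mkL_xL]

theorem pt_injective {W : Over X} {y y' : Γs (Ga X) W} (h : pt y = pt y') : y = y' := by
  rw [← r_pt_un y, h, r_pt_un]

theorem pt_r_un {W : Over X} (a : W ⟶ Red.Ga X) : pt (r (Ga X) a (un X)) = a := by
  rw [pt_r]
  exact Category.comp_id a

variable (X) in
/-- The zero endomorphism. -/
def z : Red.Ga X ⟶ Red.Ga X := pt 0

variable (V) in
/-- The zero endomorphism. -/
def z' : L1 V ⟶ L1 V := mkL (πL V) 0

theorem comp_z {W : Over X} (a : W ⟶ Red.Ga X) : a ≫ z X = pt 0 := by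
  rw [z, ← pt_r, map_zero]

theorem comp_z' {W : Over X} (x : W ⟶ L1 V) : x ≫ z' V = mkL (x ≫ πL V) 0 := by
  rw [z', comp_mkL, map_zero]

theorem z_z : z X ≫ z X = z X := comp_z _

theorem z'_z' : z' V ≫ z' V = z' V := by
  rw [comp_z', z', mkL_πL]

theorem z'_pL : z' V ≫ pL V = pL V ≫ z X := by
  rw [z', mkL_pL, comp_z]

theorem comp_z_z {W : Over X} (a : W ⟶ Red.Ga X) : (a ≫ z X) ≫ z X = a ≫ z X := by
  rw [Category.assoc, z_z]

theorem comp_z'_z' {W : Over X} (x : W ⟶ L1 V) : (x ≫ z' V) ≫ z' V = x ≫ z' V := by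
  rw [Category.assoc, z'_z']

end line

section rep

variable {U : Over X} [IsAffine U.left]

theorem compat_iff {W : Over X} (a : W ⟶ Red.Ga X) {n : ℕ} (x : Fin n → (W ⟶ L1 U)) :
    Compat (pL U) (𝟙 _) a x ↔ ∀ i, r (Ga X) (x i) (xL U) = r (Ga X) a (un X) := by
  constructor
  · intro h i
    apply pt_injective
    rw [← comp_pL, h i, pt_r_un, Category.comp_id]
  · intro h i
    rw [comp_pL, h i, pt_r_un, Category.comp_id]

theorem Compat.z {W : Over X} {a : W ⟶ Red.Ga X} {n : ℕ} {x : Fin n → (W ⟶ L1 U)} (h : Compat (pL U) (𝟙 _) a x) :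
    Compat (pL U) (𝟙 _) (a ≫ z X) (fun i => x i ≫ z' U) := fun i => by
  have := h i
  rw [Category.comp_id] at this
  rw [Category.assoc, z'_pL, ← Category.assoc, this, Category.comp_id]

/-- The fibre powers of `𝔸¹_U ⟶ 𝔸¹_X`. -/
def rep {n : ℕ} (R : Rep (Over.mkIdTerminal.from U) (𝟙 (Over.mk (𝟙 X))) n) [IsAffine R.Y.left] :
    Rep (pL U) (𝟙 (Red.Ga X)) n where
  Y := L1 R.Y
  π := pL R.Y
  y i := mkL (πL R.Y ≫ R.y i) (xL R.Y)
  compat i := by rw [mkL_pL, Category.comp_id]; rfl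
  lift {W} a x h := mkL (R.lift (Over.mkIdTerminal.from W) (fun i => x i ≫ πL U)
    (fun i => Over.mkIdTerminal.hom_ext _ _)) (r (Ga X) a (un X))
  lift_π a x h := by rw [mkL_pL, pt_r_un]
  lift_y a x h i := by
    rw [comp_mkL]
    apply L1_ext
    · rw [mkL_πL, ← Category.assoc, mkL_πL, R.lift_y]
    · rw [r_mkL_xL, r_mkL_xL]
      exact ((compat_iff a x).1 h i).symm
  hom_ext f g h1 h2 := by
    apply L1_ext
    · apply R.hom_ext
      · exact Over.mkIdTerminal.hom_ext _ _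
      · intro i
        have h3 := congrArg (· ≫ πL U) (h2 i)
        simpa only [Category.assoc, mkL_πL] using h3
    · apply pt_injective
      rw [← comp_pL, ← comp_pL, h1]

/-- A cochain of `G_m` for `𝔸¹_U ⟶ 𝔸¹_X` is constant along the affine line if the fibre power of `U` is reduced. -/
theorem const {n : ℕ} (R : Rep (Over.mkIdTerminal.from U) (𝟙 (Over.mk (𝟙 X))) n) [IsAffine R.Y.left]
    [IsReduced R.Y.left] (c : Fam (Gm X).obj (Red.Ga X) (L1 U) n) (hc : IsCoch (pL U) (𝟙 _) c) {W : Over X}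
    (a : W ⟶ Red.Ga X) (x : Fin (n + 1) → (W ⟶ L1 U)) (h : Compat (pL U) (𝟙 _) a x) :
    c W a x = c W (a ≫ z X) (fun i => x i ≫ z' U) := by
  let γ : ∀ W : Over X, (W ⟶ R.Y) → (Fin 1 → Γs (Ga X) W) → Γs (Gm X) W := fun W h y =>
    c W (pt (y 0)) (fun i => mkL (h ≫ R.y i) (y 0))
  have hγ : ∀ (W W' : Over X) (k : W' ⟶ W) (h : W ⟶ R.Y) (y : Fin 1 → Γs (Ga X) W),
      r (Gm X) k (γ W h y) = γ W' (k ≫ h) (fun i => r _ k (y i)) := by
    intro W W' k h y
    refine (hc k _ _ fun i => ?_).trans ?_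
    · rw [mkL_pL, Category.comp_id]
    · change c W' (k ≫ pt (y 0)) (fun i => k ≫ mkL (h ≫ R.y i) (y 0)) =
        c W' (pt (r (Ga X) k (y 0))) (fun i => mkL ((k ≫ h) ≫ R.y i) (r (Ga X) k (y 0)))
      rw [pt_r]
      congr 1
      funext i
      rw [comp_mkL, Category.assoc]
  have h1 := ConstMv.const_mv γ hγ (R.lift (Over.mkIdTerminal.from W) (fun i => x i ≫ πL U)
    (fun i => Over.mkIdTerminal.hom_ext _ _)) (fun _ => r (Ga X) a (un X))
  have h2 : ∀ i, mkL (x i ≫ πL U) (r (Ga X) a (un X)) = x i := fun i => by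
    apply L1_ext
    · rw [mkL_πL]
    · rw [r_mkL_xL]
      exact ((compat_iff a x).1 h i).symm
  simp only [γ, R.lift_y, h2, pt_r_un, Pi.zero_apply] at h1
  rw [h1, comp_z]
  congr 1
  funext i
  rw [comp_z']

end rep

end K771.Line
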