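import Groth.Agent.GaDual.K771.ZarH90

/-!
# `Ext^1(G_a, G_m) = 0` over a reduced base whose affine line has trivial Picard group
-/

set_option autoImplicit false
universe u
open CategoryTheory CategoryTheory.Limits AlgebraicGeometry Opposite

noncomputable section

namespace K771.PicExt

open Groth.Agent.Etdl.H432.Sec K771.Pts K771.RedExt

variable {X : Scheme.{u}}

/-- The injective embedding of a sheaf and its cokernel. -/
def injSeq (F : EtFppf.AbF X) : ShortComplex (EtFppf.AbF X) :=
  ShortComplex.mk (Injective.ι F) (cokernel.π (Injective.ι F)) (cokernel.condition _)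

theorem injSeq_shortExact (F : EtFppf.AbF X) : (injSeq F).ShortExact where
  exact := ShortComplex.exact_cokernel _
  mono_f := inferInstanceAs (Mono (Injective.ι F))
  epi_g := inferInstanceAs (Epi (cokernel.π (Injective.ι F)))

instance (F : EtFppf.AbF X) : Injective (injSeq F).X₂ := inferInstanceAs (Injective (Injective.under F))

theorem ext_one [IsReduced X] (hPic : ∀ L : (Red.Ga X).left.Modules, PicF.IsInvertible L →
      Nonempty (L ≅ Coh.structureModule (Red.Ga X).left)) :
    Subsingleton (Abelian.Ext (Ga X) (Gm X) 1) := by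
  have hS := injSeq_shortExact (Gm X)
  have hm := hS.mono_f
  refine ext_one_of_lift hS (Ga X) fun f => ?_
  obtain ⟨a, ha⟩ := PicLift.exists_lift hS.exact (Iso.refl (Gm X)) (Red.Ga X) hPic (m f _ (un X))
    (fun x => ZarH90.exists_zar_lift hS (Iso.refl (Gm X)) _ x)
  exact exists_lift_hom hS.exact (Iso.refl (Gm X)) f a ha

end K771.PicExt
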