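import Groth.Agent.S0233
import Groth.Agent.GaDual.K771.PicExt

/-!
# Trivial Picard group of factorial affine schemes; the affine line over a field; `Ext^1(G_a, G_m) = 0` over a field
-/

set_option autoImplicit false
universe u
open CategoryTheory CategoryTheory.Limits AlgebraicGeometry Opposite TopologicalSpace

noncomputable section

namespace K771.PicUfd

open Groth.Agent.CurvesA.UfdFrac Groth.Agent.CurvesA.UfdStalk Groth.Agent.Ega4dA.GenSec
open Groth.Agent.CurvesA.UfdExtend

theorem pic_trivial (Y : Scheme.{u}) [IsAffine Y] [Nonempty Y] [IsDomain Γ(Y, ⊤)] [UniqueFactorizationMonoid Γ(Y, ⊤)]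
    (L : Y.Modules) (hL : PicF.IsInvertible L) : Nonempty (L ≅ Coh.structureModule Y) := by
  rw [nonempty_iso_iff]
  refine Groth.Agent.S0233.exists_generator (V := ⊤) (isAffineOpen_top Y) le_rfl ?_ ?_ ⟨Classical.arbitrary Y, trivial⟩
  · intro x hx
    rw [isInvertible_iff] at hL
    obtain ⟨W, hxW, s, hs⟩ := hL x
    exact ⟨W, hxW, le_top, s, hs⟩
  · intro W
    have h1 : W ≤ W ⊓ ⊤ := by simp
    have e1 : ∀ s : Γ(L, W), res L h1 (res L inf_le_left s) = s := fun s => by
      rw [res_res, res_self]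
    have e2 : ∀ s : Γ(L, W ⊓ ⊤), res L inf_le_left (res L h1 s) = s := fun s => by
      rw [res_res, res_self]
    exact ⟨fun s t hst => (e1 s).symm.trans ((congrArg (res L h1) hst).trans (e1 t)),
      fun t => ⟨res L h1 t, e2 t⟩⟩

section line

open Groth.Agent.Etdl.H432.Sec K771.Pts K771.RedExt K771.Aff Polynomial

variable {X : Scheme.{u}} [IsAffine X]

instance : IsAffine (Over.mk (𝟙 X) : Over X).left := inferInstanceAs (IsAffine X)

/-- The affine line over an affine scheme as a relative spectrum. -/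
def gaIso (X : Scheme.{u}) [IsAffine X] :
    Red.Ga X ≅ aff (T := Over.mk (𝟙 X)) (C : O (Over.mk (𝟙 X) : Over X) →+* (O (Over.mk (𝟙 X) : Over X))[X]) := by
  let T₀ : Over X := Over.mk (𝟙 X)
  let α : O T₀ →+* (O T₀)[X] := C
  let s : ∀ W : Over X, W ⟶ T₀ := fun W => Over.mkIdTerminal.from W
  have h := exists_hom α (s (Red.Ga X)) (eval₂RingHom (ro (s (Red.Ga X))) (ga (un X))) (fun x => by simp [α])
  let k : Red.Ga X ⟶ aff α := h.choose
  have hk : ∀ x, ro k (e α x) = eval₂RingHom (ro (s (Red.Ga X))) (ga (un X)) x := h.choose_spec.2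
  let j : aff α ⟶ Red.Ga X := pt (gas (e α Polynomial.X))
  have hj : r (Ga X) j (un X) = gas (e α Polynomial.X) := r_pt_un _
  refine ⟨k, j, ?_, ?_⟩
  · have h1 : r (Ga X) (k ≫ j) (un X) = un X := by
      rw [← r_r, hj, r_gas, hk]
      apply ga_injective
      rw [ga_gas]
      simp
    have h2 : pt (r (Ga X) (k ≫ j) (un X)) = pt (un X) := by rw [h1]
    rw [pt_r] at h2
    change (k ≫ j) ≫ 𝟙 (Red.Ga X) = 𝟙 (Red.Ga X) at h2
    rwa [Category.comp_id] at h2
  · refine hom_ext _ _ _ fun x => ?_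
    rw [← ro_ro, hk, ro_id]
    have h1 : ro j (ga (un X)) = e α Polynomial.X := by
      rw [← ga_r, hj, ga_gas]
    have h2 : (ro j).comp (eval₂RingHom (ro (s (Red.Ga X))) (ga (un X))) = (e α).toRingHom := by
      refine Polynomial.ringHom_ext (fun a => ?_) ?_
      · rw [RingHom.comp_apply, coe_eval₂RingHom, eval₂_C, ro_ro]
        have h3 : j ≫ s (Red.Ga X) = π α := Over.mkIdTerminal.hom_ext _ _
        rw [h3, ro_π]
        rfl
      · rw [RingHom.comp_apply, coe_eval₂RingHom, eval₂_X, h1]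
        rfl
    exact congr($h2 x)

end line

end K771.PicUfd
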