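import Groth.Agent.GaDual.K771.DDAlg
import Groth.Agent.GaDual.K770.Char

/-!
# Characters of `G_a` in characteristic `p` and the map `f(X) ↦ f(X^p)`

For `A` with `p = 0`: `coeff_one_pow` (the linear coefficient of a character has vanishing `p`-th power),
`exists_isChar` (every such element is a linear coefficient), `exists_expand` (a character with zero linear
coefficient is `g(X^p)`, `g` a character), `IsChar.expand`.
-/

set_option autoImplicit false
universe u
open Polynomial

namespace K771.FrobAlg

open K771.DDAlg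

variable (p : ℕ) [hp : Fact p.Prime] {A : Type u} [CommRing A]

theorem charP_of_eq_zero (h : (p : A) = 0) [Nontrivial A] : CharP A p :=
  (CharP.charP_iff_prime_eq_zero hp.out).2 h

theorem coeff_one_pow_eq {f : A[X]} (hf : IsChar f) (m : ℕ) : f.coeff 1 ^ m = (m.factorial : A) * f.coeff m := by
  induction m with
  | zero => simp [hf.1]
  | succ m ih =>
    rw [pow_succ, ih, mul_assoc, hf.2, Nat.choose_symm_add, Nat.choose_one_right, Nat.factorial_succ]
    push_cast
    ring

theorem coeff_one_pow (h : (p : A) = 0) {f : A[X]} (hf : IsChar f) : f.coeff 1 ^ p = 0 := by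
  rw [coeff_one_pow_eq hf]
  obtain ⟨c, hc⟩ := Nat.dvd_factorial hp.out.pos le_rfl
  rw [hc, Nat.cast_mul, h, zero_mul, zero_mul]

theorem exists_isChar (h : (p : A) = 0) {a : A} (ha : a ^ p = 0) : ∃ f : A[X], IsChar f ∧ f.coeff 1 = a := by
  rcases subsingleton_or_nontrivial A with hA | hA
  · exact ⟨1, isChar_one, Subsingleton.elim _ _⟩
  have := charP_of_eq_zero p h
  refine ⟨K770.Char.expp p a 0, ⟨?_, fun i j => ?_⟩, ?_⟩
  · rw [K770.Char.coeff_expp_zero]
    have := K770.Char.factorial_mul_e p a hp.out.pos
    simpa using this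
  · rw [K770.Char.coeff_expp_zero, K770.Char.coeff_expp_zero, K770.Char.coeff_expp_zero,
      K770.Char.choose_mul_e p ha]
  · rw [K770.Char.coeff_expp_zero]
    have := K770.Char.factorial_mul_e p a hp.out.one_lt
    simpa using this

theorem choose_mul (h : (p : A) = 0) (i j : ℕ) : ((p * i).choose (p * j) : A) = (i.choose j : A) := by
  rcases subsingleton_or_nontrivial A with hA | hA
  · exact Subsingleton.elim _ _
  have := charP_of_eq_zero p h
  have := K770.Coeff.choose_add_mul_cast (p := p) (A := A) 1 i 0 j 0 (pow_pos hp.out.pos 1) (pow_pos hp.out.pos 1)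
  simpa [mul_comm] using this

theorem isChar_expand (h : (p : A) = 0) {f : A[X]} (hf : IsChar f) : IsChar (expand A p f) := by
  refine (isChar_iff _).2 ⟨?_, ?_⟩
  · rw [coeff_expand hp.out.pos, if_pos (dvd_zero p), Nat.zero_div, hf.1]
  · have e : ∀ z : A[X][X], (expand A p f).eval₂ (C.comp C) z = f.eval₂ (C.comp C) (z ^ p) := fun z => by
      rw [expand_eq_comp_X_pow, eval₂_comp]
      simp
    have h2 : (C X + X : A[X][X]) ^ p = (C X) ^ p + X ^ p := by
      rcases subsingleton_or_nontrivial A with hA | hA
      · exact Subsingleton.elim _ _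
      have := charP_of_eq_zero p h
      exact add_pow_char _ _ _
    rw [e, e, e, h2, hf.eval₂_add]

theorem exists_expand (h : (p : A) = 0) {f : A[X]} (hf : IsChar f) (h1 : f.coeff 1 = 0) :
    ∃ g : A[X], IsChar g ∧ expand A p g = f := by
  have h0 : ∀ n, ¬ p ∣ n → f.coeff n = 0 := by
    intro n hn
    rcases subsingleton_or_nontrivial A with hA | hA
    · exact Subsingleton.elim _ _
    have := charP_of_eq_zero p h
    have hn0 : n ≠ 0 := fun h => hn (h ▸ dvd_zero p)
    obtain ⟨m, rfl⟩ := Nat.exists_eq_succ_of_ne_zero hn0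
    have h2 := hf.2 m 1
    rw [h1, mul_zero, Nat.choose_symm_add, Nat.choose_one_right] at h2
    exact (K770.Char.isUnit_natCast p hn).mul_right_eq_zero.1 h2.symm
  have hc : expand A p (contract p f) = f := by
    ext n
    rw [coeff_expand hp.out.pos]
    split_ifs with hn
    · obtain ⟨m, rfl⟩ := hn
      rw [Nat.mul_div_cancel_left _ hp.out.pos, coeff_contract hp.out.ne_zero, mul_comm]
    · exact (h0 n hn).symm
  refine ⟨contract p f, ⟨?_, fun i j => ?_⟩, hc⟩
  · rw [coeff_contract hp.out.ne_zero, zero_mul, hf.1]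
  · rw [coeff_contract hp.out.ne_zero, coeff_contract hp.out.ne_zero, coeff_contract hp.out.ne_zero, hf.2, ← add_mul,
      mul_comm (i + j) p, mul_comm i p, choose_mul p h]

end K771.FrobAlg
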