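import Groth.Agent.GaDual.K771.Char
import Groth.Agent.GaDual.K771.AffHom
import Groth.Agent.GaDual.K771.FrobAlg
import Mathlib.Algebra.Category.Grp.Abelian

/-!
# The Frobenius sequences for `G_a` and its dual

`X` a scheme with `p = 0`, `φ : G_a ⟶ G_a` the Frobenius (`ga (m φ W y) = ga y ^ p`).

* `lin X : Gad X ⟶ Ga X`: the linear coefficient of a character.
* `shortExact_dual`: `0 ⟶ Gad ⟶ Gad ⟶ ker φ ⟶ 0` (first map the dual of `φ`).
* `epi_frob`, `shortExact_frob`: `0 ⟶ ker φ ⟶ G_a ⟶ G_a ⟶ 0`.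
-/

set_option autoImplicit false
universe u
open CategoryTheory CategoryTheory.Limits AlgebraicGeometry Opposite Polynomial

noncomputable section

namespace K771.FrobSeq

open Groth.Agent.Etdl.H432.Sec Groth.Agent.Etdl.H494 K771.Pts K771.HomEv K771.DDAlg K771.Aff K771.Char K771.AffLocal
  K771.AffHom

variable (X : Scheme.{u})

/-- The linear coefficient. -/
def lin : Gad X ⟶ Ga X :=
  homA (fun T _ => AddMonoidHom.mk' (fun s => gas ((poly s).coeff 1)) (fun s t => by
    rw [poly_add, ← gas_add, mul_coeff_one, (isChar_poly s).1, (isChar_poly t).1, one_mul, mul_one, add_comm]))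
    (fun T T' hT hT' g s => by
      change r (Ga X) g (gas _) = gas _
      rw [r_gas, poly_r, coeff_map])

variable {X}

theorem ga_lin {T : Over X} [hT : IsAffine T.left] (s : Γs (Gad X) T) : ga (m (lin X) T s) = (poly s).coeff 1 := by
  rw [lin, m_homA _ _ T hT]
  exact ga_gas _

variable {p : ℕ} [hp : Fact p.Prime] (h : (p : Γ(X, ⊤)) = 0) {φ : Ga X ⟶ Ga X}
  (hφ : ∀ (W : Over X) (y : Γs (Ga X) W), ga (m φ W y) = ga y ^ p)

include h in
omit hp in
theorem natCast_eq_zero (T : Over X) : (p : O T) = 0 := by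
  have h1 := congrArg T.hom.appTop.hom h
  rwa [map_natCast, map_zero] at h1

/-- The dual of an endomorphism of `G_a`. -/
abbrev dual (φ : Ga X ⟶ Ga X) : Gad X ⟶ Gad X := HomSh.homShMap (EtFppf.J X) φ (𝟙 (Gm X))

include hφ in
omit hp in
theorem poly_dual {T : Over X} [IsAffine T.left] (s : Γs (Gad X) T) :
    poly (m (dual φ) T s) = expand (O T) p (poly s) := by
  refine poly_eq fun W g y => ?_
  rw [dual, ev_map_left, gm_ev, hφ, expand_eq_comp_X_pow, eval₂_comp]
  simp

include h hφ in
theorem lin_comp : lin X ≫ φ = 0 := by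
  refine hom_ext_affine fun T hT s => ?_
  rw [m_comp, m_zero]
  apply ga_injective
  rw [hφ, ga_lin, ga_zero, FrobAlg.coeff_one_pow p (natCast_eq_zero h T) (isChar_poly s)]

include hφ in
theorem dual_lin : dual φ ≫ lin X = 0 := by
  refine hom_ext_affine fun T hT s => ?_
  rw [m_comp, m_zero]
  apply ga_injective
  rw [ga_lin, ga_zero, poly_dual hφ, coeff_expand hp.out.pos, if_neg]
  exact fun h => hp.out.one_lt.ne' (Nat.dvd_one.1 h)

/-- The linear coefficient, with values in the kernel of Frobenius. -/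
def linK (h : (p : Γ(X, ⊤)) = 0) (hφ : ∀ (W : Over X) (y : Γs (Ga X) W), ga (m φ W y) = ga y ^ p) :
    Gad X ⟶ kernel φ := kernel.lift φ (lin X) (lin_comp h hφ)

/-- `0 ⟶ Gad ⟶ Gad ⟶ ker φ ⟶ 0`. -/
def seqDual (h : (p : Γ(X, ⊤)) = 0) (hφ : ∀ (W : Over X) (y : Γs (Ga X) W), ga (m φ W y) = ga y ^ p) :
    ShortComplex (EtFppf.AbF X) :=
  ShortComplex.mk (dual φ) (linK h hφ) (by
    rw [← cancel_mono (kernel.ι φ), Category.assoc, linK, kernel.lift_ι, dual_lin hφ, Limits.zero_comp])

theorem m_ι_linK {T : Over X} (s : Γs (Gad X) T) : m (kernel.ι φ) T (m (linK h hφ) T s) = m (lin X) T s := by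
  rw [← m_comp, linK, kernel.lift_ι]

theorem injective_ι (T : Over X) : Function.Injective (m (kernel.ι φ) T) :=
  K731.Basic.injective_of_mono (K := Scheme.fppfPrecoverage) (kernel.ι φ) (op T)

theorem shortExact_dual : (seqDual h hφ).ShortExact := by
  refine shortExact_of_affine' _ (fun T hT s hs => ?_) (fun T hT s hs => ?_) (fun T hT t => ?_)
  · change Γs (Gad X) T at s
    change s = 0
    apply poly_injective
    have h1 : poly (m (dual φ) T s) = 1 := by
      have : m (dual φ) T s = 0 := hs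
      rw [this, poly_zero]
    rw [poly_dual hφ] at h1
    rw [poly_zero]
    apply expand_injective (R := O T) hp.out.pos
    rw [h1, map_one]
  · change Γs (Gad X) T at s
    have h1 : m (lin X) T s = 0 := by
      rw [← m_ι_linK h hφ]
      have : m (linK h hφ) T s = 0 := hs
      rw [this, map_zero]
    have h2 := congrArg ga h1
    rw [ga_lin, ga_zero] at h2
    obtain ⟨g, hg, hgs⟩ := FrobAlg.exists_expand p (natCast_eq_zero h T) (isChar_poly s) h2
    refine ⟨ofChar g hg, poly_injective ?_⟩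
    change poly (m (dual φ) T _) = _
    rw [poly_dual hφ, poly_ofChar, hgs]
  · change Γs (kernel φ) T at t
    let a := ga (m (kernel.ι φ) T t)
    have ha : a ^ p = 0 := by
      rw [← hφ, ← m_comp, kernel.condition, m_zero, ga_zero]
    obtain ⟨f, hf, hfa⟩ := FrobAlg.exists_isChar p (natCast_eq_zero h T) ha
    refine ⟨ofChar f hf, injective_ι T (ga_injective ?_)⟩
    change ga (m (kernel.ι φ) T (m (linK h hφ) T _)) = _
    rw [m_ι_linK, ga_lin, poly_ofChar, hfa]

/-- `0 ⟶ ker φ ⟶ G_a ⟶ G_a ⟶ 0`. -/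
def seqFrob (φ : Ga X ⟶ Ga X) : ShortComplex (EtFppf.AbF X) := ShortComplex.mk (kernel.ι φ) φ (kernel.condition φ)

theorem isCov_π {T : Over X} [IsAffine T.left] {R : Type u} [CommRing R] (α : O T →+* R)
    (h1 : α.FaithfullyFlat) (h2 : α.FinitePresentation) : IsCov (fun _ : PUnit.{u + 2} => π α) := by
  obtain ⟨h3, h4⟩ := (flat_and_surjective_SpecMap_iff (CommRingCat.ofHom α)).2 h1
  have h5 : LocallyOfFinitePresentation (Spec.map (CommRingCat.ofHom α)) :=
    (HasRingHomProperty.Spec_iff (P := @LocallyOfFinitePresentation)).2 h2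
  intro x
  refine ⟨PUnit.unit, ?_, ?_, ?_⟩
  · exact inferInstanceAs (Flat (Spec.map (CommRingCat.ofHom α) ≫ T.left.isoSpec.inv))
  · exact inferInstanceAs (LocallyOfFinitePresentation (Spec.map (CommRingCat.ofHom α) ≫ T.left.isoSpec.inv))
  · have h6 : Surjective (Spec.map (CommRingCat.ofHom α) ≫ T.left.isoSpec.inv) := inferInstance
    exact h6.surj x

theorem faithfullyFlat_adjoinRoot {A : Type u} [CommRing A] {f : A[X]} (hf : f.Monic) (hd : 0 < f.natDegree) :
    (AdjoinRoot.of f).FaithfullyFlat := by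
  have h1 := hf.free_adjoinRoot
  rcases subsingleton_or_nontrivial A with hA | hA
  · have : f.natDegree = 0 := by rw [Subsingleton.elim f 0, natDegree_zero]
    omega
  · have : Nontrivial (AdjoinRoot f) := by
      have h2 : Nonempty (Fin (AdjoinRoot.powerBasis' hf).dim) := ⟨⟨0, by simpa using hd⟩⟩
      exact (AdjoinRoot.powerBasis' hf).basis.repr.toEquiv.nontrivial
    exact (RingHom.faithfullyFlat_algebraMap_iff (R := A) (S := AdjoinRoot f)).2 inferInstance

include hφ in
theorem epi_frob : Epi φ := by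
  refine epi_of_affine φ fun T hT t => ?_
  let f : Polynomial (O T) := Polynomial.X ^ p - C (ga t)
  have hf : f.Monic := monic_X_pow_sub_C _ hp.out.ne_zero
  rcases subsingleton_or_nontrivial (O T) with hA | hA
  · refine ⟨PUnit, fun _ => T, fun _ => 𝟙 T, isCov_id T, fun _ => ⟨0, ?_⟩⟩
    apply ga_injective
    exact Subsingleton.elim _ _
  refine ⟨PUnit, fun _ => aff (AdjoinRoot.of f), fun _ => π (AdjoinRoot.of f),
    isCov_π _ (faithfullyFlat_adjoinRoot hf ?_) ?_, fun _ => ⟨gas (e (AdjoinRoot.of f) (AdjoinRoot.root f)), ?_⟩⟩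
  · rw [natDegree_X_pow_sub_C]
    exact hp.out.pos
  · exact (RingHom.finitePresentation_algebraMap (A := O T) (B := AdjoinRoot f)).2 inferInstance
  · apply ga_injective
    rw [hφ, ga_gas, ga_r, ro_π, ← map_pow]
    congr 1
    have h1 := AdjoinRoot.eval₂_root f
    simp only [f, eval₂_sub, eval₂_X_pow, eval₂_C, sub_eq_zero] at h1
    exact h1

include hφ in
theorem shortExact_frob : (seqFrob φ).ShortExact where
  exact := ShortComplex.exact_of_f_is_kernel _ (kernelIsKernel φ)
  mono_f := inferInstanceAs (Mono (kernel.ι φ))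
  epi_g := epi_frob hφ

end K771.FrobSeq
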