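import Groth.Agent.GaDual.K771.ConstRed
import Groth.Agent.GaDual.K771.PicLift
import Groth.Agent.GaDual.K771.HExt

/-!
# Homomorphisms out of `G_a` from sections over the affine line

* `un`: the universal section of `G_a`; `pt y : W ⟶ 𝔸¹_X`.
* `mkH G`: a homomorphism `G_a ⟶ F` from a natural additive function.
* `exists_lift_hom`: over a reduced base, `f : G_a ⟶ Q` lifts to `E` if its value at the universal section does.
* `ext_one_of_lift`: `Ext^1(A, F) = 0` if all `A ⟶ I / F` lift to `I`, `I` injective.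
-/

set_option autoImplicit false
universe u
open CategoryTheory CategoryTheory.Limits AlgebraicGeometry Opposite

noncomputable section

namespace K771.RedExt

open Groth.Agent.Etdl.H432.Sec Groth.Agent.Etdl.H494 K771.Pts

variable {X : Scheme.{u}}

/-- The universal section. -/
def un (X : Scheme.{u}) : Γs (Ga X) (Red.Ga X) := ULift.up (Additive.ofMul (𝟙 (Red.Ga X)))

/-- The morphism to the affine line given by a section of `G_a`. -/
def pt {W : Over X} (y : Γs (Ga X) W) : W ⟶ Red.Ga X := Additive.toMul (ULift.down y)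

theorem r_pt_un {W : Over X} (y : Γs (Ga X) W) : r (Ga X) (pt y) (un X) = y := by
  change ULift.up (Additive.ofMul (pt y ≫ 𝟙 (Red.Ga X))) = y
  rw [Category.comp_id]
  rfl

theorem pt_r {W W' : Over X} (k : W' ⟶ W) (y : Γs (Ga X) W) : pt (r (Ga X) k y) = k ≫ pt y := rfl

/-- Homomorphisms from natural additive functions. -/
def mkH {H F : EtFppf.AbF X} (G : ∀ W : Over X, Γs H W →+ Γs F W)
    (hG : ∀ (W W' : Over X) (k : W' ⟶ W) (y : Γs H W), r F k (G W y) = G W' (r _ k y)) : H ⟶ F :=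
  ⟨{ app := fun W => AddCommGrpCat.ofHom (G W.unop)
     naturality := fun W W' k => AddCommGrpCat.ext fun y => (hG W.unop W'.unop k.unop y).symm }⟩

theorem m_mkH {H F : EtFppf.AbF X} (G : ∀ W : Over X, Γs H W →+ Γs F W)
    (hG : ∀ (W W' : Over X) (k : W' ⟶ W) (y : Γs H W), r F k (G W y) = G W' (r _ k y)) (W : Over X) (y : Γs H W) :
    m (mkH G hG) W y = G W y := rfl

theorem hom_ext_m {F G : EtFppf.AbF X} {φ ψ : F ⟶ G} (h : ∀ (W : Over X) (s : Γs F W), m φ W s = m ψ W s) : φ = ψ :=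
  Sheaf.hom_ext (NatTrans.ext (funext fun W => AddCommGrpCat.ext fun s => h W.unop s))

variable {S : ShortComplex (EtFppf.AbF X)} (hS : S.Exact) [hm : Mono S.f] (e₁ : S.X₁ ≅ Gm X)

include hS e₁ in
/-- Over a reduced base a homomorphism `G_a ⟶ Q` whose value at the universal section lifts to `E` lifts to a
homomorphism. -/
theorem exists_lift_hom [IsReduced X] (f : Ga X ⟶ S.X₃) (a : Γs S.X₂ (Red.Ga X)) (ha : m S.g _ a = m f _ (un X)) :
    ∃ ψ : Ga X ⟶ S.X₂, ψ ≫ S.g = f := by
  let G : ∀ W : Over X, Γs (Ga X) W → Γs S.X₂ W := fun W y => r S.X₂ (pt y) a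
  have hG : ∀ (W W' : Over X) (k : W' ⟶ W) (y : Γs (Ga X) W), r S.X₂ k (G W y) = G W' (r _ k y) := fun W W' k y => by
    change r S.X₂ k (r S.X₂ (pt y) a) = r S.X₂ (pt (r _ k y)) a
    rw [r_r, pt_r]
  have hGf : ∀ (W : Over X) (y : Γs (Ga X) W), m S.g W (G W y) = m f W y := fun W y => by
    change m S.g W (r S.X₂ (pt y) a) = _
    rw [m_r, ha, ← m_r, r_pt_un]
  have hinj : ∀ W : Over X, Function.Injective (m S.f W) := fun W =>
    K731.Basic.injective_of_mono (K := Scheme.fppfPrecoverage) S.f (op W)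
  have h1 : ∀ (W : Over X) (y y' : Γs (Ga X) W), ∃ t : Γs S.X₁ W, m S.f W t = G W (y + y') - G W y - G W y' := by
    intro W y y'
    refine K731.Basic.exists_of_exact_of_mono (K := Scheme.fppfPrecoverage) S hS _ ?_
    change m S.g _ _ = 0
    rw [map_sub, map_sub, hGf, hGf, hGf, map_add]
    abel
  choose t ht using h1
  have ht_nat : ∀ (W W' : Over X) (k : W' ⟶ W) (y y' : Γs (Ga X) W), r S.X₁ k (t W y y') = t W' (r _ k y) (r _ k y') := by
    intro W W' k y y'
    apply hinj
    rw [m_r, ht, ht, map_sub, map_sub, hG, hG, hG, map_add]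
  let T₀ : Over X := Over.mk (𝟙 X)
  let s : ∀ W : Over X, W ⟶ T₀ := fun W => Over.mkIdTerminal.from W
  have hs : ∀ (W W' : Over X) (k : W' ⟶ W), k ≫ s W = s W' := fun W W' k => Over.mkIdTerminal.hom_ext _ _
  have hconst : ∀ (W : Over X) (y y' : Γs (Ga X) W), t W y y' = r S.X₁ (s W) (t T₀ 0 0) := by
    intro W y y'
    have h2 := ConstRed.const_of_reduced₂ (fun W y y' => m e₁.hom W (t W y y')) (fun W W' k y y' => by
      rw [← m_r, ht_nat]) y y' (s W)
    have h3 := congrArg (m e₁.inv W) h2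
    simp only [← m_r] at h3
    rwa [← m_comp, Iso.hom_inv_id, m_id, ← m_comp, Iso.hom_inv_id, m_id] at h3
  let c : ∀ W : Over X, Γs S.X₂ W := fun W => m S.f W (r S.X₁ (s W) (t T₀ 0 0))
  have hadd : ∀ (W : Over X) (y y' : Γs (Ga X) W), G W (y + y') + c W = (G W y + c W) + (G W y' + c W) := by
    intro W y y'
    have h4 := ht W y y'
    rw [hconst] at h4
    change c W = _ at h4
    have h5 : G W (y + y') = c W + G W y + G W y' := by
      rw [h4]; abel
    rw [h5]
    abel
  let E : ∀ W : Over X, Γs (Ga X) W →+ Γs S.X₂ W := fun W => AddMonoidHom.mk' (fun y => G W y + c W) (hadd W)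
  refine ⟨mkH E (fun W W' k y => ?_), ?_⟩
  · change r S.X₂ k (G W y + c W) = G W' (r _ k y) + c W'
    rw [map_add, hG]
    congr 1
    change r S.X₂ k (m S.f W (r S.X₁ (s W) (t T₀ 0 0))) = m S.f W' (r S.X₁ (s W') (t T₀ 0 0))
    rw [← m_r, r_r, hs]
  · refine hom_ext_m fun W y => ?_
    rw [m_comp, m_mkH]
    change m S.g W (G W y + c W) = _
    rw [map_add, hGf]
    change _ + m S.g W (m S.f W _) = _
    rw [← m_comp, S.zero, m_zero, add_zero]

end K771.RedExt

namespace K771.RedExt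

open Abelian

/-- `Ext^1(A, S.X₁) = 0` if `S.X₂` is injective and all morphisms `A ⟶ S.X₃` lift. -/
theorem ext_one_of_lift {C : Type*} [Category* C] [Abelian C] [HasExt C] {S : ShortComplex C} (hS : S.ShortExact)
    [Injective S.X₂] (A : C) (h : ∀ f : A ⟶ S.X₃, ∃ ψ : A ⟶ S.X₂, ψ ≫ S.g = f) : Subsingleton (Ext A S.X₁ 1) := by
  refine subsingleton_of_forall_eq 0 fun x => ?_
  obtain ⟨y, rfl⟩ := Ext.covariant_sequence_exact₁ A hS x (Ext.eq_zero_of_injective _) rfl
  obtain ⟨f, rfl⟩ := Ext.homEquiv₀.symm.surjective y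
  obtain ⟨ψ, rfl⟩ := h f
  rw [Ext.homEquiv₀_symm_apply, ← Ext.mk₀_comp_mk₀, Ext.comp_assoc_of_second_deg_zero, hS.comp_extClass, Ext.comp_zero]

end K771.RedExt
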