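import Groth.Prelude.Def_CGrpSh2
import Groth.Agent.Etdl.H432.Sec

/-!
# Sections of the internal Hom on the big fppf site, elementwise

`ev φ h : Γs F W →+ Γs G W` for `φ : F|_T ⟶ G|_T` and `h : W ⟶ T`.
-/

set_option autoImplicit false
universe u
open CategoryTheory CategoryTheory.Limits AlgebraicGeometry Opposite

noncomputable section

namespace K771.HomEv

open Groth.Agent.Etdl.H432.Sec

variable {X : Scheme.{u}} {F G H : EtFppf.AbF X} {T : Over X}

/-- Sections of the internal Hom. -/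
abbrev hom (F G : EtFppf.AbF X) : EtFppf.AbF X := HomSh.homSh (EtFppf.J X) F G

/-- The value of `φ : F|_T ⟶ G|_T` on sections over `h : W ⟶ T`. -/
def ev (φ : Γs (hom F G) T) {W : Over X} (h : W ⟶ T) : Γs F W →+ Γs G W :=
  ((show F.over T ⟶ G.over T from φ).hom.app (op (Over.mk h))).hom

theorem ev_r' (φ : Γs (hom F G) T) {W W' : Over X} (h : W ⟶ T) (k : W' ⟶ W) (x : Γs F W) :
    r G k (ev φ h x) = ev φ (k ≫ h) (r F k x) :=
  (ConcreteCategory.congr_hom ((show F.over T ⟶ G.over T from φ).hom.naturality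
    (Over.homMk k : Over.mk (k ≫ h) ⟶ Over.mk h).op) x).symm

theorem ev_ext {φ ψ : Γs (hom F G) T} (e : ∀ (W : Over X) (h : W ⟶ T) (x : Γs F W), ev φ h x = ev ψ h x) :
    φ = ψ := by
  refine (Sheaf.hom_ext (NatTrans.ext (funext fun W => AddCommGrpCat.ext fun x => ?_)) :
    (show F.over T ⟶ G.over T from φ) = (show F.over T ⟶ G.over T from ψ))
  exact e W.unop.left W.unop.hom x

/-- Sections of the internal Hom from compatible families. -/
def mk (E : ∀ (W : Over X) (_ : W ⟶ T), Γs F W →+ Γs G W)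
    (hE : ∀ (W W' : Over X) (h : W ⟶ T) (k : W' ⟶ W) (x : Γs F W), r G k (E W h x) = E W' (k ≫ h) (r F k x)) :
    Γs (hom F G) T :=
  (show F.over T ⟶ G.over T from
  ⟨{ app := fun W => AddCommGrpCat.ofHom (E W.unop.left W.unop.hom)
     naturality := fun W W' k => by
      refine AddCommGrpCat.ext fun x => ?_
      have h1 := hE W.unop.left W'.unop.left W.unop.hom k.unop.left x
      have h2 : k.unop.left ≫ W.unop.hom = W'.unop.hom := Over.w k.unop
      rw [h2] at h1
      exact h1.symm }⟩)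

theorem ev_mk (E : ∀ (W : Over X) (_ : W ⟶ T), Γs F W →+ Γs G W)
    (hE : ∀ (W W' : Over X) (h : W ⟶ T) (k : W' ⟶ W) (x : Γs F W), r G k (E W h x) = E W' (k ≫ h) (r F k x))
    {W : Over X} (h : W ⟶ T) (x : Γs F W) : ev (mk E hE) h x = E W h x := rfl

theorem ev_r {T' : Over X} (φ : Γs (hom F G) T) (k : T' ⟶ T) {W : Over X} (h : W ⟶ T') (x : Γs F W) :
    ev (r (hom F G) k φ) h x = ev φ (h ≫ k) x := rfl

theorem ev_add (φ ψ : Γs (hom F G) T) {W : Over X} (h : W ⟶ T) (x : Γs F W) :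
    ev (φ + ψ) h x = ev φ h x + ev ψ h x := rfl

theorem ev_zero {W : Over X} (h : W ⟶ T) (x : Γs F W) : ev (0 : Γs (hom F G) T) h x = 0 := rfl

theorem ev_map_left {F' : EtFppf.AbF X} (α : F' ⟶ F) (φ : Γs (hom F G) T) {W : Over X} (h : W ⟶ T) (x : Γs F' W) :
    ev (m (HomSh.homShMap (EtFppf.J X) α (𝟙 G)) T φ) h x = ev φ h (m α W x) := rfl

theorem ev_map_right {G' : EtFppf.AbF X} (β : G ⟶ G') (φ : Γs (hom F G) T) {W : Over X} (h : W ⟶ T) (x : Γs F W) :
    ev (m (HomSh.homShMap (EtFppf.J X) (𝟙 F) β) T φ) h x = m β W (ev φ h x) := rfl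

/-- Evaluation at sections: the bidual map. -/
theorem ev_bidual (M : EtFppf.AbF X) (s : Γs F T) {W : Over X} (h : W ⟶ T) (φ : Γs (hom F M) W) :
    ev (m (HomSh.bidualMap (EtFppf.J X) F M) T s) h φ = ev φ (𝟙 W) (r F h s) := rfl

/-- Global sections of the internal Hom over a terminal object, from morphisms. -/
def ofHom (φ : F ⟶ G) (T : Over X) : Γs (hom F G) T :=
  mk (fun W _ => m φ W) (fun _ _ _ k x => (m_r φ k x).symm)

theorem ev_ofHom (φ : F ⟶ G) (T : Over X) {W : Over X} (h : W ⟶ T) (x : Γs F W) : ev (ofHom φ T) h x = m φ W x := rfl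

end K771.HomEv
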