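import Groth.Agent.Etdl.H432.Sec
import Groth.Agent.Sga4h.EtSpec

/-!
# Relative spectra over an affine object of the big site

For `T : Over X` with `T.left` affine and a ring hom `α : O T →+* R`: `aff T α : Over X` with `π : aff T α ⟶ T` and
`e : R ≃+* O (aff T α)`.
-/

set_option autoImplicit false
universe u
open CategoryTheory CategoryTheory.Limits AlgebraicGeometry Opposite

noncomputable section

namespace K771.Aff

open Groth.Agent.Etdl.H432.Sec

variable {X : Scheme.{u}} {T : Over X} [IsAffine T.left] {R : Type u} [CommRing R] (α : O T →+* R)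

/-- `Spec R` as an object over `X`. -/
def aff : Over X := Over.mk (Spec.map (CommRingCat.ofHom α) ≫ T.left.isoSpec.inv ≫ T.hom)

instance : IsAffine (aff α).left := inferInstanceAs (IsAffine (Spec (CommRingCat.of R)))

/-- The projection. -/
def π : aff α ⟶ T := Over.homMk (Spec.map (CommRingCat.ofHom α) ≫ T.left.isoSpec.inv) (Category.assoc _ _ _)

/-- The functions on `aff α`. -/
def e : R ≃+* O (aff α) := (Scheme.ΓSpecIso (CommRingCat.of R)).symm.commRingCatIsoToRingEquiv

theorem e_apply (x : R) : e α x = (Scheme.ΓSpecIso (CommRingCat.of R)).inv.hom x := rfl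

theorem ro_isoSpec_inv (x : O T) :
    T.left.isoSpec.inv.appTop.hom x = (Scheme.ΓSpecIso (CommRingCat.of (O T))).inv.hom x := by
  have h1 : T.left.isoSpec.inv.appTop = (Scheme.ΓSpecIso Γ(T.left, ⊤)).inv := by
    have h2 : T.left.isoSpec.hom.appTop = (Scheme.ΓSpecIso Γ(T.left, ⊤)).hom := by
      rw [← Scheme.toSpecΓ_appTop]
      rfl
    have h3 : T.left.isoSpec.hom.appTop ≫ T.left.isoSpec.inv.appTop = 𝟙 _ := by
      rw [← Scheme.Hom.comp_appTop, Iso.inv_hom_id]
      simp
    rw [h2] at h3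
    rw [← cancel_epi (Scheme.ΓSpecIso Γ(T.left, ⊤)).hom, h3, Iso.hom_inv_id]
  rw [h1]
  rfl

theorem ro_π (x : O T) : ro (π α) x = e α (α x) := by
  change (Spec.map (CommRingCat.ofHom α) ≫ T.left.isoSpec.inv).appTop.hom x = _
  rw [Scheme.Hom.comp_appTop]
  refine (congrArg (Scheme.Hom.appTop (Spec.map (CommRingCat.ofHom α))).hom (ro_isoSpec_inv x)).trans ?_
  exact congr($((Scheme.ΓSpecIso_inv_naturality (CommRingCat.ofHom α)).symm).hom x)

theorem hom_ext {V : Over X} (k k' : V ⟶ aff α) (h : ∀ x, ro k (e α x) = ro k' (e α x)) : k = k' := by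
  ext : 1
  exact Groth.Agent.Sga4h.EtSpec.spec_hom_ext _ _ h

/-- Two morphisms to an affine object over `X` agree if they agree on functions and over `X`. -/
theorem hom_ext' {V : Over X} (k k' : V ⟶ T) (h : ∀ x, ro k x = ro k' x) : k = k' := by
  ext : 1
  rw [← cancel_mono T.left.isoSpec.hom]
  refine Groth.Agent.Sga4h.EtSpec.spec_hom_ext _ _ fun x => ?_
  rw [Scheme.Hom.comp_appTop, Scheme.Hom.comp_appTop]
  exact h _

theorem exists_hom {V : Over X} (h : V ⟶ T) (ρ : R →+* O V) (hρ : ∀ x, ρ (α x) = ro h x) :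
    ∃ k : V ⟶ aff α, k ≫ π α = h ∧ ∀ x, ro k (e α x) = ρ x := by
  obtain ⟨f, hf⟩ := Groth.Agent.Sga4h.EtSpec.exists_hom_spec V.left ρ
  have h1 : f ≫ Spec.map (CommRingCat.ofHom α) ≫ T.left.isoSpec.inv = h.left := by
    rw [← cancel_mono T.left.isoSpec.hom]
    simp only [Category.assoc, Iso.inv_hom_id, Category.comp_id]
    refine Groth.Agent.Sga4h.EtSpec.spec_hom_ext _ _ fun x => ?_
    rw [Scheme.Hom.comp_appTop, Scheme.Hom.comp_appTop]
    have h2 := congr($((Scheme.ΓSpecIso_inv_naturality (CommRingCat.ofHom α)).symm).hom x)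
    refine (congrArg f.appTop.hom h2).trans ((hf (α x)).trans ((hρ x).trans ?_))
    change h.left.appTop.hom x = h.left.appTop.hom (T.left.isoSpec.hom.appTop.hom ((Scheme.ΓSpecIso Γ(T.left, ⊤)).inv.hom x))
    congr 1
    have h3 : T.left.isoSpec.hom.appTop = (Scheme.ΓSpecIso Γ(T.left, ⊤)).hom := by
      rw [← Scheme.toSpecΓ_appTop]
      rfl
    rw [h3]
    exact congr($((Scheme.ΓSpecIso Γ(T.left, ⊤)).inv_hom_id.symm).hom x)
  have h4 : f ≫ (aff α).hom = V.hom := by
    change f ≫ Spec.map (CommRingCat.ofHom α) ≫ T.left.isoSpec.inv ≫ T.hom = V.hom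
    rw [← Over.w h, ← h1]
    simp only [Category.assoc]
  refine ⟨Over.homMk f h4, ?_, hf⟩
  ext : 1
  exact h1

end K771.Aff
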