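import Groth.Agent.GaDual.K771.Hur
import Mathlib.Algebra.Polynomial.Taylor
import Mathlib.Algebra.Polynomial.HasseDeriv
import Mathlib.Algebra.Polynomial.Eval.Degree

/-!
# Characters of the additive group and the double dual, algebraically

`IsChar f`: the coefficients of `f : A[X]` satisfy `c_0 = 1`, `c_i c_j = (i + j choose i) c_{i + j}`, equivalently
`f (x + y) = f x * f y`, `f 0 = 1`.

`exists_eval`: a multiplicative natural function on characters (over all `A`-algebras) is the evaluation at an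
element of `A`.
-/

set_option autoImplicit false
universe u v

open Finset Polynomial

noncomputable section

namespace K771.DDAlg

open K771.Hur

/-- `f` is a character of the additive group. -/
def IsChar {A : Type u} [CommRing A] (f : A[X]) : Prop :=
  f.coeff 0 = 1 ∧ ∀ i j, f.coeff i * f.coeff j = ((i + j).choose i : A) * f.coeff (i + j)

section basic

variable {A : Type u} [CommRing A] {B : Type v} [CommRing B]

/-- `f (X + Y)`, as a polynomial in `Y` over `A[X]`. -/
theorem coeff_coeff_taylor (f : A[X]) (i j : ℕ) :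
    ((f.eval₂ (C.comp C) (C X + X) : A[X][X]).coeff j).coeff i = ((i + j).choose i : A) * f.coeff (i + j) := by
  have h : (f.eval₂ (C.comp C) (C X + X) : A[X][X]) = taylor (X : A[X]) (f.map C) := by
    rw [taylor_apply, comp, eval₂_map, add_comm]
  have h2 : hasseDeriv j (f.map (C : A →+* A[X])) = (hasseDeriv j f).map C := by
    ext1 k
    rw [hasseDeriv_coeff, coeff_map, coeff_map, hasseDeriv_coeff, map_mul, map_natCast]
  rw [h, taylor_coeff, h2, eval_map, eval₂_C_X, hasseDeriv_coeff]
  congr 2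
  rw [Nat.choose_symm_add]

theorem isChar_iff (f : A[X]) : IsChar f ↔ f.coeff 0 = 1 ∧
    (f.eval₂ (C.comp C) (C X + X) : A[X][X]) = f.eval₂ (C.comp C) (C X) * f.eval₂ (C.comp C) X := by
  refine and_congr Iff.rfl ⟨fun h => ?_, fun h i j => ?_⟩
  · ext j i
    rw [coeff_coeff_taylor, ← h]
    have h1 : (f.eval₂ (C.comp C) (C X) : A[X][X]) = C f := by
      have : (f.eval₂ (C.comp C) (C X) : A[X][X]) = C (f.eval₂ C X) := (hom_eval₂ f C C X).symm
      rw [this, eval₂_C_X]
    have h2 : (f.eval₂ (C.comp C) X : A[X][X]) = f.map C := by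
      rw [← eval₂_map, eval₂_C_X]
    rw [h1, h2, coeff_C_mul, coeff_map, coeff_mul_C]
  · rw [← coeff_coeff_taylor, h]
    have h1 : (f.eval₂ (C.comp C) (C X) : A[X][X]) = C f := by
      have : (f.eval₂ (C.comp C) (C X) : A[X][X]) = C (f.eval₂ C X) := (hom_eval₂ f C C X).symm
      rw [this, eval₂_C_X]
    have h2 : (f.eval₂ (C.comp C) X : A[X][X]) = f.map C := by
      rw [← eval₂_map, eval₂_C_X]
    rw [h1, h2, coeff_C_mul, coeff_map, coeff_mul_C]

theorem IsChar.eval₂_add {f : A[X]} (hf : IsChar f) (ρ : A →+* B) (x y : B) :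
    f.eval₂ ρ (x + y) = f.eval₂ ρ x * f.eval₂ ρ y := by
  have h := congrArg (eval₂RingHom (eval₂RingHom ρ x) y) ((isChar_iff f).1 hf).2
  rw [map_mul] at h
  have e : ∀ z : A[X][X], eval₂RingHom (eval₂RingHom ρ x) y (f.eval₂ (C.comp C) z) =
      f.eval₂ ρ (eval₂RingHom (eval₂RingHom ρ x) y z) := by
    intro z
    rw [hom_eval₂]
    congr 1
    ext a
    simp
  rw [e, e, e] at h
  simpa using h

theorem IsChar.eval₂_zero {f : A[X]} (hf : IsChar f) (ρ : A →+* B) : f.eval₂ ρ 0 = 1 := by
  rw [Polynomial.eval₂_at_zero, hf.1, map_one]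

theorem IsChar.map {f : A[X]} (hf : IsChar f) (ρ : A →+* B) : IsChar (f.map ρ) :=
  ⟨by rw [coeff_map, hf.1, map_one], fun i j => by
    rw [coeff_map, coeff_map, coeff_map, ← map_mul, hf.2, map_mul, map_natCast]⟩

theorem isChar_one : IsChar (1 : A[X]) := by
  refine (isChar_iff _).2 ⟨by simp, by simp⟩

theorem IsChar.mul {f g : A[X]} (hf : IsChar f) (hg : IsChar g) : IsChar (f * g) := by
  refine (isChar_iff _).2 ⟨?_, ?_⟩
  · rw [mul_coeff_zero, hf.1, hg.1, one_mul]
  · rw [eval₂_mul, eval₂_mul, eval₂_mul, ((isChar_iff f).1 hf).2, ((isChar_iff g).1 hg).2]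
    ring

end basic

section univ

variable (A : Type u) [CommRing A] (D : ℕ)

/-- The universal character of degree `< D`. -/
def chi : (DP A D)[X] := ∑ m ∈ range D, C (DP.t A D m) * X ^ m

theorem coeff_chi (m : ℕ) : (chi A D).coeff m = DP.t A D m := by
  rw [chi, finsetSum_coeff]
  simp only [coeff_C_mul_X_pow]
  by_cases hm : m < D
  · rw [Finset.sum_eq_single m]
    · rw [if_pos rfl]
    · intro b _ hb
      rw [if_neg (Ne.symm hb)]
    · intro h
      exact absurd (mem_range.2 hm) h
  · rw [DP.t_eq_zero A D m (by omega)]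
    refine Finset.sum_eq_zero fun b hb => ?_
    rw [if_neg]
    have := mem_range.1 hb
    omega

theorem isChar_chi : IsChar (chi A D) :=
  ⟨by rw [coeff_chi, DP.t_zero], fun i j => by rw [coeff_chi, coeff_chi, coeff_chi, DP.t_mul_t]⟩

variable {A D}

/-- The universal property of the universal character. -/
theorem exists_lift {B : Type v} [CommRing B] (ρ : A →+* B) (f : B[X]) (hf : IsChar f)
    (hD : ∀ m, D ≤ m → f.coeff m = 0) :
    ∃ σ : DP A D →+* B, σ.comp (DP.c A D) = ρ ∧ (∀ m, σ (DP.t A D m) = f.coeff m) ∧ (chi A D).map σ = f := by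
  refine ⟨DP.lift ρ f.coeff hf.1 hf.2 hD, ?_, ?_, ?_⟩
  · ext a
    exact DP.lift_c ρ f.coeff hf.1 hf.2 hD a
  · intro m
    exact DP.lift_t ρ f.coeff hf.1 hf.2 hD m
  · ext m
    rw [coeff_map, coeff_chi]
    exact DP.lift_t ρ f.coeff hf.1 hf.2 hD m

end univ

section dd

variable {A : Type u} [CommRing A]
  (Ψ : ∀ (B : Type u) [CommRing B] (_ : A →+* B), B[X] → B)
  (hnat : ∀ (B B' : Type u) [CommRing B] [CommRing B'] (ρ : A →+* B) (σ : B →+* B') (f : B[X]), IsChar f →
    Ψ B' (σ.comp ρ) (f.map σ) = σ (Ψ B ρ f))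
  (hone : Ψ A (RingHom.id A) 1 = 1)
  (hmul : ∀ (B : Type u) [CommRing B] (ρ : A →+* B) (f g : B[X]), IsChar f → IsChar g →
    Ψ B ρ (f * g) = Ψ B ρ f * Ψ B ρ g)

include hnat in
/-- A natural function on characters is linear in the coefficients. -/
theorem exists_linear : ∃ l : ℕ → A, ∀ (B : Type u) [CommRing B] (ρ : A →+* B) (f : B[X]), IsChar f →
    ∀ D, (∀ m, D ≤ m → f.coeff m = 0) → Ψ B ρ f = ∑ m ∈ range D, ρ (l m) * f.coeff m := by
  have h1 : ∀ D, ∃ a : ℕ → A, Ψ (DP A D) (DP.c A D) (chi A D) = ∑ m ∈ range D, DP.c A D (a m) * DP.t A D m :=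
    fun D => DP.exists_rep _
  choose a ha using h1
  have key : ∀ (B : Type u) [CommRing B] (ρ : A →+* B) (f : B[X]), IsChar f →
      ∀ D, (∀ m, D ≤ m → f.coeff m = 0) → Ψ B ρ f = ∑ m ∈ range D, ρ (a D m) * f.coeff m := by
    intro B _ ρ f hf D hD
    obtain ⟨σ, h2, h3, h4⟩ := exists_lift ρ f hf hD
    have h5 := hnat (DP A D) B (DP.c A D) σ (chi A D) (isChar_chi A D)
    rw [h4, h2] at h5
    rw [h5, ha, map_sum]
    refine sum_congr rfl fun m _ => ?_
    rw [map_mul, h3, ← h2]
    rfl
  have comp : ∀ D D' m, D ≤ D' → m < D → a D m = a D' m := by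
    intro D D' m hDD' hm
    have h2 := key (DP A D) (DP.c A D) (chi A D) (isChar_chi A D) D' (fun m hm => by
      rw [coeff_chi, DP.t_eq_zero A D m (hDD'.trans hm)])
    rw [ha] at h2
    have h3 : ∑ m ∈ range D', DP.c A D (a D' m) * (chi A D).coeff m =
        ∑ m ∈ range D, DP.c A D (a D' m) * DP.t A D m := by
      rw [← Finset.sum_subset (Finset.range_subset_range.2 hDD')]
      · refine sum_congr rfl fun m _ => ?_
        rw [coeff_chi]
      · intro m _ hm
        rw [coeff_chi, DP.t_eq_zero A D m (by simpa using hm), mul_zero]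
    rw [h3] at h2
    exact DP.rep_injective _ _ h2 m hm
  refine ⟨fun m => a (m + 1) m, fun B _ ρ f hf D hD => ?_⟩
  rw [key B ρ f hf D hD]
  refine sum_congr rfl fun m hm => ?_
  have := mem_range.1 hm
  change _ = ρ (a (m + 1) m) * f.coeff m
  rw [comp (m + 1) D m (by omega) (by omega)]

include hnat hone hmul in
/-- A multiplicative natural function on characters is an evaluation. -/
theorem exists_eval : ∃ a : A, ∀ (B : Type u) [CommRing B] (ρ : A →+* B) (f : B[X]), IsChar f →
    Ψ B ρ f = f.eval (ρ a) := by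
  obtain ⟨l, hl⟩ := exists_linear Ψ hnat
  -- the linear functional
  let L : ∀ (B : Type u) [CommRing B] (ρ : A →+* B), B[X] →ₗ[B] B := fun B _ ρ =>
    Polynomial.lsum fun m => LinearMap.toSpanSingleton B B (ρ (l m))
  have hLm : ∀ (B : Type u) [CommRing B] (ρ : A →+* B) (m : ℕ), L B ρ (X ^ m) = ρ (l m) := by
    intro B _ ρ m
    change (Polynomial.lsum fun m => LinearMap.toSpanSingleton B B (ρ (l m))) (X ^ m) = _
    rw [Polynomial.lsum_apply, Polynomial.X_pow_eq_monomial, Polynomial.sum_monomial_index]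
    · simp
    · simp
  have hLC : ∀ (B : Type u) [CommRing B] (ρ : A →+* B) (m : ℕ) (b : B), L B ρ (C b * X ^ m) = b * ρ (l m) := by
    intro B _ ρ m b
    rw [← smul_eq_C_mul, map_smul, hLm, smul_eq_mul]
  have hL : ∀ (B : Type u) [CommRing B] (ρ : A →+* B) (f : B[X]), IsChar f → Ψ B ρ f = L B ρ f := by
    intro B _ ρ f hf
    rw [hl B ρ f hf (f.natDegree + 1) (fun m hm => coeff_eq_zero_of_natDegree_lt (by omega))]
    conv_rhs => rw [f.as_sum_range_C_mul_X_pow]
    rw [map_sum]
    refine sum_congr rfl fun m _ => ?_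
    rw [hLC, mul_comm]
  have h0 : l 0 = 1 := by
    have h1 := hL A (RingHom.id A) 1 isChar_one
    have h2 := hLm A (RingHom.id A) 0
    rw [pow_zero] at h2
    rw [hone, h2] at h1
    exact h1.symm
  have hadd : ∀ i j, l (i + j) = l i * l j := by
    intro i j
    let D := i + j + 1
    let A' := DP A D
    let B := DP A' D
    let cA : A →+* A' := DP.c A D
    let cB : A' →+* B := DP.c A' D
    let f : B[X] := (chi A D).map cB
    let g : B[X] := chi A' D
    have hf : IsChar f := (isChar_chi A D).map cB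
    have hg : IsChar g := isChar_chi A' D
    have h1 := hmul B (cB.comp cA) f g hf hg
    rw [hL B _ _ (hf.mul hg), hL B _ _ hf, hL B _ _ hg] at h1
    have ef : f = ∑ i ∈ range D, C (cB (DP.t A D i)) * X ^ i := by
      simp only [f, chi, Polynomial.map_sum, Polynomial.map_mul, Polynomial.map_pow, Polynomial.map_C,
        Polynomial.map_X]
    have eg : g = ∑ j ∈ range D, C (DP.t A' D j) * X ^ j := rfl
    have e1 : L B (cB.comp cA) (f * g) = ∑ j ∈ range D, cB (∑ i ∈ range D, cA (l (i + j)) * DP.t A D i) * DP.t A' D j := by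
      rw [ef, eg, Finset.sum_mul_sum, Finset.sum_comm, map_sum]
      refine sum_congr rfl fun j _ => ?_
      rw [map_sum, map_sum, Finset.sum_mul]
      refine sum_congr rfl fun i _ => ?_
      have e : C (cB (DP.t A D i)) * X ^ i * (C (DP.t A' D j) * X ^ j) =
          C (cB (DP.t A D i) * DP.t A' D j) * X ^ (i + j) := by
        rw [C_mul, pow_add]
        ring
      rw [e, hLC, map_mul, RingHom.comp_apply]
      ring
    have e2 : L B (cB.comp cA) f * L B (cB.comp cA) g =
        ∑ j ∈ range D, cB (∑ i ∈ range D, cA (l i * l j) * DP.t A D i) * DP.t A' D j := by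
      rw [ef, eg, map_sum, map_sum, Finset.mul_sum]
      refine sum_congr rfl fun j _ => ?_
      rw [hLC, map_sum, Finset.sum_mul, Finset.sum_mul]
      refine sum_congr rfl fun i _ => ?_
      rw [hLC, map_mul, map_mul, map_mul, RingHom.comp_apply, RingHom.comp_apply]
      ring
    rw [e1, e2] at h1
    have h2 := DP.rep_injective (A := A') _ _ h1 j (by omega)
    exact DP.rep_injective (A := A) _ _ h2 i (by omega)
  have hpow : ∀ m, l m = l 1 ^ m := by
    intro m
    induction m with
    | zero => rw [h0, pow_zero]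
    | succ m ih => rw [hadd, ih, pow_succ]
  refine ⟨l 1, fun B _ ρ f hf => ?_⟩
  rw [hl B ρ f hf (f.natDegree + 1) (fun m hm => coeff_eq_zero_of_natDegree_lt (by omega)),
    Polynomial.eval_eq_sum_range]
  refine sum_congr rfl fun m _ => ?_
  rw [hpow, map_pow, mul_comm]

end dd

section unique

variable {A : Type u} [CommRing A]

/-- Evaluations at different elements differ on the universal character of degree `< 2`. -/
theorem eval_chi_two (a : A) : (chi A 2).eval (DP.c A 2 a) = 1 + DP.c A 2 a * DP.t A 2 1 := by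
  rw [chi, Finset.sum_range_succ, Finset.sum_range_one, eval_add, eval_mul, eval_mul, eval_C, eval_C, eval_pow,
    eval_pow, eval_X, pow_zero, pow_one, mul_one, DP.t_zero, mul_comm]

theorem eq_of_eval_chi_two (a b : A) (h : (chi A 2).eval (DP.c A 2 a) = (chi A 2).eval (DP.c A 2 b)) : a = b := by
  have e : ∀ a : A, (chi A 2).eval (DP.c A 2 a) =
      ∑ m ∈ range 2, DP.c A 2 (if m = 0 then 1 else a) * DP.t A 2 m := by
    intro a
    rw [eval_chi_two, Finset.sum_range_succ, Finset.sum_range_one, if_pos rfl, if_neg one_ne_zero, map_one,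
      DP.t_zero, one_mul]
  rw [e, e] at h
  have := DP.rep_injective _ _ h 1 (by norm_num)
  simpa using this

end unique

end K771.DDAlg
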