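import Groth.Agent.GaDual.K771.HomEv
import Groth.Agent.GaDual.K771.Pts
import Groth.Agent.GaDual.K771.Aff
import Groth.Agent.GaDual.K771.DDAlg

/-!
# The dual sheaf of `G_a` over an affine object: character polynomials

For `T : Over X` with `T.left` affine, sections of `𝓗om(G_a, G_m)` over `T` are the polynomials `f` over `O T` with
`f 0 = 1`, `f (x + y) = f x * f y`: `poly φ`, `ofChar f hf`, `gm_ev`.
-/

set_option autoImplicit false
universe u
open CategoryTheory CategoryTheory.Limits AlgebraicGeometry Opposite Polynomial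

noncomputable section

namespace K771.Char

open Groth.Agent.Etdl.H432.Sec K771.Pts K771.HomEv K771.DDAlg K771.Aff

variable {X : Scheme.{u}} {T : Over X}

/-- The dual sheaf of the additive group. -/
abbrev Gad (X : Scheme.{u}) : EtFppf.AbF X := hom (Ga X) (Gm X)

section of

variable (f : (O T)[X]) (hf : IsChar f)

/-- Characters from polynomials: the value at a section. -/
def ofCharAt (W : Over X) (h : W ⟶ T) (y : Γs (Ga X) W) : Γs (Gm X) W :=
  gms ⟨f.eval₂ (ro h) (ga y), f.eval₂ (ro h) (- ga y), by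
    rw [← hf.eval₂_add, add_neg_cancel, hf.eval₂_zero], by
    rw [← hf.eval₂_add, neg_add_cancel, hf.eval₂_zero]⟩

theorem gm_ofCharAt (W : Over X) (h : W ⟶ T) (y : Γs (Ga X) W) :
    gm (ofCharAt f hf W h y) = f.eval₂ (ro h) (ga y) := gm_gms _

/-- The section of the dual of `G_a` attached to a polynomial. -/
def ofChar : Γs (Gad X) T :=
  mk (fun W h =>
    { toFun := ofCharAt f hf W h
      map_zero' := by
        apply gm_injective
        rw [gm_ofCharAt, ga_zero, hf.eval₂_zero, gm_zero]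
      map_add' := fun y y' => by
        apply gm_injective
        rw [gm_add, gm_ofCharAt, gm_ofCharAt, gm_ofCharAt, ga_add, hf.eval₂_add] })
    (fun W W' h k x => by
      apply gm_injective
      change gm (r (Gm X) k (ofCharAt f hf W h x)) = gm (ofCharAt f hf W' (k ≫ h) (r (Ga X) k x))
      rw [gm_r, gm_ofCharAt, gm_ofCharAt, ga_r, hom_eval₂]
      congr 1)

theorem gm_ev_ofChar {W : Over X} (h : W ⟶ T) (y : Γs (Ga X) W) :
    gm (ev (ofChar f hf) h y) = f.eval₂ (ro h) (ga y) := gm_ofCharAt f hf W h y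

end of

section poly

variable [IsAffine T.left]

theorem exists_poly (φ : Γs (Gad X) T) : ∃ f : (O T)[X], ∀ (W : Over X) (h : W ⟶ T) (y : Γs (Ga X) W),
    gm (ev φ h y) = f.eval₂ (ro h) (ga y) := by
  let α : O T →+* (O T)[X] := C
  let y0 : Γs (Ga X) (aff α) := gas (e α Polynomial.X)
  refine ⟨(e α).symm (gm (ev φ (π α) y0)), fun W h y => ?_⟩
  obtain ⟨k, hk, hk2⟩ := Aff.exists_hom α h (eval₂RingHom (ro h) (ga y)) (fun x => by
    rw [coe_eval₂RingHom, eval₂_C])
  have h1 : r (Ga X) k y0 = y := by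
    apply ga_injective
    rw [ga_r, ga_gas, hk2, coe_eval₂RingHom, eval₂_X]
  have h2 := hk2 ((e α).symm (gm (ev φ (π α) y0)))
  rw [RingEquiv.apply_symm_apply, coe_eval₂RingHom] at h2
  rw [← h2, ← gm_r, ev_r', h1, hk]

/-- The character polynomial. -/
def poly (φ : Γs (Gad X) T) : (O T)[X] := (exists_poly φ).choose

theorem gm_ev (φ : Γs (Gad X) T) {W : Over X} (h : W ⟶ T) (y : Γs (Ga X) W) :
    gm (ev φ h y) = (poly φ).eval₂ (ro h) (ga y) := (exists_poly φ).choose_spec W h y

theorem poly_ext {f g : (O T)[X]} (h : ∀ (W : Over X) (h : W ⟶ T) (y : O W), f.eval₂ (ro h) y = g.eval₂ (ro h) y) :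
    f = g := by
  let α : O T →+* (O T)[X] := C
  have h1 : ∀ f : (O T)[X], f.eval₂ (ro (π α)) (e α Polynomial.X) = e α f := by
    intro f
    have h2 : ro (π α) = (e α : (O T)[X] →+* O (aff α)).comp C := by
      ext a
      exact ro_π α a
    have h3 := hom_eval₂ f C (e α : (O T)[X] →+* O (aff α)) Polynomial.X
    rw [eval₂_C_X] at h3
    rw [h2]
    exact h3.symm
  have h2 := h (aff α) (π α) (e α Polynomial.X)
  rw [h1, h1] at h2
  exact (e α).injective h2

theorem isChar_poly (φ : Γs (Gad X) T) : IsChar (poly φ) := by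
  refine (isChar_iff _).2 ⟨?_, ?_⟩
  · have h := gm_ev φ (𝟙 T) 0
    rw [map_zero, gm_zero, ga_zero, eval₂_at_zero, ro_id] at h
    exact h.symm
  · let α : O T →+* (O T)[X][X] := C.comp C
    have h1 : ∀ z : (O T)[X][X], (poly φ).eval₂ (ro (π α)) (e α z) = e α ((poly φ).eval₂ α z) := by
      intro z
      have h2 : ro (π α) = (e α : (O T)[X][X] →+* O (aff α)).comp α := by
        ext a
        exact ro_π α a
      have h3 := hom_eval₂ (poly φ) α (e α : (O T)[X][X] →+* O (aff α)) z
      rw [h2]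
      exact h3.symm
    have h2 := gm_ev φ (π α) (gas (e α (C Polynomial.X)) + gas (e α Polynomial.X))
    rw [map_add, gm_add, gm_ev, gm_ev, ga_add, ga_gas, ga_gas, ← map_add, h1, h1, h1, ← map_mul] at h2
    exact ((e α).injective h2).symm

theorem poly_eq {φ : Γs (Gad X) T} {f : (O T)[X]}
    (h : ∀ (W : Over X) (h : W ⟶ T) (y : Γs (Ga X) W), gm (ev φ h y) = f.eval₂ (ro h) (ga y)) : poly φ = f := by
  refine poly_ext fun W h' y => ?_
  have h1 := h W h' (gas y)
  rw [gm_ev, ga_gas] at h1
  exact h1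

theorem poly_injective : Function.Injective (poly : Γs (Gad X) T → (O T)[X]) := by
  intro φ ψ h
  refine ev_ext fun W h' y => gm_injective ?_
  rw [gm_ev, gm_ev, h]

theorem poly_ofChar (f : (O T)[X]) (hf : IsChar f) : poly (ofChar f hf) = f :=
  poly_eq fun _ h y => gm_ev_ofChar f hf h y

theorem ofChar_poly (φ : Γs (Gad X) T) : ofChar (poly φ) (isChar_poly φ) = φ :=
  poly_injective (poly_ofChar _ _)

theorem poly_zero : poly (0 : Γs (Gad X) T) = 1 :=
  poly_eq fun W h y => by rw [ev_zero, gm_zero, eval₂_one]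

theorem poly_add (φ ψ : Γs (Gad X) T) : poly (φ + ψ) = poly φ * poly ψ :=
  poly_eq fun W h y => by rw [ev_add, gm_add, gm_ev, gm_ev, eval₂_mul]

theorem poly_r {T' : Over X} [IsAffine T'.left] (k : T' ⟶ T) (φ : Γs (Gad X) T) :
    poly (r (Gad X) k φ) = (poly φ).map (ro k) :=
  poly_eq fun W h y => by
    rw [HomEv.ev_r, gm_ev, eval₂_map]
    congr 1

theorem r_ofChar {T' : Over X} [IsAffine T'.left] (k : T' ⟶ T) (f : (O T)[X]) (hf : IsChar f) :
    r (Gad X) k (ofChar f hf) = ofChar (f.map (ro k)) (hf.map _) := by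
  apply poly_injective
  rw [poly_r, poly_ofChar, poly_ofChar]

omit [IsAffine T.left] in
theorem ofChar_congr {f g : (O T)[X]} (h : f = g) (hf : IsChar f) (hg : IsChar g) : ofChar f hf = ofChar g hg := by
  subst h
  rfl

theorem ofChar_mul (f g : (O T)[X]) (hf : IsChar f) (hg : IsChar g) :
    ofChar (f * g) (hf.mul hg) = ofChar f hf + ofChar g hg := by
  apply poly_injective
  rw [poly_ofChar, poly_add, poly_ofChar, poly_ofChar]

theorem ofChar_one : ofChar (1 : (O T)[X]) isChar_one = 0 := by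
  apply poly_injective
  rw [poly_ofChar, poly_zero]

end poly

end K771.Char
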