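import Groth.Agent.Etdl.H432.Sec

/-!
# Symmetric 2-cocycles with values in an injective sheaf are coboundaries

`exists_cobound`: `A`, `F` sheaves on the big fppf site, `F` injective, `b : A × A ⟶ F` a natural symmetric 2-cocycle.
Then `b (x, y) = t (x + y) - t x - t y` for a natural `t : A ⟶ F` (as sets).
-/

set_option autoImplicit false
universe u
open CategoryTheory CategoryTheory.Limits AlgebraicGeometry Opposite

noncomputable section

namespace K771.SymCoc

open Groth.Agent.Etdl.H432.Sec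

variable {X : Scheme.{u}} {A F : EtFppf.AbF X}

/-- A natural symmetric 2-cocycle. -/
structure Coc (A F : EtFppf.AbF X) where
  b : ∀ W : Over X, Γs A W → Γs A W → Γs F W
  nat : ∀ (W W' : Over X) (k : W' ⟶ W) (y y' : Γs A W), r F k (b W y y') = b W' (r _ k y) (r _ k y')
  symm : ∀ (W : Over X) (y y' : Γs A W), b W y y' = b W y' y
  coc : ∀ (W : Over X) (x y z : Γs A W), b W y z + b W x (y + z) = b W (x + y) z + b W x y

variable (c : Coc A F)

theorem Coc.zero_left {W : Over X} (y : Γs A W) : c.b W 0 y = c.b W 0 0 := by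
  have h := c.coc W 0 0 y
  rw [zero_add, add_zero] at h
  exact add_left_cancel h

/-- The twisted product. -/
@[ext]
structure Tw {X : Scheme.{u}} {A F : EtFppf.AbF X} (c : Coc A F) (W : Over X) where
  f : Γs F W
  a : Γs A W

namespace Tw

variable {c} {W : Over X}

instance : Add (Tw c W) := ⟨fun x y => ⟨x.f + y.f + c.b W x.a y.a, x.a + y.a⟩⟩
instance : Zero (Tw c W) := ⟨⟨- c.b W 0 0, 0⟩⟩
instance : Neg (Tw c W) := ⟨fun x => ⟨- x.f - c.b W x.a (-x.a) - c.b W 0 0, -x.a⟩⟩

theorem add_f (x y : Tw c W) : (x + y).f = x.f + y.f + c.b W x.a y.a := rfl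
theorem add_a (x y : Tw c W) : (x + y).a = x.a + y.a := rfl
theorem zero_f : (0 : Tw c W).f = - c.b W 0 0 := rfl
theorem zero_a : (0 : Tw c W).a = 0 := rfl
theorem neg_f (x : Tw c W) : (-x).f = - x.f - c.b W x.a (-x.a) - c.b W 0 0 := rfl
theorem neg_a (x : Tw c W) : (-x).a = - x.a := rfl

theorem tw_add_assoc (x y z : Tw c W) : x + y + z = x + (y + z) := by
  apply Tw.ext
  · simp only [add_f, add_a]
    have h := c.coc W x.a y.a z.a
    have : x.f + y.f + c.b W x.a y.a + z.f + c.b W (x.a + y.a) z.a =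
        x.f + y.f + z.f + (c.b W (x.a + y.a) z.a + c.b W x.a y.a) := by abel
    rw [this, ← h]
    abel
  · simp only [add_a]
    abel

theorem tw_add_comm (x y : Tw c W) : x + y = y + x := by
  apply Tw.ext
  · simp only [add_f]
    rw [c.symm]
    abel
  · simp only [add_a]
    abel

theorem tw_zero_add (x : Tw c W) : 0 + x = x := by
  apply Tw.ext
  · simp only [add_f, zero_f, zero_a, c.zero_left]
    abel
  · simp only [add_a, zero_a, zero_add]

theorem tw_neg_add (x : Tw c W) : -x + x = 0 := by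
  apply Tw.ext
  · simp only [add_f, neg_f, neg_a, zero_f]
    rw [c.symm]
    abel
  · simp only [add_a, neg_a, zero_a, neg_add_cancel]

instance : AddCommGroup (Tw c W) where
  add_assoc := tw_add_assoc
  zero_add := tw_zero_add
  add_zero x := (tw_add_comm x 0).trans (tw_zero_add x)
  nsmul := nsmulRec
  zsmul := zsmulRec
  neg_add_cancel := tw_neg_add
  add_comm := tw_add_comm

/-- Restriction. -/
def res {W' : Over X} (k : W' ⟶ W) : Tw c W →+ Tw c W' :=
  AddMonoidHom.mk' (fun x => ⟨r F k x.f, r A k x.a⟩) (fun x y => by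
    apply Tw.ext
    · change r F k (x.f + y.f + c.b W x.a y.a) = r F k x.f + r F k y.f + c.b W' (r A k x.a) (r A k y.a)
      rw [map_add, map_add, c.nat]
    · exact map_add (r A k) x.a y.a)

theorem res_f {W' : Over X} (k : W' ⟶ W) (x : Tw c W) : (res k x).f = r F k x.f := rfl
theorem res_a {W' : Over X} (k : W' ⟶ W) (x : Tw c W) : (res k x).a = r A k x.a := rfl

end Tw

/-- The presheaf extension. -/
def pre : (Over X)ᵒᵖ ⥤ AddCommGrpCat.{u + 1} where
  obj W := AddCommGrpCat.of (Tw c W.unop)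
  map k := AddCommGrpCat.ofHom (Tw.res k.unop)
  map_id W := AddCommGrpCat.ext fun x => Tw.ext (r_id F (x : Tw c W.unop).f) (r_id A (x : Tw c W.unop).a)
  map_comp {V _ _} k k' := AddCommGrpCat.ext fun x =>
    Tw.ext (r_r F k.unop k'.unop (x : Tw c V.unop).f).symm (r_r A k.unop k'.unop (x : Tw c V.unop).a).symm

theorem isSheaf_pre : Presheaf.IsSheaf (EtFppf.J X) (pre c) := by
  refine (Presheaf.isSheaf_iff_isSheaf_forget _ _ (forget AddCommGrpCat.{u + 1})).2 ?_
  rw [isSheaf_iff_isSheaf_of_type]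
  intro U S hS x hx
  have hF := isSheaf_type F S hS
  have hA := isSheaf_type A S hS
  let xF : Presieve.FamilyOfElements (F.obj ⋙ forget AddCommGrpCat.{u + 1}) S.arrows := fun V f hf => (x f hf : Tw c V).f
  let xA : Presieve.FamilyOfElements (A.obj ⋙ forget AddCommGrpCat.{u + 1}) S.arrows := fun V f hf => (x f hf : Tw c V).a
  have hxF : xF.Compatible := fun V₁ V₂ W g₁ g₂ f₁ f₂ h₁ h₂ w => congrArg Tw.f (hx g₁ g₂ h₁ h₂ w)
  have hxA : xA.Compatible := fun V₁ V₂ W g₁ g₂ f₁ f₂ h₁ h₂ w => congrArg Tw.a (hx g₁ g₂ h₁ h₂ w)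
  obtain ⟨f, hf, hf'⟩ := hF xF hxF
  obtain ⟨a, ha, ha'⟩ := hA xA hxA
  refine ⟨(⟨f, a⟩ : Tw c U), fun V g hg => Tw.ext (hf g hg) (ha g hg), fun t ht => ?_⟩
  exact Tw.ext (hf' (t : Tw c U).f (fun V g hg => congrArg Tw.f (ht g hg)))
    (ha' (t : Tw c U).a (fun V g hg => congrArg Tw.a (ht g hg)))

/-- The extension as a sheaf. -/
def sh : EtFppf.AbF X := ⟨pre c, isSheaf_pre c⟩

/-- The inclusion. -/
def incl : F ⟶ sh c :=
  ⟨{ app := fun W => AddCommGrpCat.ofHom (AddMonoidHom.mk' (fun f : Γs F W.unop => (⟨f - c.b W.unop 0 0, 0⟩ : Tw c W.unop))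
        (fun f g => by
          apply Tw.ext
          · change f + g - c.b W.unop 0 0 = (f - c.b W.unop 0 0) + (g - c.b W.unop 0 0) + c.b W.unop 0 0
            have h : ∀ a b d : Γs F W.unop, a + b - d = (a - d) + (b - d) + d := fun a b d => by abel
            exact h _ _ _
          · exact (add_zero _).symm))
     naturality := fun W W' k => AddCommGrpCat.ext fun f => by
        apply Tw.ext
        · change r F k.unop f - c.b _ 0 0 = r F k.unop (f - c.b _ 0 0)
          rw [map_sub, c.nat, map_zero]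
        · exact (map_zero (r A k.unop)).symm }⟩

instance : Mono (incl c) := by
  have : Mono ((sheafToPresheaf _ _).map (incl c)) := by
    have h : ∀ W, Mono (((sheafToPresheaf _ _).map (incl c)).app W) := fun W => by
      rw [AddCommGrpCat.mono_iff_injective]
      intro f g h
      have h1 : (show Γs F W.unop from f) - c.b W.unop 0 0 = (show Γs F W.unop from g) - c.b W.unop 0 0 := congrArg Tw.f h
      exact sub_left_injective h1
    exact NatTrans.mono_of_mono_app _
  exact (sheafToPresheaf _ _).mono_of_mono_map this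

theorem exists_cobound [Injective F] : ∃ t : ∀ W : Over X, Γs A W → Γs F W,
    (∀ (W W' : Over X) (k : W' ⟶ W) (y : Γs A W), r F k (t W y) = t W' (r _ k y)) ∧
    ∀ (W : Over X) (y y' : Γs A W), c.b W y y' = t W (y + y') - t W y - t W y' := by
  let ρ : sh c ⟶ F := Injective.factorThru (𝟙 F) (incl c)
  have hρ : incl c ≫ ρ = 𝟙 F := Injective.comp_factorThru _ _
  have hρ' : ∀ (W : Over X) (f : Γs F W), m ρ W (m (incl c) W f) = f := fun W f => by
    rw [← m_comp, hρ, m_id]
  refine ⟨fun W a => - m ρ W (⟨0, a⟩ : Tw c W), fun W W' k y => ?_, fun W y y' => ?_⟩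
  · rw [map_neg, ← m_r]
    congr 2
    apply Tw.ext
    · exact map_zero _
    · rfl
  · have h1 : (⟨0, y⟩ : Tw c W) + ⟨0, y'⟩ = (show Tw c W from m (incl c) W (c.b W y y')) + ⟨0, y + y'⟩ := by
      apply Tw.ext
      · change 0 + 0 + c.b W y y' = (c.b W y y' - c.b W 0 0) + 0 + c.b W 0 (y + y')
        rw [c.zero_left (y + y')]
        abel
      · exact (zero_add _).symm
    have h2 := congrArg (m ρ W) h1
    have h3 : ∀ x x' : Tw c W, m ρ W (x + x' : Tw c W) = m ρ W x + m ρ W x' := fun x x' => map_add (m ρ W) x x'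
    rw [h3, h3, hρ'] at h2
    have h4 : c.b W y y' = (m ρ W (⟨0, y⟩ : Tw c W) + m ρ W (⟨0, y'⟩ : Tw c W)) - m ρ W (⟨0, y + y'⟩ : Tw c W) := by
      rw [h2]
      abel
    have h5 : ∀ a b d : Γs F W, a + b - d = - d - - a - - b := fun a b d => by abel
    exact h4.trans (h5 _ _ _)

end K771.SymCoc
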