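import Groth.Agent.GaDual.K771.LineRep
import Groth.Agent.GaDual.K771.SymCoc
import Groth.Agent.TateGlob.K828.Cartan

/-!
# From a lift of the value at the coordinate to a lift of the homomorphism

`0 ⟶ G_m ⟶ I ⟶ Q ⟶ 0`, `0 ⟶ Q ⟶ J ⟶ R ⟶ 0` exact, `I` injective, `f : G_a ⟶ R` over a reduced affine base.  If the
value of `f` at the coordinate lifts to `J`, and sections of `Q` over the affine plane lift to `I`, then `f` lifts to a
homomorphism `G_a ⟶ J`.
-/

set_option autoImplicit false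
universe u
open CategoryTheory CategoryTheory.Limits AlgebraicGeometry Opposite

noncomputable section

namespace K771.SymLift

open Groth.Agent.Etdl.H432.Sec K771.Pts K771.Aff K771.RedExt K771.Line K828.Cech

variable {X : Scheme.{u}}

theorem inj' {G I Q : EtFppf.AbF X} {ι : G ⟶ I} {π : I ⟶ Q} (h : LE ι.hom π.hom) (W : Over X) :
    Function.Injective (m ι W) := fun _ _ e => h.inj' e

theorem comp' {G I Q : EtFppf.AbF X} {ι : G ⟶ I} {π : I ⟶ Q} (h : LE ι.hom π.hom) {W : Over X} (s : Γs G W) :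
    m π W (m ι W s) = 0 := h.comp W s

theorem ex' {G I Q : EtFppf.AbF X} {ι : G ⟶ I} {π : I ⟶ Q} (h : LE ι.hom π.hom) {W : Over X} (s : Γs I W)
    (hs : m π W s = 0) : ∃ t : Γs G W, m ι W t = s := h.ex W s hs

variable [IsAffine X] [IsReduced X] {I Q J R : EtFppf.AbF X} {i₁ : Gm X ⟶ I} {π₁ : I ⟶ Q} (h₁ : LE i₁.hom π₁.hom)
  {i₂ : Q ⟶ J} {π₂ : J ⟶ R} (h₂ : LE i₂.hom π₂.hom)

include h₁ in
/-- A natural function of several `G_a`-variables with values in `ker (I ⟶ Q) = G_m` vanishes if it vanishes at the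
origin. -/
theorem eq_zero_of_zero {n : ℕ} (d : ∀ W : Over X, (Fin n → Γs (Ga X) W) → Γs I W)
    (hd : ∀ (W W' : Over X) (k : W' ⟶ W) (y : Fin n → Γs (Ga X) W), r I k (d W y) = d W' (fun i => r _ k (y i)))
    (hπ : ∀ (W : Over X) (y : Fin n → Γs (Ga X) W), m π₁ W (d W y) = 0)
    (h0 : ∀ W : Over X, d W 0 = 0) (W : Over X) (y : Fin n → Γs (Ga X) W) : d W y = 0 := by
  choose e he using fun (W : Over X) (y : Fin n → Γs (Ga X) W) => ex' h₁ (d W y) (hπ W y)
  have he_nat : ∀ (W W' : Over X) (k : W' ⟶ W) (y : Fin n → Γs (Ga X) W),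
      r (Gm X) k (e W y) = e W' (fun i => r _ k (y i)) := fun W W' k y => by
    apply inj' h₁
    rw [m_r, he, he, hd]
  have : IsAffine (Over.mk (𝟙 X) : Over X).left := inferInstanceAs (IsAffine X)
  have : IsReduced (Over.mk (𝟙 X) : Over X).left := inferInstanceAs (IsReduced X)
  have h2 := ConstMv.const_mv (T := Over.mk (𝟙 X)) (fun W _ y => e W y) (fun W W' k h y => he_nat W W' k y)
    (Over.mkIdTerminal.from W) y
  rw [← he, h2, he, h0]

variable [IsAffine (Red.Ga X).left]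

include h₁ h₂ in
theorem exists_hom [Injective I] (hPic : ∀ q : Γs Q (L1 (Red.Ga X)), ∃ s : Γs I (L1 (Red.Ga X)), m π₁ _ s = q)
    (f : Ga X ⟶ R) (a : Γs J (Red.Ga X)) (ha : m π₂ _ a = m f _ (un X)) : ∃ ψ : Ga X ⟶ J, ψ ≫ π₂ = f := by
  let G : ∀ W : Over X, Γs (Ga X) W → Γs J W := fun W y => r J (pt y) a
  have hG : ∀ (W W' : Over X) (k : W' ⟶ W) (y : Γs (Ga X) W), r J k (G W y) = G W' (r _ k y) := fun W W' k y => by
    change r J k (r J (pt y) a) = r J (pt (r _ k y)) a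
    rw [r_r, pt_r]
  have hGf : ∀ (W : Over X) (y : Γs (Ga X) W), m π₂ W (G W y) = m f W y := fun W y => by
    change m π₂ W (r J (pt y) a) = _
    rw [m_r, ha, ← m_r, r_pt_un]
  have h3 : ∀ (W : Over X) (y y' : Γs (Ga X) W), ∃ t : Γs Q W, m i₂ W t = G W (y + y') - G W y - G W y' := by
    intro W y y'
    refine ex' h₂ _ ?_
    rw [map_sub, map_sub, hGf, hGf, hGf, map_add]
    abel
  choose t ht using h3
  have ht_nat : ∀ (W W' : Over X) (k : W' ⟶ W) (y y' : Γs (Ga X) W), r Q k (t W y y') = t W' (r _ k y) (r _ k y') := by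
    intro W W' k y y'
    apply inj' h₂
    rw [m_r, ht, ht, map_sub, map_sub, hG, hG, hG, map_add]
  have ht_symm : ∀ (W : Over X) (y y' : Γs (Ga X) W), t W y y' = t W y' y := by
    intro W y y'
    apply inj' h₂
    rw [ht, ht, add_comm y y']
    abel
  have ht_coc : ∀ (W : Over X) (x y z : Γs (Ga X) W), t W y z + t W x (y + z) = t W (x + y) z + t W x y := by
    intro W x y z
    apply inj' h₂
    rw [map_add, map_add, ht, ht, ht, ht, add_assoc]
    abel
  obtain ⟨s₀, hs₀⟩ := hPic (t _ (r _ (πL (Red.Ga X)) (un X)) (xL (Red.Ga X)))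
  let b : ∀ W : Over X, Γs (Ga X) W → Γs (Ga X) W → Γs I W := fun W y y' => r I (mkL (pt y) y') s₀
  have hb_nat : ∀ (W W' : Over X) (k : W' ⟶ W) (y y' : Γs (Ga X) W), r I k (b W y y') = b W' (r _ k y) (r _ k y') := by
    intro W W' k y y'
    change r I k (r I (mkL (pt y) y') s₀) = r I (mkL (pt (r _ k y)) (r _ k y')) s₀
    rw [r_r, comp_mkL, pt_r]
  have hb : ∀ (W : Over X) (y y' : Γs (Ga X) W), m π₁ W (b W y y') = t W y y' := by
    intro W y y'
    change m π₁ W (r I (mkL (pt y) y') s₀) = _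
    rw [m_r, hs₀, ht_nat, r_r, mkL_πL, r_pt_un, r_mkL_xL]
  let z3 : ∀ {W : Over X} (x y z : Γs (Ga X) W), Fin 3 → Γs (Ga X) W := fun x y z => ![x, y, z]
  have hb_symm : ∀ (W : Over X) (y y' : Γs (Ga X) W), b W y y' = b W y' y := by
    intro W y y'
    have h4 := eq_zero_of_zero h₁ (n := 2) (fun W y => b W (y 0) (y 1) - b W (y 1) (y 0))
      (fun W W' k y => by rw [map_sub, hb_nat, hb_nat])
      (fun W y => by rw [map_sub, hb, hb, ht_symm, sub_self])
      (fun W => by simp only [Pi.zero_apply, sub_self]) W ![y, y']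
    exact sub_eq_zero.1 h4
  have hb_coc : ∀ (W : Over X) (x y z : Γs (Ga X) W), b W y z + b W x (y + z) = b W (x + y) z + b W x y := by
    intro W x y z
    have h4 := eq_zero_of_zero h₁ (n := 3)
      (fun W y => b W (y 1) (y 2) + b W (y 0) (y 1 + y 2) - (b W (y 0 + y 1) (y 2) + b W (y 0) (y 1)))
      (fun W W' k y => by rw [map_sub, map_add, map_add, hb_nat, hb_nat, hb_nat, hb_nat, map_add, map_add])
      (fun W y => by rw [map_sub, map_add, map_add, hb, hb, hb, hb, ht_coc, sub_self])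
      (fun W => by simp only [Pi.zero_apply, add_zero, sub_self]) W ![x, y, z]
    exact sub_eq_zero.1 h4
  let c : SymCoc.Coc (Ga X) I := ⟨b, hb_nat, hb_symm, hb_coc⟩
  obtain ⟨τ, hτ, hτ'⟩ := SymCoc.exists_cobound c
  let E : ∀ W : Over X, Γs (Ga X) W → Γs J W := fun W y => G W y - m i₂ W (m π₁ W (τ W y))
  have hE : ∀ (W : Over X) (y y' : Γs (Ga X) W), E W (y + y') = E W y + E W y' := by
    intro W y y'
    have h5 : m i₂ W (m π₁ W (τ W (y + y'))) = m i₂ W (m π₁ W (b W y y')) + m i₂ W (m π₁ W (τ W y)) +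
        m i₂ W (m π₁ W (τ W y')) := by
      have h6 : b W y y' = τ W (y + y') - τ W y - τ W y' := hτ' W y y'
      rw [h6, map_sub, map_sub, map_sub, map_sub]
      abel
    change G W (y + y') - m i₂ W (m π₁ W (τ W (y + y'))) =
      (G W y - m i₂ W (m π₁ W (τ W y))) + (G W y' - m i₂ W (m π₁ W (τ W y')))
    rw [h5, hb, ht]
    abel
  refine ⟨mkH (fun W => AddMonoidHom.mk' (E W) (hE W)) (fun W W' k y => ?_), ?_⟩
  · change r J k (G W y - m i₂ W (m π₁ W (τ W y))) = G W' (r _ k y) - m i₂ W' (m π₁ W' (τ W' (r _ k y)))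
    rw [map_sub, hG, ← m_r, ← m_r, hτ]
  · refine hom_ext_m fun W y => ?_
    rw [m_comp, m_mkH]
    change m π₂ W (G W y - m i₂ W (m π₁ W (τ W y))) = _
    rw [map_sub, hGf, comp' h₂, sub_zero]

end K771.SymLift
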