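import Groth.Agent.GaDual.K771.HomAcy
import Groth.Agent.GaDual.K771.SymLift
import Groth.Agent.GaDual.K771.PicExt

/-!
# Classes in `H^2(X, 𝓗om(G_a, G_m))` and `H^2(𝔸¹_X, G_m)`

`main`: if `𝓔xt¹(G_a, G_m) = 0` over `X` affine and reduced, sections of `G_m`-quotients over the affine plane lift, and
`H^2(𝔸¹_X, G_m) → H^2(𝔸¹_V, G_m)` is injective, then `H^2(X, 𝓗om(G_a, G_m)) → H^2(V, 𝓗om(G_a, G_m))` is injective.
-/

set_option autoImplicit false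
set_option linter.unusedSectionVars false
universe u
open CategoryTheory CategoryTheory.Limits AlgebraicGeometry Opposite

noncomputable section

namespace K771.HatTwo

open Groth.Agent.Etdl.H432.Sec K771.Pts K771.Aff K771.RedExt K771.Line K771.PicExt K771.HomEv K771.HomAcy K828

variable {X : Scheme.{u}}

section formal

variable (𝓗 : CohT Scheme.fppfPrecoverage X) {T₀ V : Over X} (s : V ⟶ T₀)

/-- Injectivity on `H^2` by dimension shifting. -/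
theorem formal {G' I' Q' J' R' : BigSite.Ab Scheme.fppfPrecoverage X} {a : G' ⟶ I'} {b : I' ⟶ Q'} {w₁ : a ≫ b = 0}
    (hA : (ShortComplex.mk a b w₁).ShortExact) {c : Q' ⟶ J'} {d : J' ⟶ R'} {w₂ : c ≫ d = 0} [Mono c]
    (hex : (ShortComplex.mk c d w₂).Exact) (hI2 : ∀ x : 𝓗.H I' 2 T₀, x = 0) (hIV : ∀ x : 𝓗.H I' 1 V, x = 0)
    (hJ : ∀ x : 𝓗.H J' 1 T₀, x = 0)
    (hlift : ∀ φ : R'.obj.obj (op T₀), (∃ w' : J'.obj.obj (op V), d.hom.app (op V) w' = R'.obj.map s.op φ) →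
      ∃ ψ : J'.obj.obj (op T₀), d.hom.app (op T₀) ψ = φ)
    (x : 𝓗.H G' 2 T₀) (hx : 𝓗.res s x = 0) : x = 0 := by
  obtain ⟨y, rfl⟩ : ∃ y : 𝓗.H Q' 1 T₀, 𝓗.del hA y = x := 𝓗.exact₁ hA x (hI2 _)
  have hy : 𝓗.res s y = 0 := by
    have h1 : 𝓗.del hA (𝓗.res s y) = 0 := (𝓗.del_res hA s y).trans hx
    obtain ⟨z, hz⟩ := 𝓗.exact₃ hA _ h1
    have hz0 : z = 0 := hIV z
    rw [hz0] at hz
    exact hz.symm.trans (map_zero _)
  let π : J' ⟶ cokernel c := cokernel.π c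
  have hw : c ≫ π = 0 := cokernel.condition c
  have hB : (ShortComplex.mk c π hw).ShortExact :=
    { exact := ShortComplex.exact_cokernel _
      mono_f := inferInstanceAs (Mono c)
      epi_g := inferInstanceAs (Epi (cokernel.π c)) }
  let κ : cokernel c ⟶ R' := cokernel.desc c d w₂
  have hκ : π ≫ κ = d := cokernel.π_desc _ _ _
  have hκm : Mono κ := (ShortComplex.exact_iff_mono_cokernel_desc _).1 hex
  obtain ⟨z, rfl⟩ : ∃ z : 𝓗.H (cokernel c) 0 T₀, 𝓗.del hB z = y := 𝓗.exact₁ hB y (hJ _)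
  have hzV : 𝓗.del hB (𝓗.res s z) = 0 := (𝓗.del_res hB s z).trans hy
  obtain ⟨w, hw'⟩ : ∃ w : 𝓗.H J' 0 V, 𝓗.map π w = 𝓗.res s z := 𝓗.exact₃ hB _ hzV
  obtain ⟨ψ, hψ⟩ := hlift (𝓗.sec (𝓗.map κ z)) ⟨𝓗.sec w, by
    rw [← 𝓗.sec_map, ← 𝓗.sec_res, ← 𝓗.map_res, ← hw', ← 𝓗.map_comp, hκ]⟩
  have hz' : z = 𝓗.map π (𝓗.sec.symm ψ) := by
    apply 𝓗.sec.injective
    apply K731.Basic.injective_of_mono (K := Scheme.fppfPrecoverage) κ (op T₀)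
    have h3 : κ.hom.app (op T₀) (𝓗.sec (𝓗.map π (𝓗.sec.symm ψ))) = d.hom.app (op T₀) ψ := by
      rw [← 𝓗.sec_map, ← 𝓗.map_comp, hκ, 𝓗.sec_map, AddEquiv.apply_symm_apply]
    exact (𝓗.sec_map κ z).symm.trans (hψ.symm.trans h3.symm)
  have h2 : 𝓗.del hB z = 0 := by
    rw [hz']
    exact 𝓗.del_map hB _
  rw [h2, map_zero]

/-- A section of `R` over `U` lifts to `J` if its restriction to `W` does, and `H^2(U, G) → H^2(W, G)` is injective. -/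
theorem lift_of_inj {G I Q J R : BigSite.Ab Scheme.fppfPrecoverage X} {i₁ : G ⟶ I} {π₁ : I ⟶ Q} {w₁ : i₁ ≫ π₁ = 0}
    (hA : (ShortComplex.mk i₁ π₁ w₁).ShortExact) [Injective I] {i₂ : Q ⟶ J} {π₂ : J ⟶ R} {w₂ : i₂ ≫ π₂ = 0}
    (hB : (ShortComplex.mk i₂ π₂ w₂).ShortExact) {U W : Over X} (q : W ⟶ U)
    (hV : ∀ x : 𝓗.H G 2 U, 𝓗.res q x = 0 → x = 0) (r₀ : R.obj.obj (op U)) (a' : J.obj.obj (op W))
    (h : π₂.hom.app (op W) a' = R.obj.map q.op r₀) : ∃ a : J.obj.obj (op U), π₂.hom.app (op U) a = r₀ := by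
  let b : 𝓗.H Q 1 U := 𝓗.del hB (𝓗.sec.symm r₀)
  have hb : 𝓗.res q b = 0 := by
    have h1 : 𝓗.res q (𝓗.sec.symm r₀) = 𝓗.map π₂ (𝓗.sec.symm a') := by
      apply 𝓗.sec.injective
      rw [𝓗.sec_res, 𝓗.sec_map, AddEquiv.apply_symm_apply, AddEquiv.apply_symm_apply, h]
    refine (𝓗.del_res hB q _).symm.trans ?_
    rw [h1]
    exact 𝓗.del_map hB _
  let c : 𝓗.H G 2 U := 𝓗.del hA b
  have hc : c = 0 := by
    refine hV c ?_
    refine (𝓗.del_res hA q b).symm.trans ?_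
    rw [hb, map_zero]
  obtain ⟨b', hb'⟩ : ∃ b' : 𝓗.H I 1 U, 𝓗.map π₁ b' = b := 𝓗.exact₃ hA b hc
  have hb0 : b = 0 := by
    rw [← hb', 𝓗.inj I b', map_zero]
  obtain ⟨a, ha⟩ : ∃ a : 𝓗.H J 0 U, 𝓗.map π₂ a = 𝓗.sec.symm r₀ := 𝓗.exact₃ hB _ hb0
  refine ⟨𝓗.sec a, ?_⟩
  rw [← 𝓗.sec_map, ha, AddEquiv.apply_symm_apply]

end formal

/-- Homomorphisms from sections of the internal Hom over the final object. -/
theorem exists_hom_of_sec {F G : EtFppf.AbF X} (φ : Γs (hom F G) (Over.mk (𝟙 X))) :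
    ∃ f : F ⟶ G, ∀ (W : Over X) (x : Γs F W), m f W x = ev φ (Over.mkIdTerminal.from W) x := by
  refine ⟨mkH (fun W => ev φ (Over.mkIdTerminal.from W)) (fun W W' k y => ?_), fun W x => rfl⟩
  rw [ev_r']
  congr 2
  exact Over.mkIdTerminal.hom_ext _ _

variable [IsAffine X] [IsReduced X] [IsAffine (Red.Ga X).left]

theorem main_aux (𝓗 : CohT Scheme.fppfPrecoverage X)
    {I Q J R : EtFppf.AbF X} {i₁ : Gm X ⟶ I} {π₁ : I ⟶ Q} {w₁ : i₁ ≫ π₁ = 0}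
    (hA : (ShortComplex.mk i₁ π₁ w₁).ShortExact) [Injective I] {i₂ : Q ⟶ J} {π₂ : J ⟶ R} {w₂ : i₂ ≫ π₂ = 0}
    (hB : (ShortComplex.mk i₂ π₂ w₂).ShortExact) [Injective J]
    (hExt : IsZero ((HomSh.extSh (EtFppf.J X) (Ga X) 1).obj (Gm X)))
    (hPlane : ∀ (q : Γs Q (L1 (Red.Ga X))), ∃ s : Γs I (L1 (Red.Ga X)), m π₁ _ s = q)
    {V : Over X} [IsAffine V.left]
    (hV : ∀ x : 𝓗.H (Gm X) 2 (Red.Ga X), 𝓗.res (pL V) x = 0 → x = 0)
    (x : 𝓗.H (hom (Ga X) (Gm X)) 2 (Over.mk (𝟙 X))) (hx : 𝓗.res (Over.mkIdTerminal.from V) x = 0) : x = 0 := by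
  have hT₀ : IsAffine (Over.mk (𝟙 X)).left := inferInstanceAs (IsAffine X)
  have hm₂ : Mono i₂ := hB.mono_f
  have hm₃ : Mono (HomSh.homShMap (EtFppf.J X) (𝟙 (Ga X)) i₂) :=
    inferInstanceAs (Mono ((HomSh.homShFunctor (EtFppf.J X) (Ga X)).map i₂))
  have hA' := hom_shortExact (Ga X) hA hExt
  have hB' : ((ShortComplex.mk i₂ π₂ w₂).map (HomSh.homShFunctor (EtFppf.J X) (Ga X))).Exact :=
    hB.exact.map_of_mono_of_preservesKernel _ hm₂ inferInstance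
  refine formal 𝓗 (Over.mkIdTerminal.from V) (G' := hom (Ga X) (Gm X)) (I' := hom (Ga X) I) (Q' := hom (Ga X) Q)
    (J' := hom (Ga X) J) (R' := hom (Ga X) R) (a := HomSh.homShMap (EtFppf.J X) (𝟙 (Ga X)) i₁)
    (b := HomSh.homShMap (EtFppf.J X) (𝟙 (Ga X)) π₁) (c := HomSh.homShMap (EtFppf.J X) (𝟙 (Ga X)) i₂)
    (d := HomSh.homShMap (EtFppf.J X) (𝟙 (Ga X)) π₂) hA' hB'
    (hom_eq_zero (Ga X) I 𝓗 1 hT₀) (hom_eq_zero (Ga X) I 𝓗 0 (inferInstanceAs (IsAffine V.left)))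
    (hom_eq_zero (Ga X) J 𝓗 0 hT₀) ?_ x hx
  intro φ ⟨w', hw'⟩
  obtain ⟨f, hf⟩ := exists_hom_of_sec φ
  have hr₀ : m π₂ _ (ev w' (πL V) (xL V)) = r R (pL V) (m f _ (un X)) := by
    have h1 : r R (pL V) (m f _ (un X)) = m f _ (xL V) := by
      rw [← m_r]
      exact congrArg (m f (L1 V)) (r_pt_un _)
    have h2 : πL V ≫ Over.mkIdTerminal.from V = Over.mkIdTerminal.from (L1 V) := Over.mkIdTerminal.hom_ext _ _
    have h3 : ev (r (hom (Ga X) R) (Over.mkIdTerminal.from V) φ) (πL V) (xL V) =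
        ev (m (HomSh.homShMap (EtFppf.J X) (𝟙 (Ga X)) π₂) V w') (πL V) (xL V) :=
      congrArg (fun t : Γs (hom (Ga X) R) V => ev t (πL V) (xL V)) hw'.symm
    rw [h1, hf, ← h2, ← ev_r, h3, ev_map_right]
  obtain ⟨a, ha⟩ := lift_of_inj 𝓗 hA hB (pL V) hV (m f _ (un X)) (ev w' (πL V) (xL V)) hr₀
  obtain ⟨ψ, hψ⟩ := SymLift.exists_hom (Cartan.le_of_shortExact hA) (Cartan.le_of_shortExact hB) hPlane f a ha
  refine ⟨ofHom ψ (Over.mk (𝟙 X)), ?_⟩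
  refine ev_ext (F := Ga X) (G := R) (T := Over.mk (𝟙 X)) fun W h t => ?_
  change m π₂ W (m ψ W t) = ev φ h t
  rw [← m_comp, hψ, hf]
  congr 2
  exact Over.mkIdTerminal.hom_ext _ _

end K771.HatTwo
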