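import Groth.Agent.GaDual.K771.GmTwoInj
import Groth.Agent.GaDual.K771.HatTwo
import Groth.Agent.GaDual.K771.PicUfd
import Groth.Agent.TateGlob.K827.Abs
import Groth.Agent.RedSub.H635.GaSm
import Groth.Agent.S13478
import Groth.Prelude.Def_AdFn

/-!
# `H^2(O, dual G_a) → H^2(k, dual G_a)` is injective for a discrete valuation ring `O` of characteristic `p`
-/

set_option autoImplicit false
universe u
open CategoryTheory CategoryTheory.Limits AlgebraicGeometry Opposite TopologicalSpace

noncomputable section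

namespace K771.DvrLine

open Groth.Agent.Etdl.H432.Sec K771.Pts K771.RedExt K771.Aff K771.Line K771.PicUfd K771.HomEv K828

section ring

variable (A : Type u) [CommRing A]

/-- Functions on the affine line. -/
def gammaEquiv : Polynomial A ≃+* O (Red.Ga (Spec (CommRingCat.of A))) :=
  let X := Spec (CommRingCat.of A)
  (Polynomial.mapEquiv (Scheme.ΓSpecIso (CommRingCat.of A)).symm.commRingCatIsoToRingEquiv).trans
    ((e (T := Over.mk (𝟙 X)) (Polynomial.C : O (Over.mk (𝟙 X) : Over X) →+* Polynomial (O (Over.mk (𝟙 X) : Over X)))).trans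
      (Scheme.Γ.mapIso ((Over.forget X).mapIso (gaIso X)).op).commRingCatIsoToRingEquiv)

instance isAffine_line : IsAffine (Red.Ga (Spec (CommRingCat.of A))).left :=
  let X := Spec (CommRingCat.of A)
  have : IsAffine ((Over.forget X).obj (aff (T := Over.mk (𝟙 X))
      (Polynomial.C : O (Over.mk (𝟙 X) : Over X) →+* Polynomial (O (Over.mk (𝟙 X) : Over X))))) :=
    inferInstanceAs (IsAffine (aff (T := Over.mk (𝟙 X))
      (Polynomial.C : O (Over.mk (𝟙 X) : Over X) →+* Polynomial (O (Over.mk (𝟙 X) : Over X)))).left)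
  .of_isIso ((Over.forget _).mapIso (gaIso X)).hom

variable [IsDomain A]

instance isDomain_line : IsDomain Γ((Red.Ga (Spec (CommRingCat.of A))).left, ⊤) :=
  (gammaEquiv A).symm.toMulEquiv.isDomain _

instance ufd_line [UniqueFactorizationMonoid A] :
    UniqueFactorizationMonoid Γ((Red.Ga (Spec (CommRingCat.of A))).left, ⊤) :=
  (gammaEquiv A).toMulEquiv.uniqueFactorizationMonoid inferInstance

instance nonempty_line : Nonempty (Red.Ga (Spec (CommRingCat.of A))).left := by
  by_contra h
  rw [not_nonempty_iff] at h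
  have : Subsingleton Γ((Red.Ga (Spec (CommRingCat.of A))).left, ⊤) := inferInstance
  exact not_subsingleton _ this

instance isIntegral_line : IsIntegral (Red.Ga (Spec (CommRingCat.of A))).left :=
  isIntegral_of_isAffine_of_isDomain _

/-- Sections of a `G_m`-quotient over the affine plane over a factorial ring lift. -/
theorem exists_lift_plane [UniqueFactorizationMonoid A] {I Q : EtFppf.AbF (Spec (CommRingCat.of A))} {i₁ : Gm _ ⟶ I}
    {π₁ : I ⟶ Q} {w₁ : i₁ ≫ π₁ = 0}
    (hA : (ShortComplex.mk i₁ π₁ w₁).ShortExact) (q : Γs Q (L1 (Red.Ga (Spec (CommRingCat.of A))))) :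
    ∃ s : Γs I (L1 (Red.Ga (Spec (CommRingCat.of A)))), m π₁ _ s = q := by
  have hm := hA.mono_f
  let V := Red.Ga (Spec (CommRingCat.of A))
  have hV : UniqueFactorizationMonoid (O V) := ufd_line A
  have hV' : IsDomain (O V) := isDomain_line A
  have h1 : IsDomain Γ((L1 V).left, ⊤) := (eL V).symm.toMulEquiv.isDomain _
  have h2 : UniqueFactorizationMonoid Γ((L1 V).left, ⊤) := (eL V).toMulEquiv.uniqueFactorizationMonoid inferInstance
  have h3 : Nonempty (L1 V).left := by
    by_contra h
    rw [not_nonempty_iff] at h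
    have : Subsingleton Γ((L1 V).left, ⊤) := inferInstance
    exact not_subsingleton _ this
  exact PicLift.exists_lift hA.exact (Iso.refl _) (L1 V) (fun L hL => PicUfd.pic_trivial _ L hL) q
    (fun x => ZarH90.exists_zar_lift hA (Iso.refl _) _ x)

end ring

theorem isPullback_pL {X : Scheme.{u}} (U : Over X) [IsAffine U.left] :
    IsPullback (πL U) (pL U) (Over.mkIdTerminal.from U) (Over.mkIdTerminal.from (Red.Ga X)) := by
  refine ⟨⟨Over.mkIdTerminal.hom_ext _ _⟩, ⟨PullbackCone.IsLimit.mk _
    (fun s => mkL s.fst (r (Ga X) s.snd (un X))) (fun s => mkL_πL _ _) (fun s => ?_) (fun s k h1 h2 => ?_)⟩⟩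
  · rw [mkL_pL, pt_r_un]
  · apply L1_ext
    · rw [mkL_πL, h1]
    · rw [r_mkL_xL]
      apply pt_injective
      rw [← comp_pL, h2, pt_r_un]

theorem isOpenImmersion_pL {X : Scheme.{u}} (U : Over X) [IsAffine U.left] [IsOpenImmersion U.hom] :
    IsOpenImmersion (pL U).left := by
  have h0 : (Over.mkIdTerminal.from U).left = U.hom := by
    have := Over.w (Over.mkIdTerminal.from U)
    exact (Category.comp_id _).symm.trans this
  have hpb' := (isPullback_pL U).map (Over.forget X)
  have hf : IsOpenImmersion (Over.mkIdTerminal.from U).left := by rw [h0]; infer_instance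
  exact MorphismProperty.of_isPullback (P := @IsOpenImmersion) hpb' hf

section main

variable (A : Type u) [CommRing A] [IsDomain A] [IsDiscreteValuationRing A]

instance isNoetherian_line : IsNoetherian (Red.Ga (Spec (CommRingCat.of A))).left := by
  have h1 : Smooth (Red.Ga (Spec (CommRingCat.of A))).hom := Groth.Agent.RedSub.H635.GaSm.smooth_ga
  have h2 : IsLocallyNoetherian (Red.Ga (Spec (CommRingCat.of A))).left :=
    LocallyOfFiniteType.isLocallyNoetherian (Red.Ga (Spec (CommRingCat.of A))).hom
  exact { }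

theorem regular_line (x : (Red.Ga (Spec (CommRingCat.of A))).left) :
    IsRegularLocalRing ((Red.Ga (Spec (CommRingCat.of A))).left.presheaf.stalk x) := by
  have h1 : Smooth (Red.Ga (Spec (CommRingCat.of A))).hom := Groth.Agent.RedSub.H635.GaSm.smooth_ga
  exact Groth.Agent.Fga.DVRGeom.isRegularLocalRing_stalk (Red.Ga (Spec (CommRingCat.of A))).hom x

theorem nonempty_L1 {X : Scheme.{u}} (U : Over X) [IsAffine U.left] [Nonempty U.left] : Nonempty (L1 U).left := by
  obtain ⟨x⟩ := ‹Nonempty U.left›
  exact ⟨(mkL (𝟙 U) (r (Ga X) (Over.mkIdTerminal.from U) 0 : Γs (Ga X) U)).left x⟩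

theorem res_injective (p : ℕ) [Fact p.Prime] [CharP A p] {L : Type u} [Field L] (φ : A →+* L)
    [IsOpenImmersion (Spec.map (CommRingCat.ofHom φ))] :
    Function.Injective (HRes.res Scheme.fppfPrecoverage (CGrpSh2.dualSh Scheme.fppfPrecoverage
      (CGrpSh2.Ga Scheme.fppfPrecoverage (Spec (CommRingCat.of A)))) 2 (AdFn.specOf φ)) := by
  let X := Spec (CommRingCat.of A)
  have hp : ((p : ℕ) : Γ(X, ⊤)) = 0 := by
    have h1 : (Scheme.ΓSpecIso (CommRingCat.of A)).inv ((p : ℕ) : A) = ((p : ℕ) : Γ(X, ⊤)) := map_natCast _ _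
    rw [← h1, CharP.cast_eq_zero, map_zero]
  have hExt := Groth.Agent.S13478.result X p hp
  let V : Over X := AdFn.specOf φ
  have hVa : IsAffine V.left := inferInstanceAs (IsAffine (Spec _))
  have hVo : IsOpenImmersion V.hom := inferInstanceAs (IsOpenImmersion (Spec.map (CommRingCat.ofHom φ)))
  have hVn : Nonempty V.left := inferInstanceAs (Nonempty (PrimeSpectrum L))
  have hne := nonempty_L1 V
  have hpo := isOpenImmersion_pL V
  rw [injective_iff_map_eq_zero]
  intro x hx
  have hx' : (BigCoh.bigCoh Scheme.fppfPrecoverage X).res (Over.mkIdTerminal.from V)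
      (K827.Abs.absE _ 2 x) = 0 := by
    rw [K827.Abs.res_absE']
    exact hx
  have h0 := HatTwo.main_aux (BigCoh.bigCoh Scheme.fppfPrecoverage X)
    (PicExt.injSeq_shortExact (Gm X)) (PicExt.injSeq_shortExact (PicExt.injSeq (Gm X)).X₃) hExt
    (exists_lift_plane A (PicExt.injSeq_shortExact (Gm X)))
    (V := V) (fun y hy => GmTwoInj.gm_two_inj (regular_line A) (pL V) y hy)
    (K827.Abs.absE _ 2 x) hx'
  exact (K827.Abs.absE _ 2).injective (h0.trans (map_zero _).symm)

end main

end K771.DvrLine
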