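import Groth.Agent.Etdl.H494.Opn

/-!
# Affine objects suffice on the big fppf site

* `affOpn`: an affine open neighbourhood as an object of the big site.
* `eq_of_affine`: sections agree if they agree on all affine objects over the given one.
* `isIso_of_affine`: a morphism of abelian sheaves bijective on sections over affine objects is an isomorphism.
-/

set_option autoImplicit false
universe u
open CategoryTheory CategoryTheory.Limits AlgebraicGeometry Opposite

noncomputable section

namespace K771.AffLocal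

open Groth.Agent.Etdl.H432.Sec Groth.Agent.Etdl.H494

variable {X : Scheme.{u}}

theorem exists_aff (T : Over X) : ∃ (ι : Type u) (V : ι → Over X) (g : ∀ i, V i ⟶ T),
    IsCov g ∧ ∀ i, IsAffine (V i).left := by
  have h : ∀ x : T.left, ∃ U : T.left.Opens, IsAffineOpen U ∧ x ∈ U := fun x => by
    obtain ⟨U, hU, hxU, -⟩ := exists_isAffineOpen_mem_and_subset (x := x) (U := ⊤) trivial
    exact ⟨U, hU, hxU⟩
  choose U hU hx using h
  exact ⟨T.left, fun x => opn T (U x), fun x => opnι T (U x), isCov_opn U fun x => ⟨x, hx x⟩, fun x => hU x⟩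

theorem eq_of_affine (F : EtFppf.AbF X) {T : Over X} (s t : Γs F T)
    (h : ∀ (V : Over X) (g : V ⟶ T), IsAffine V.left → r F g s = r F g t) : s = t := by
  obtain ⟨ι, V, g, hg, hV⟩ := exists_aff T
  exact sep F hg s t fun i => h _ (g i) (hV i)

theorem injective_of_affine {F G : EtFppf.AbF X} (φ : F ⟶ G)
    (h : ∀ T : Over X, IsAffine T.left → Function.Injective (m φ T)) (T : Over X) : Function.Injective (m φ T) := by
  intro s t e
  refine eq_of_affine F s t fun V g hV => h V hV ?_
  rw [m_r, m_r, e]

theorem bijective_of_affine {F G : EtFppf.AbF X} (φ : F ⟶ G)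
    (h : ∀ T : Over X, IsAffine T.left → Function.Bijective (m φ T)) (T : Over X) : Function.Bijective (m φ T) := by
  refine ⟨injective_of_affine φ (fun T hT => (h T hT).1) T, fun t => ?_⟩
  obtain ⟨ι, V, g, hg, hV⟩ := exists_aff T
  choose s hs using fun i => (h (V i) (hV i)).2 (r G (g i) t)
  obtain ⟨s', hs'⟩ := glue F hg s (fun i j Z a b hab => by
    apply injective_of_affine φ (fun T hT => (h T hT).1) Z
    rw [m_r, m_r, hs, hs, r_r, r_r, hab])
  refine ⟨s', sep G hg _ _ fun i => ?_⟩
  rw [← m_r, hs', hs]

theorem isIso_of_bijective {F G : EtFppf.AbF X} (φ : F ⟶ G)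
    (h : ∀ T : Over X, Function.Bijective (m φ T)) : IsIso φ := by
  have h1 : ∀ T : (Over X)ᵒᵖ, IsIso (φ.hom.app T) := fun T => by
    have h2 : Function.Bijective ((forget AddCommGrpCat.{u + 1}).map (φ.hom.app T)) := h T.unop
    have h3 : IsIso ((forget AddCommGrpCat.{u + 1}).map (φ.hom.app T)) := (isIso_iff_bijective _).2 h2
    exact isIso_of_reflects_iso (φ.hom.app T) (forget AddCommGrpCat.{u + 1})
  have h2 : IsIso φ.hom := (NatTrans.isIso_iff_isIso_app φ.hom).2 h1
  have h3 : IsIso ((sheafToPresheaf (EtFppf.J X) AddCommGrpCat.{u + 1}).map φ) := h2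
  exact isIso_of_reflects_iso φ (sheafToPresheaf (EtFppf.J X) AddCommGrpCat.{u + 1})

theorem isIso_of_affine {F G : EtFppf.AbF X} (φ : F ⟶ G)
    (h : ∀ T : Over X, IsAffine T.left → Function.Bijective (m φ T)) : IsIso φ :=
  isIso_of_bijective φ (bijective_of_affine φ h)

end K771.AffLocal
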