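import Mathlib.RingTheory.TensorProduct.Basic
import Mathlib.RingTheory.TensorProduct.Maps
import Mathlib.LinearAlgebra.TensorProduct.Tower
import Mathlib.Algebra.Module.Projective
import Mathlib.RingTheory.Ideal.Maps

/-!
# Base change of an algebra along a ring homomorphism, without algebra instances, and linear retractions

* `T2 B ρ = R ⊗_A B` for `ρ : A →+* R`, `il`, `ir`, `lift`, `ind`.
* `lamR lam ρ : T2 ρ →+ R` for `lam : B →ₗ[A] A`.
* `exists_lam`: a linear form on a projective algebra with value outside a given ideal at `1`.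
-/

set_option autoImplicit false
universe u
open TensorProduct

noncomputable section

namespace K771.Tens

variable {A B : Type u} [CommRing A] [CommRing B] [Algebra A B]

variable {R : Type u} [CommRing R] (ρ : A →+* R)

/-- `R` as an `A`-algebra via `ρ`. -/
def RA {A R : Type u} [CommRing A] [CommRing R] (_ : A →+* R) : Type u := R

instance : CommRing (RA ρ) := inferInstanceAs (CommRing R)

/-- The identity. -/
def toRA : R →+* RA ρ := RingHom.id R

/-- The identity. -/
def ofRA : RA ρ →+* R := RingHom.id R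

instance : Algebra A (RA ρ) := ((toRA ρ).comp ρ).toAlgebra

theorem algebraMap_RA (x : A) : algebraMap A (RA ρ) x = toRA ρ (ρ x) := rfl

variable (B) in
/-- `R ⊗_A B`. -/
abbrev T2 : Type u := RA ρ ⊗[A] B

variable (B) in
/-- The left inclusion. -/
def il : R →+* T2 B ρ := (Algebra.TensorProduct.includeLeft : RA ρ →ₐ[A] RA ρ ⊗[A] B).toRingHom.comp (toRA ρ)

/-- The right inclusion. -/
def ir : B →+* T2 B ρ := (Algebra.TensorProduct.includeRight : B →ₐ[A] RA ρ ⊗[A] B).toRingHom

theorem il_mul_ir (x : R) (b : B) : il B ρ x * ir ρ b = (toRA ρ x) ⊗ₜ[A] b := by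
  change ((toRA ρ x) ⊗ₜ[A] (1 : B)) * ((1 : RA ρ) ⊗ₜ[A] b) = _
  rw [Algebra.TensorProduct.tmul_mul_tmul, mul_one, one_mul]

theorem ir_algebraMap (x : A) : ir ρ (algebraMap A B x) = il B ρ (ρ x) := by
  change (1 : RA ρ) ⊗ₜ[A] (algebraMap A B x) = (algebraMap A (RA ρ) x) ⊗ₜ[A] (1 : B)
  exact (Algebra.TensorProduct.algebraMap_apply' (R := A) (A := RA ρ) (B := B) x).symm.trans
    (Algebra.TensorProduct.algebraMap_apply (R := A) (S := A) (A := RA ρ) (B := B) x)

theorem ind {P : T2 B ρ → Prop} (h0 : P 0) (hadd : ∀ x y, P x → P y → P (x + y))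
    (hmul : ∀ x b, P (il B ρ x * ir ρ b)) (z : T2 B ρ) : P z := by
  refine TensorProduct.induction_on (motive := P) z h0 (fun x b => ?_) hadd
  have h := hmul (ofRA ρ x) b
  rwa [il_mul_ir] at h

section lift

variable {S : Type u} [CommRing S] (g : R →+* S) (k : B →+* S) (h : ∀ x, g (ρ x) = k (algebraMap A B x))

/-- The universal property. -/
def lift : T2 B ρ →+* S :=
  letI : Algebra A S := (g.comp ρ).toAlgebra
  (Algebra.TensorProduct.lift (⟨g.comp (ofRA ρ), fun _ => rfl⟩ : RA ρ →ₐ[A] S)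
    (⟨k, fun x => (h x).symm⟩ : B →ₐ[A] S) (fun _ _ => mul_comm _ _)).toRingHom

theorem lift_mul (x : R) (b : B) : lift ρ g k h (il B ρ x * ir ρ b) = g x * k b := by
  rw [il_mul_ir]
  letI : Algebra A S := (g.comp ρ).toAlgebra
  exact Algebra.TensorProduct.lift_tmul _ _ _ _ _

theorem lift_il (x : R) : lift ρ g k h (il B ρ x) = g x := by
  have := lift_mul ρ g k h x 1
  rwa [map_one, mul_one, map_one, mul_one] at this

theorem lift_ir (b : B) : lift ρ g k h (ir ρ b) = k b := by
  have := lift_mul ρ g k h 1 b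
  rwa [map_one, one_mul, map_one, one_mul] at this

end lift

variable (lam : B →ₗ[A] A)

/-- `id ⊗ lam`. -/
def lamR : T2 B ρ →+ R :=
  (ofRA ρ).toAddMonoidHom.comp
    ((TensorProduct.rid A (RA ρ)).toLinearMap ∘ₗ LinearMap.lTensor (RA ρ) lam).toAddMonoidHom

theorem lamR_mul (x : R) (b : B) : lamR ρ lam (il B ρ x * ir ρ b) = x * ρ (lam b) := by
  rw [il_mul_ir]
  change TensorProduct.rid A (RA ρ) (LinearMap.lTensor (RA ρ) lam (toRA ρ x ⊗ₜ[A] b)) = _
  rw [LinearMap.lTensor_tmul, TensorProduct.rid_tmul, Algebra.smul_def, mul_comm]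
  rfl

theorem lamR_il (h1 : lam 1 = 1) (x : R) : lamR ρ lam (il B ρ x) = x := by
  have h := lamR_mul ρ lam x 1
  rwa [map_one, mul_one, h1, map_one, mul_one] at h

variable (B) in
/-- Functoriality. -/
def mapT {R' : Type u} [CommRing R'] (f : R →+* R') (ρ' : A →+* R') (h : ∀ x, f (ρ x) = ρ' x) : T2 B ρ →+* T2 B ρ' :=
  lift ρ ((il B ρ').comp f) (ir ρ') (fun x => by rw [ir_algebraMap, RingHom.comp_apply, h])

theorem lamR_mapT {R' : Type u} [CommRing R'] (f : R →+* R') (ρ' : A →+* R') (h : ∀ x, f (ρ x) = ρ' x) (z : T2 B ρ) :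
    lamR ρ' lam (mapT B ρ f ρ' h z) = f (lamR ρ lam z) := by
  refine ind ρ (P := fun z => lamR ρ' lam (mapT B ρ f ρ' h z) = f (lamR ρ lam z)) ?_ (fun x y hx hy => ?_)
    (fun x b => ?_) z
  · simp only [map_zero]
  · simp only [map_add, hx, hy]
  · rw [mapT, lift_mul, RingHom.comp_apply, lamR_mul, lamR_mul, map_mul, h]

/-- On a projective algebra `B`, a linear form with value at `1` outside an ideal `m` with `1 ∉ m B`. -/
theorem exists_lam [Module.Projective A B] (m : Ideal A) (hm : (1 : B) ∉ m.map (algebraMap A B)) :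
    ∃ lam : B →ₗ[A] A, lam 1 ∉ m := by
  obtain ⟨s, hs⟩ := Module.projective_def'.1 ‹Module.Projective A B›
  by_contra! hcon
  apply hm
  have h1 : Finsupp.linearCombination A id (s 1) = (1 : B) := congrArg (fun f => f 1) hs
  rw [← h1, Finsupp.linearCombination_apply, Finsupp.sum]
  refine Submodule.sum_mem _ fun b _ => ?_
  rw [Algebra.smul_def]
  exact Ideal.mul_mem_right _ _ (Ideal.mem_map_of_mem _ (hcon ((Finsupp.lapply b).comp s)))

end K771.Tens
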