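import Groth.Agent.Etrest.FppfMain3
import Groth.Agent.GaDual.K771.Pts
import Groth.Agent.GaDual.K771.AffHom
import Groth.Agent.GaDual.K771.Aff
import Groth.Agent.GaDual.K771.Tens
import Mathlib.RingTheory.Finiteness.ModuleFinitePresentation
import Mathlib.RingTheory.Flat.EquationalCriterion

/-!
# Čech acyclicity of `G_a` for finite locally free coverings (Zariski-locally)

`ca_Ga : CA (Ga X).obj`.
-/

set_option autoImplicit false
universe u
open CategoryTheory CategoryTheory.Limits AlgebraicGeometry Opposite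

noncomputable section

namespace K771.CAGa

open Groth.Agent.Etdl.H432.Sec Groth.Agent.Etdl.H494 K771.Pts K771.Aff K771.AffLocal K771.AffHom K771.Tens
  Groth.Agent.Etrest.FppfCoch Groth.Agent.Etrest.FppfMain

variable {X : Scheme.{u}}

section contraction

variable {V : Over X} {B : Type u} [CommRing B] [Algebra (O V) B]

/-- `W ×_V Spec B`. -/
abbrev Wq (B : Type u) [CommRing B] [Algebra (O V) B] {W : Over X} [IsAffine W.left] (a : W ⟶ V) : Over X :=
  aff (T := W) (il B (ro a))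

/-- The projection to `W`. -/
abbrev πW (B : Type u) [CommRing B] [Algebra (O V) B] {W : Over X} [IsAffine W.left] (a : W ⟶ V) : Wq B a ⟶ W :=
  π (T := W) (il B (ro a))

variable [IsAffine V.left]

theorem exists_qW {W : Over X} [IsAffine W.left] (a : W ⟶ V) :
    ∃ k : Wq B a ⟶ aff (algebraMap (O V) B), k ≫ π _ = πW B a ≫ a ∧
      ∀ b, ro k (e _ b) = e (il B (ro a)) (ir (ro a) b) :=
  exists_hom (algebraMap (O V) B) (πW B a ≫ a) ((e (il B (ro a))).toRingHom.comp (ir (ro a))) (fun x => by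
    rw [← ro_ro, ro_π, RingHom.comp_apply, ir_algebraMap]
    rfl)

/-- The projection to `Spec B`. -/
def qW {W : Over X} [IsAffine W.left] (a : W ⟶ V) : Wq B a ⟶ aff (algebraMap (O V) B) := (exists_qW a).choose

theorem qW_π {W : Over X} [IsAffine W.left] (a : W ⟶ V) : qW (B := B) a ≫ π _ = πW B a ≫ a :=
  (exists_qW a).choose_spec.1

theorem ro_qW {W : Over X} [IsAffine W.left] (a : W ⟶ V) (b : B) :
    ro (qW a) (e (algebraMap (O V) B) b) = e (il B (ro a)) (ir (ro a) b) :=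
  (exists_qW a).choose_spec.2 b

theorem exists_fW {W W' : Over X} [IsAffine W.left] [IsAffine W'.left] (a : W ⟶ V) (f : W' ⟶ W) (a' : W' ⟶ V)
    (h : f ≫ a = a') :
    ∃ k : Wq B a' ⟶ Wq B a, k ≫ πW B a = πW B a' ≫ f ∧ k ≫ qW a = qW a' ∧
      ∀ z, ro k (e _ z) = e (il B (ro a')) (mapT B (ro a) (ro f) (ro a') (fun x => by rw [ro_ro, h]) z) := by
  obtain ⟨k, h1, h2⟩ := exists_hom (il B (ro a)) (πW B a' ≫ f)
    ((e (il B (ro a'))).toRingHom.comp (mapT B (ro a) (ro f) (ro a') (fun x => by rw [ro_ro, h]))) (fun x => by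
      rw [← ro_ro, ro_π, RingHom.comp_apply, mapT, lift_il, RingHom.comp_apply]
      rfl)
  refine ⟨k, h1, ?_, h2⟩
  refine hom_ext _ _ _ fun b => ?_
  rw [← ro_ro, ro_qW, h2, ro_qW, RingHom.comp_apply, mapT, lift_ir]
  rfl

variable (lam : B →ₗ[O V] O V) {V₂ : Over X} (g : V₂ ⟶ V) (v : O V₂)

/-- The contraction `O(W ×_V Spec B) → O(W)`. -/
def tr {W : Over X} [IsAffine W.left] (a : W ⟶ V₂) : Γs (Ga X) (Wq B (a ≫ g)) →+ Γs (Ga X) W :=
  AddMonoidHom.mk' (fun s => gas (ro a v * lamR (ro (a ≫ g)) lam ((e (il B (ro (a ≫ g)))).symm (ga s))))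
    (fun s t => by rw [ga_add, map_add, map_add, mul_add, gas_add])

omit [IsAffine V.left] in
theorem ga_tr {W : Over X} [IsAffine W.left] (a : W ⟶ V₂) (s : Γs (Ga X) (Wq B (a ≫ g))) :
    ga (tr lam g v a s) = ro a v * lamR (ro (a ≫ g)) lam ((e (il B (ro (a ≫ g)))).symm (ga s)) := ga_gas _

variable {v} in
omit [IsAffine V.left] in
theorem tr_r (hv : v * ro g (lam 1) = 1) {W : Over X} [IsAffine W.left] (a : W ⟶ V₂) (s : Γs (Ga X) W) :
    tr lam g v a (r (Ga X) (πW B (a ≫ g)) s) = s := by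
  apply ga_injective
  rw [ga_tr, ga_r, ro_π, RingEquiv.symm_apply_apply]
  have h := lamR_mul (ro (a ≫ g)) lam (ga s) 1
  rw [map_one, mul_one] at h
  rw [h, ← ro_ro, mul_left_comm, ← map_mul, hv, map_one, mul_one]

omit [IsAffine V.left] in
theorem tr_nat {W W' : Over X} [IsAffine W.left] [IsAffine W'.left] (a : W ⟶ V₂) (f : W' ⟶ W) (a' : W' ⟶ V₂)
    (h : f ≫ a ≫ g = a' ≫ g) (h' : f ≫ a = a')
    (s : Γs (Ga X) (Wq B (a ≫ g))) (k : Wq B (a' ≫ g) ⟶ Wq B (a ≫ g))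
    (hk : ∀ z, ro k (e _ z) = e (il B (ro (a' ≫ g)))
      (mapT B (ro (a ≫ g)) (ro f) (ro (a' ≫ g)) (fun x => by rw [ro_ro, h]) z)) :
    r (Ga X) f (tr lam g v a s) = tr lam g v a' (r (Ga X) k s) := by
  apply ga_injective
  rw [ga_r, ga_tr, ga_tr, ga_r, map_mul, ro_ro, h']
  congr 1
  obtain ⟨z, hz⟩ := (e (il B (ro (a ≫ g)))).surjective (ga s)
  rw [← hz, hk, RingEquiv.symm_apply_apply, RingEquiv.symm_apply_apply, lamR_mapT]

variable {T T' : Over X} {p : T' ⟶ T} {e₀ : V ⟶ T} {q : aff (algebraMap (O V) B) ⟶ T'} (hq : q ≫ p = π _ ≫ e₀)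

/-- The tuple over `Wq`. -/
def tup (q : aff (algebraMap (O V) B) ⟶ T') {W : Over X} [IsAffine W.left] (a : W ⟶ V₂) {n : ℕ} (x : Fin n → (W ⟶ T')) :
    Fin (n + 1) → (Wq B (a ≫ g) ⟶ T') :=
  Fin.cons (qW (a ≫ g) ≫ q) (fun i => πW B (a ≫ g) ≫ x i)

include hq in
theorem compat_tup {W : Over X} [IsAffine W.left] (a : W ⟶ V₂) {n : ℕ} (x : Fin n → (W ⟶ T'))
    (hx : Compat p (g ≫ e₀) a x) : Compat p (g ≫ e₀) (πW B (a ≫ g) ≫ a) (tup g q a x) := by
  refine (hx.comp (πW B (a ≫ g))).cons ?_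
  rw [Category.assoc, hq, ← Category.assoc, qW_π]
  simp only [Category.assoc]

/-- The contraction of a cochain on affine objects. -/
def bA {n : ℕ} (c : Fam (Ga X).obj V₂ T' (n + 1)) (q : aff (algebraMap (O V) B) ⟶ T')
    {W : Over X} [IsAffine W.left] (a : W ⟶ V₂) (x : Fin (n + 1) → (W ⟶ T')) : Γs (Ga X) W :=
  tr lam g v a (c (Wq B (a ≫ g)) (πW B (a ≫ g) ≫ a) (tup g q a x))

include hq in
theorem bA_nat {n : ℕ} {c : Fam (Ga X).obj V₂ T' (n + 1)} (hc : IsCoch p (g ≫ e₀) c)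
    {W W' : Over X} [IsAffine W.left] [IsAffine W'.left] (f : W' ⟶ W) (a : W ⟶ V₂) (x : Fin (n + 1) → (W ⟶ T'))
    (hx : Compat p (g ≫ e₀) a x) :
    r (Ga X) f (bA lam g v c q a x) = bA lam g v c q (f ≫ a) (fun i => f ≫ x i) := by
  obtain ⟨k, h1, h2, h3⟩ := exists_fW (B := B) (a ≫ g) f ((f ≫ a) ≫ g) (Category.assoc _ _ _).symm
  rw [bA, tr_nat lam g v a f (f ≫ a) (Category.assoc _ _ _).symm rfl _ k h3, bA]
  congr 1
  refine (hc k (πW B (a ≫ g) ≫ a) _ (compat_tup g hq a x hx)).trans ?_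
  have e1 : k ≫ πW B (a ≫ g) ≫ a = πW B ((f ≫ a) ≫ g) ≫ f ≫ a :=
    (Category.assoc k _ _).symm.trans ((congrArg (· ≫ a) h1).trans (Category.assoc _ _ _))
  have e2 : (fun i => k ≫ tup g q a x i) = tup g q (f ≫ a) (fun i => f ≫ x i) := by
    funext i
    refine Fin.cases ?_ (fun j => ?_) i
    · exact (Category.assoc k _ _).symm.trans (congrArg (· ≫ q) h2)
    · exact (Category.assoc k _ _).symm.trans ((congrArg (· ≫ x j) h1).trans (Category.assoc _ _ _))
  rw [e1, e2]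

include hq in
variable {v} in
theorem bA_cob (hv : v * ro g (lam 1) = 1) {n : ℕ} {c : Fam (Ga X).obj V₂ T' (n + 1)} (hc : IsCoch p (g ≫ e₀) c)
    (hz : IsCocycle p (g ≫ e₀) c)
    {W : Over X} [IsAffine W.left] (a : W ⟶ V₂) (x : Fin (n + 2) → (W ⟶ T')) (hx : Compat p (g ≫ e₀) a x) :
    dS (fun y => bA lam g v c q a y) x = c W a x := by
  have h1 : dS (fun y => bA lam g v c q a y) x =
      tr lam g v a (dS (fun y => c (Wq B (a ≫ g)) (πW B (a ≫ g) ≫ a) (tup g q a y)) x) :=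
    (map_dS (tr lam g v a) _ _).symm
  have h2 : dS (fun y => c (Wq B (a ≫ g)) (πW B (a ≫ g) ≫ a) (tup g q a y)) x =
      dS (fun y => c (Wq B (a ≫ g)) (πW B (a ≫ g) ≫ a) (Fin.cons (qW (a ≫ g) ≫ q) y : Fin (n + 2) → _))
        (fun i => πW B (a ≫ g) ≫ x i) :=
    (dS_comp (fun f : W ⟶ T' => πW B (a ≫ g) ≫ f)
      (fun y => c (Wq B (a ≫ g)) (πW B (a ≫ g) ≫ a) (Fin.cons (qW (a ≫ g) ≫ q) y : Fin (n + 2) → _)) x).symm
  have h3 := dS_cons (c (Wq B (a ≫ g)) (πW B (a ≫ g) ≫ a)) (qW (a ≫ g) ≫ q) (fun i => πW B (a ≫ g) ≫ x i)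
  have h0 := hz (πW B (a ≫ g) ≫ a) _ (compat_tup g hq a x hx)
  rw [tup] at h0
  rw [h0] at h3
  rw [h1, h2, ← sub_eq_zero.1 h3.symm]
  have h4 : c (Wq B (a ≫ g)) (πW B (a ≫ g) ≫ a) (fun i => πW B (a ≫ g) ≫ x i) = r (Ga X) (πW B (a ≫ g)) (c W a x) :=
    (hc (πW B (a ≫ g)) a x hx).symm
  rw [h4, tr_r lam g hv]

include hq in
variable {v} in
theorem exists_cob (hv : v * ro g (lam 1) = 1) {n : ℕ} {c : Fam (Ga X).obj V₂ T' (n + 1)}
    (hc : IsCoch p (g ≫ e₀) c) (hz : IsCocycle p (g ≫ e₀) c) :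
    ∃ b : Fam (Ga X).obj V₂ T' n, IsCoch p (g ≫ e₀) b ∧ IsCob p (g ≫ e₀) b c := by
  classical
  have h1 : ∀ (W : Over X) (a : W ⟶ V₂) (x : Fin (n + 1) → (W ⟶ T')), Compat p (g ≫ e₀) a x →
      ∃ t : Γs (Ga X) W, ∀ (W' : Over X) (f : W' ⟶ W) (hW' : IsAffine W'.left),
        r (Ga X) f t = bA lam g v c q (f ≫ a) (fun i => f ≫ x i) := fun W a x hx => by
    refine exists_glue W (fun W' f _ => bA lam g v c q (f ≫ a) (fun i => f ≫ x i)) (fun W₁ W₂ f k _ _ => ?_)
    rw [bA_nat lam g v hq hc k _ _ (hx.comp f)]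
    simp only [Category.assoc]
  choose t ht using h1
  let b : Fam (Ga X).obj V₂ T' n := fun W a x => if hx : Compat p (g ≫ e₀) a x then t W a x hx else 0
  have hb : ∀ (W : Over X) (a : W ⟶ V₂) (x : Fin (n + 1) → (W ⟶ T')) (_ : Compat p (g ≫ e₀) a x)
      (W' : Over X) (f : W' ⟶ W) (_ : IsAffine W'.left),
        r (Ga X) f (b W a x) = bA lam g v c q (f ≫ a) (fun i => f ≫ x i) := fun W a x hx W' f hW' => by
    have : b W a x = t W a x hx := dif_pos hx
    rw [this, ht W a x hx W' f hW']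
  have hcoch : IsCoch p (g ≫ e₀) b := fun W W' f a x hx => by
    change r (Ga X) f (b W a x) = b W' (f ≫ a) (fun i => f ≫ x i)
    refine eq_of_affine (Ga X) _ _ fun W'' k hW'' => ?_
    rw [r_r, hb W a x hx _ _ hW'', hb W' _ _ (hx.comp f) _ _ hW'']
    simp only [Category.assoc]
  refine ⟨b, hcoch, fun W a x hx => ?_⟩
  refine eq_of_affine (Ga X) _ _ fun W' f hW' => ?_
  have h2 : r (Ga X) f (dS (b W a) x) = dS (b W' (f ≫ a)) (fun i => f ≫ x i) := hcoch.dF f a x hx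
  have h3 : r (Ga X) f (c W a x) = c W' (f ≫ a) (fun i => f ≫ x i) := hc f a x hx
  rw [h2, h3, ← bA_cob lam g hq hv hc hz (f ≫ a) (fun i => f ≫ x i) (hx.comp f)]
  refine dS_congr fun i => ?_
  have h4 := hb W' (f ≫ a) _ ((hx.comp f).face i) W' (𝟙 W') hW'
  rw [r_id] at h4
  simpa only [Category.id_comp] using h4

end contraction

/-- The comparison `Spec Γ(P) ⟶ P` for `b : P ⟶ V` with `P`, `V` affine. -/
theorem exists_fromAff {P V : Over X} [IsAffine P.left] [IsAffine V.left] (b : P ⟶ V) :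
    ∃ q : aff (ro b) ⟶ P, q ≫ b = π (ro b) := by
  have h : Spec.map (CommRingCat.ofHom (ro b)) ≫ V.left.isoSpec.inv = P.left.isoSpec.inv ≫ b.left :=
    Scheme.isoSpec_inv_naturality b.left
  refine ⟨Over.homMk P.left.isoSpec.inv ?_, ?_⟩
  · change P.left.isoSpec.inv ≫ P.hom = Spec.map (CommRingCat.ofHom (ro b)) ≫ V.left.isoSpec.inv ≫ V.hom
    rw [← Over.w b, ← Category.assoc, ← Category.assoc, h]
  · ext : 1
    exact h.symm

theorem projective_of_flf {P V : Over X} [IsAffine P.left] [IsAffine V.left] {b : P ⟶ V} (hb : FLF b) :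
    @Module.Projective (O V) _ (O P) _ (ro b).toAlgebra.toModule := by
  algebraize [ro b]
  have h1 := hb.fin
  have h2 := hb.flat
  have h3 := hb.lfp
  have h4 : (b.left.appTop).hom.Finite := (HasAffineProperty.iff_of_isAffine (P := @IsFinite)).1 h1 |>.2
  have h5 : (b.left.appTop).hom.Flat := (HasRingHomProperty.iff_of_isAffine (P := @Flat)).1 h2
  have h6 : (b.left.appTop).hom.FinitePresentation :=
    (HasRingHomProperty.iff_of_isAffine (P := @LocallyOfFinitePresentation)).1 h3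
  have h7 : Module.Finite (O V) (O P) := h4
  have h8 : Module.Flat (O V) (O P) := h5
  have h9 : Algebra.FinitePresentation (O V) (O P) := h6
  have h10 : Module.FinitePresentation (O V) (O P) := Module.FinitePresentation.of_finite_of_finitePresentation _ _
  exact Module.Flat.projective_of_finitePresentation

theorem isUnit_basicOpen {X : Scheme.{u}} (f : Γ(X, ⊤)) : IsUnit ((X.basicOpen f).ι.appTop.hom f) := by
  have h1 : (X.basicOpen f : Scheme.{u}).basicOpen ((X.basicOpen f).ι.appTop f) = ⊤ := by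
    have := Scheme.preimage_basicOpen (X.basicOpen f).ι f
    refine this.symm.trans ?_
    simp
  refine RingedSpace.isUnit_of_isUnit_germ _ _ _ (fun x hx => ?_)
  have h2 : x ∈ (X.basicOpen f : Scheme.{u}).basicOpen ((X.basicOpen f).ι.appTop f) := by
    rw [h1]; trivial
  exact (Scheme.mem_basicOpen _ _ _ hx).1 h2

/-- Existence of a linear form with value at `1` nonzero at a given point. -/
theorem exists_form {P V : Over X} [IsAffine P.left] [IsAffine V.left] {b : P ⟶ V} (hb : FLF b) (w : P.left) :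
    ∃ lam : @LinearMap (O V) (O V) _ _ (RingHom.id _) (O P) (O V) _ _ (ro b).toAlgebra.toModule _,
      b.left w ∈ V.left.basicOpen (lam 1) := by
  let _ : Algebra (O V) (O P) := (ro b).toAlgebra
  have hproj : Module.Projective (O V) (O P) := projective_of_flf hb
  let m : Ideal (O V) := RingHom.ker (V.left.Γevaluation (b.left w)).hom
  have hm : (1 : O P) ∉ m.map (algebraMap (O V) (O P)) := by
    intro h
    have h1 : m.map (algebraMap (O V) (O P)) ≤ RingHom.ker (P.left.Γevaluation w).hom := by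
      rw [Ideal.map_le_iff_le_comap]
      intro x hx
      have h2 := Scheme.Γevaluation_naturality_apply b.left w x
      have h3 : V.left.Γevaluation (b.left w) x = 0 := hx
      rw [h3, map_zero] at h2
      exact h2.symm
    have h2 : (P.left.Γevaluation w).hom 1 = 0 := h1 h
    rw [map_one] at h2
    exact one_ne_zero h2
  obtain ⟨lam, hlam⟩ := exists_lam m hm
  exact ⟨lam, (Scheme.evaluation_ne_zero_iff_mem_basicOpen _ _ _ _).1 hlam⟩

theorem ca_Ga : CA (Ga X).obj := by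
  intro T T' U p e₁ hp n c hc hz u
  obtain ⟨V₀, hV₀, huV, -⟩ := exists_isAffineOpen_mem_and_subset (x := u) (U := ⊤) trivial
  let V : Over X := opn U V₀
  let ι : V ⟶ U := opnι U V₀
  have hV : IsAffine V.left := hV₀
  let u' : V.left := ⟨u, huV⟩
  let P : Over X := pullback p (ι ≫ e₁)
  let b : P ⟶ V := pullback.snd p (ι ≫ e₁)
  have hb : FLF b := hp.of_isPullback (IsPullback.of_hasPullback p (ι ≫ e₁))
  have hP : IsAffine P.left := by
    have := hb.fin
    exact isAffine_of_isAffineHom b.left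
  have hbs := hb.surj
  obtain ⟨w, hw⟩ := b.left.surjective u'
  obtain ⟨q, hq⟩ := exists_fromAff b
  obtain ⟨lam, hlam⟩ := exists_form hb w
  rw [hw] at hlam
  let _ : Algebra (O V) (O P) := (ro b).toAlgebra
  let V₂ : Over X := opn V (V.left.basicOpen (lam 1))
  let g : V₂ ⟶ V := opnι V _
  obtain ⟨v, hv⟩ := (isUnit_basicOpen (lam 1)).exists_left_inv
  have hpb : pullback.fst p (ι ≫ e₁) ≫ p = b ≫ ι ≫ e₁ := pullback.condition
  have hq' : (q ≫ pullback.fst p (ι ≫ e₁)) ≫ p = π (algebraMap (O V) (O P)) ≫ ι ≫ e₁ := by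
    rw [Category.assoc, hpb, ← Category.assoc, hq]
    rfl
  have e1 : g ≫ ι ≫ e₁ = (g ≫ ι) ≫ e₁ := (Category.assoc _ _ _).symm
  have hc' : IsCoch p (g ≫ ι ≫ e₁) (resF (g ≫ ι) c) := e1 ▸ hc.res (g ≫ ι)
  have hz' : IsCocycle p (g ≫ ι ≫ e₁) (resF (g ≫ ι) c) := e1 ▸ hz.res (g ≫ ι)
  obtain ⟨β, hβ, hβc⟩ := exists_cob lam g hq' hv hc' hz'
  refine ⟨V₂, g ≫ ι, ?_, ⟨⟨u', hlam⟩, rfl⟩, β, e1 ▸ hβ, e1 ▸ hβc⟩
  rw [Over.comp_left]
  have h1 : IsOpenImmersion g.left := inferInstanceAs (IsOpenImmersion (Scheme.Opens.ι _))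
  have h2 : IsOpenImmersion ι.left := inferInstanceAs (IsOpenImmersion (Scheme.Opens.ι _))
  infer_instance

end K771.CAGa
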