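import Groth.Agent.GaDual.K771.Pts
import Groth.Agent.GaDual.K771.Aff
import Groth.Agent.GaDual.K771.AffLocal
import Mathlib.RingTheory.Polynomial.Nilpotent

/-!
# Natural `G_m`-valued functions of several `G_a`-variables over a reduced base are constant

`const_of_reduced₂`: for `X` reduced, a natural map `G_a × G_a ⟶ G_m` is constant.
-/

set_option autoImplicit false
universe u
open CategoryTheory CategoryTheory.Limits AlgebraicGeometry Opposite Polynomial

noncomputable section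

namespace K771.ConstRed

open Groth.Agent.Etdl.H432.Sec Groth.Agent.Etdl.H494 K771.Pts K771.Aff K771.AffLocal

theorem exists_C_of_isUnit {A : Type u} [CommRing A] [IsReduced A] {f : A[X]} (hf : IsUnit f) : ∃ a : A, f = C a := by
  refine ⟨f.coeff 0, ?_⟩
  have h := Polynomial.isUnit_iff_coeff_isUnit_isNilpotent.1 hf
  ext n
  rw [coeff_C]
  split_ifs with hn
  · rw [hn]
  · exact (h.2 n hn).eq_zero

theorem isReduced_polynomial {A : Type u} [CommRing A] [IsReduced A] : _root_.IsReduced A[X] :=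
  ⟨fun f hf => by
    ext n
    exact (Polynomial.isNilpotent_iff.1 hf n).eq_zero⟩

variable {X : Scheme.{u}}
  (γ : ∀ W : Over X, Γs (Ga X) W → Γs (Ga X) W → Γs (Gm X) W)
  (hγ : ∀ (W W' : Over X) (k : W' ⟶ W) (y y' : Γs (Ga X) W), r (Gm X) k (γ W y y') = γ W' (r _ k y) (r _ k y'))

include hγ in
theorem const_aux {T : Over X} [IsAffine T.left] [IsReduced T.left] {V : Over X} (h : V ⟶ T)
    (y y' : Γs (Ga X) V) : γ V y y' = r (Gm X) h (γ T 0 0) := by
  let α : O T →+* (O T)[X][X] := C.comp C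
  let y₁ : Γs (Ga X) (aff α) := gas (e α (C Polynomial.X))
  let y₂ : Γs (Ga X) (aff α) := gas (e α Polynomial.X)
  obtain ⟨u, hu⟩ := (e α).surjective (gm (γ (aff α) y₁ y₂))
  have hu1 : IsUnit u := by
    have h1 : IsUnit (e α u) := by rw [hu]; exact isUnit_gm _
    simpa using h1.map (e α).symm
  have := isReduced_polynomial (A := O T)
  obtain ⟨b, rfl⟩ := exists_C_of_isUnit hu1
  have hb : IsUnit b := Polynomial.isUnit_C.1 hu1
  obtain ⟨a, rfl⟩ := exists_C_of_isUnit hb
  have key : ∀ {V : Over X} (h : V ⟶ T) (y y' : Γs (Ga X) V), gm (γ V y y') = ro h a := by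
    intro V h y y'
    obtain ⟨k, hk, hk'⟩ := exists_hom α h (eval₂RingHom (eval₂RingHom (ro h) (ga y)) (ga y')) (fun x => by simp [α])
    have e1 : r (Ga X) k y₁ = y := ga_injective (by rw [ga_r, ga_gas, hk']; simp)
    have e2 : r (Ga X) k y₂ = y' := ga_injective (by rw [ga_r, ga_gas, hk']; simp)
    have h2 := hγ (aff α) V k y₁ y₂
    rw [e1, e2] at h2
    rw [← h2, gm_r, ← hu, hk']
    simp
  apply gm_injective
  rw [gm_r, key h, key (𝟙 T), ro_id]

include hγ in
theorem const_of_reduced₂ [IsReduced X] {V : Over X} (y y' : Γs (Ga X) V) (h : V ⟶ Over.mk (𝟙 X)) :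
    γ V y y' = r (Gm X) h (γ (Over.mk (𝟙 X)) 0 0) := by
  have h1 : ∀ x : X, ∃ U : X.Opens, IsAffineOpen U ∧ x ∈ U := fun x => by
    obtain ⟨U, hU, hxU, -⟩ := exists_isAffineOpen_mem_and_subset (x := x) (U := ⊤) trivial
    exact ⟨U, hU, hxU⟩
  choose U hU hxU using h1
  let T₀ : Over X := Over.mk (𝟙 X)
  refine eq_of_openCover (Gm X) (fun v : V.left => h.left ⁻¹ᵁ (U (h.left v))) (fun v => ⟨v, hxU _⟩) _ _ fun v => ?_
  let T : Over X := opn T₀ (U (h.left v))
  have : IsAffine T.left := hU _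
  have : IsReduced T.left := inferInstanceAs (IsReduced (U (h.left v)).toScheme)
  let k : opn V (h.left ⁻¹ᵁ (U (h.left v))) ⟶ T := opnMap h _ _ le_rfl
  rw [hγ, const_aux γ hγ k]
  have h2 : r (Gm X) (opnι T₀ (U (h.left v))) (γ T₀ 0 0) = γ T 0 0 := by
    rw [hγ, map_zero]
  rw [← h2, r_r, r_r, opnMap_opnι]

end K771.ConstRed
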