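import Groth.Agent.GaDual.K771.Char
import Groth.Agent.GaDual.K771.AffLocal

/-!
# The double dual of the additive group

Over any scheme the double duality map of `G_a` on the big fppf site is an isomorphism.
-/

set_option autoImplicit false
universe u
open CategoryTheory CategoryTheory.Limits AlgebraicGeometry Opposite Polynomial

noncomputable section

namespace K771.DoubleDual

open Groth.Agent.Etdl.H432.Sec K771.Pts K771.HomEv K771.DDAlg K771.Aff K771.Char K771.Hur

variable {X : Scheme.{u}}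

/-- The bidual map. -/
abbrev bid (X : Scheme.{u}) : Ga X ⟶ hom (Gad X) (Gm X) := HomSh.bidualMap (EtFppf.J X) (Ga X) (Gm X)

variable {T : Over X} [IsAffine T.left]

omit [IsAffine T.left] in
theorem gm_bid (s : Γs (Ga X) T) {W : Over X} [IsAffine W.left] (h : W ⟶ T) (φ : Γs (Gad X) W) :
    gm (ev (m (bid X) T s) h φ) = (poly φ).eval (ro h (ga s)) := by
  rw [ev_bidual, gm_ev, ga_r, ← eval₂_id]
  congr 1

theorem injective : Function.Injective (m (bid X) T) := by
  intro s t hst
  let c := DP.c (O T) 2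
  let f : (DP (O T) 2)[X] := chi (O T) 2
  let φ : Γs (Gad X) (aff c) := ofChar (f.map (e c : DP (O T) 2 →+* O (aff c))) ((isChar_chi _ _).map _)
  have h1 : ∀ s : Γs (Ga X) T, gm (ev (m (bid X) T s) (Aff.π c) φ) = e c (f.eval (c (ga s))) := by
    intro s
    rw [gm_bid, poly_ofChar, ro_π]
    exact eval_map_apply (f := (e c : DP (O T) 2 →+* O (aff c))) (c (ga s))
  have h2 := h1 s
  rw [hst, h1 t] at h2
  exact (ga_injective (eq_of_eval_chi_two _ _ ((e c).injective h2))).symm

open Classical in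
/-- The function on characters attached to a section of the double dual. -/
def psi (Ψ : Γs (hom (Gad X) (Gm X)) T) (B : Type u) [CommRing B] (ρ : O T →+* B) (f : B[X]) : B :=
  if hf : IsChar f then
    (e ρ).symm (gm (ev Ψ (Aff.π ρ) (ofChar (f.map (e ρ : B →+* O (aff ρ))) (hf.map _))))
  else 0

theorem e_psi (Ψ : Γs (hom (Gad X) (Gm X)) T) (B : Type u) [CommRing B] (ρ : O T →+* B) (f : B[X])
    (hf : IsChar f) :
    e ρ (psi Ψ B ρ f) = gm (ev Ψ (Aff.π ρ) (ofChar (f.map (e ρ : B →+* O (aff ρ))) (hf.map _))) := by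
  rw [psi, dif_pos hf, RingEquiv.apply_symm_apply]

theorem gm_ev_psi (Ψ : Γs (hom (Gad X) (Gm X)) T) (B : Type u) [CommRing B] (ρ : O T →+* B) (f : B[X])
    (hf : IsChar f) {W : Over X} [IsAffine W.left] (h : W ⟶ T) (σ : B →+* O W) (hσ : ∀ x, σ (ρ x) = ro h x) :
    gm (ev Ψ h (ofChar (f.map σ) (hf.map _))) = σ (psi Ψ B ρ f) := by
  obtain ⟨k, hk, hk2⟩ := Aff.exists_hom ρ h σ hσ
  rw [← hk2, e_psi Ψ B ρ f hf, ← gm_r, ev_r', r_ofChar, hk]
  congr 2
  apply poly_injective
  rw [poly_ofChar, poly_ofChar, Polynomial.map_map]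
  congr 1
  ext x
  exact (hk2 x).symm

theorem surjective : Function.Surjective (m (bid X) T) := by
  intro Ψ
  obtain ⟨a, ha⟩ := exists_eval (psi Ψ) (by
    intro B B' _ _ ρ σ f hf
    apply (e (σ.comp ρ)).injective
    rw [e_psi _ _ _ _ (hf.map σ)]
    have h1 := gm_ev_psi Ψ B ρ f hf (Aff.π (σ.comp ρ)) ((e (σ.comp ρ) : B' →+* O (aff (σ.comp ρ))).comp σ)
      (fun x => (ro_π (σ.comp ρ) x).symm)
    refine Eq.trans ?_ h1
    congr 2
    exact ofChar_congr (Polynomial.map_map _ _ _) _ _) (by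
    apply (e (RingHom.id (O T))).injective
    rw [e_psi _ _ _ _ isChar_one, map_one]
    have h1 : ofChar ((1 : (O T)[X]).map (e (RingHom.id (O T)) : O T →+* O (aff (RingHom.id (O T)))))
        (isChar_one.map _) = 0 := by
      rw [← ofChar_one]
      exact ofChar_congr (Polynomial.map_one _) _ _
    rw [h1, map_zero, gm_zero]) (by
    intro B _ ρ f g hf hg
    apply (e ρ).injective
    rw [e_psi _ _ _ _ (hf.mul hg), map_mul, e_psi _ _ _ _ hf, e_psi _ _ _ _ hg, ← gm_add, ← map_add, ← ofChar_mul]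
    congr 2
    exact ofChar_congr (Polynomial.map_mul _) _ _)
  refine ⟨gas a, ev_ext fun W h φ => ?_⟩
  refine AffLocal.eq_of_affine (Gm X) _ _ fun V g hV => gm_injective ?_
  rw [ev_r', ev_r', gm_bid, ga_gas]
  have h1 := gm_ev_psi Ψ (O V) (ro (g ≫ h)) (poly (r (Gad X) g φ)) (isChar_poly _) (g ≫ h) (RingHom.id _)
    (fun _ => rfl)
  rw [ha _ _ _ (isChar_poly _)] at h1
  refine Eq.trans ?_ (h1.symm.trans ?_)
  · rfl
  · congr 2
    refine Eq.trans (ofChar_congr (Polynomial.map_id) _ (isChar_poly _)) (ofChar_poly _)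

variable (X)

/-- The double duality map of the additive group is an isomorphism, over any scheme. -/
theorem isIso_bid : IsIso (bid X) :=
  AffLocal.isIso_of_affine _ fun _ _ => ⟨injective, surjective⟩

end K771.DoubleDual
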