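import Groth.Agent.GaDual.K771.LineField
import Groth.Agent.GaDual.K771.SymLift
import Groth.Agent.GaDual.K771.FieldLine

/-!
# `Ext^2(G_a, G_m) = 0` over a perfect field
-/

set_option autoImplicit false
universe u
open CategoryTheory CategoryTheory.Limits AlgebraicGeometry Opposite

noncomputable section

namespace K771.ExtTwo

open Groth.Agent.Etdl.H432.Sec K771.Pts K771.Aff K771.RedExt K771.Line K771.PicExt

variable (k : Type u) [Field k]

/-- Sections of a `G_m`-quotient over the affine plane over a field lift. -/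
theorem exists_lift_plane {I Q : EtFppf.AbF (Spec (CommRingCat.of k))} {i₁ : Gm _ ⟶ I} {π₁ : I ⟶ Q} {w₁ : i₁ ≫ π₁ = 0}
    (hA : (ShortComplex.mk i₁ π₁ w₁).ShortExact) (q : Γs Q (L1 (Red.Ga (Spec (CommRingCat.of k))))) :
    ∃ s : Γs I (L1 (Red.Ga (Spec (CommRingCat.of k)))), m π₁ _ s = q := by
  have hm := hA.mono_f
  let V := Red.Ga (Spec (CommRingCat.of k))
  have hV : UniqueFactorizationMonoid (O V) := FieldLine.ufd_line k
  have hV' : IsDomain (O V) := FieldLine.isDomain_line k
  have h1 : IsDomain Γ((L1 V).left, ⊤) := (eL V).symm.toMulEquiv.isDomain _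
  have h2 : UniqueFactorizationMonoid Γ((L1 V).left, ⊤) := (eL V).toMulEquiv.uniqueFactorizationMonoid inferInstance
  have h3 : Nonempty (L1 V).left := by
    by_contra h
    rw [not_nonempty_iff] at h
    have : Subsingleton Γ((L1 V).left, ⊤) := inferInstance
    exact not_subsingleton _ this
  exact PicLift.exists_lift hA.exact (Iso.refl _) (L1 V) (fun L hL => PicUfd.pic_trivial _ L hL) q
    (fun x => ZarH90.exists_zar_lift hA (Iso.refl _) _ x)

theorem subsingleton_ext_two [PerfectField k] :
    Subsingleton (Abelian.Ext (Ga (Spec (CommRingCat.of k))) (Gm (Spec (CommRingCat.of k))) 2) := by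
  let X := Spec (CommRingCat.of k)
  let A := injSeq (Gm X)
  let B := injSeq A.X₃
  have hA : A.ShortExact := injSeq_shortExact _
  have hB : B.ShortExact := injSeq_shortExact _
  have h1 : Subsingleton (Abelian.Ext (Ga X) A.X₃ 1) := by
    refine ext_one_of_lift hB (Ga X) fun f => ?_
    obtain ⟨a, ha⟩ := LineField.exists_lift_line (w₁ := A.zero) (w₂ := B.zero) hA hB f
    exact SymLift.exists_hom (K828.Cartan.le_of_shortExact hA) (K828.Cartan.le_of_shortExact hB)
      (exists_lift_plane k (w₁ := A.zero) hA) f a ha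
  have h2 : Subsingleton (Abelian.Ext (Ga X) A.X₂ 2) :=
    subsingleton_of_forall_eq 0 fun x => Abelian.Ext.eq_zero_of_injective x
  exact HExt.sub₁ hA (Ga X) 1

end K771.ExtTwo
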