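import Groth.Agent.MultTori.K616.GmInj
import Groth.Agent.GaDual.K771.FppfGm
import Groth.Agent.Fga.DVRGeom

/-!
# `H^2(U, G_m) → H^2(W, G_m)` is injective for `W` nonempty open in `U` regular integral noetherian
-/

set_option autoImplicit false
universe u
open CategoryTheory CategoryTheory.Limits AlgebraicGeometry Opposite

noncomputable section

namespace K771.GmTwoInj

theorem exists_factor (Y : Scheme.{u}) [IsIntegral Y] {W : Scheme.{u}} (g : W ⟶ Y) [IsOpenImmersion g] [Nonempty W] :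
    ∃ a : Spec (Y.presheaf.stalk (genericPoint Y)) ⟶ W, a ≫ g = Y.fromSpecStalk (genericPoint Y) := by
  have hη : genericPoint Y ∈ Set.range g := by
    have h1 := (genericPoint_spec Y).mem_open_set_iff (U := Set.range g) g.isOpenEmbedding.isOpen_range
    rw [h1]
    obtain ⟨w⟩ := ‹Nonempty W›
    exact ⟨g w, by rw [Set.univ_inter]; exact ⟨w, rfl⟩⟩
  have hr : Set.range (Y.fromSpecStalk (genericPoint Y)) ⊆ Set.range g := by
    rw [Scheme.range_fromSpecStalk]
    intro y hy
    exact hy.mem_open g.isOpenEmbedding.isOpen_range hη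
  exact ⟨IsOpenImmersion.lift g _ hr, IsOpenImmersion.lift_fac _ _ _⟩

/-- Injectivity of restriction of `H^2(-, G_m)` to a nonempty open. -/
theorem gm_two_inj {S : Scheme.{u}} {U W : Over S} [IsNoetherian U.left] [IsIntegral U.left]
    (hreg : ∀ x : U.left, IsRegularLocalRing (U.left.presheaf.stalk x)) (g : W ⟶ U) [IsOpenImmersion g.left]
    [Nonempty W.left] (x : BigSite.HU Scheme.fppfPrecoverage (CGrpSh2.Gm Scheme.fppfPrecoverage S) 2 U)
    (hx : HRes.resHU Scheme.fppfPrecoverage _ 2 g x = 0) : x = 0 := by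
  obtain ⟨a, ha⟩ := exists_factor U.left g.left
  let F := (BigSite.pullBig Scheme.fppfPrecoverage U.hom AddCommGrpCat.{u + 1}).obj
    (CGrpSh2.Gm Scheme.fppfPrecoverage S)
  let e : F ≅ CGrpSh2.Gm Scheme.fppfPrecoverage U.left := FppfGm.pullIso U.hom
  have h1 : HRes.pull Scheme.fppfPrecoverage g.left F 2 x = 0 := by
    have h2 : Sheaf.H.map (HRes.pullIso Scheme.fppfPrecoverage (CGrpSh2.Gm Scheme.fppfPrecoverage S) g).inv 2
        (Sheaf.H.map (HRes.pullIso Scheme.fppfPrecoverage (CGrpSh2.Gm Scheme.fppfPrecoverage S) g).hom 2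
          (HRes.pull Scheme.fppfPrecoverage g.left F 2 x)) = HRes.pull Scheme.fppfPrecoverage g.left F 2 x := by
      rw [← Sheaf.H.map_comp_apply, Iso.hom_inv_id, Sheaf.H.map_id_apply]
    have h3 : Sheaf.H.map (HRes.pullIso Scheme.fppfPrecoverage (CGrpSh2.Gm Scheme.fppfPrecoverage S) g).hom 2
          (HRes.pull Scheme.fppfPrecoverage g.left F 2 x) = 0 := hx
    rw [← h2, h3, map_zero]
  have h4 : Sheaf.H.map e.hom 2 x = 0 := by
    apply K616.GmInj.gmInj U.left hreg
    rw [map_zero]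
    refine K616.GmInj.pull_eq_zero g.left a _ ha _ 2 _ ?_
    rw [HRes.pull_map, h1, map_zero]
  have h5 : Sheaf.H.map e.inv 2 (Sheaf.H.map e.hom 2 x) = x := by
    rw [← Sheaf.H.map_comp_apply, Iso.hom_inv_id, Sheaf.H.map_id_apply]
  rw [← h5, h4, map_zero]

end K771.GmTwoInj
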