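import Groth.Agent.TateGlob.K828.Cech

/-!
# Čech acyclicity of kernels; injective presheaves are flasque
-/

set_option autoImplicit false

universe u

open CategoryTheory CategoryTheory.Limits Opposite
open Groth.Agent.Etrest.FppfCoch K828.Cech

namespace K771.RedCech

variable {C : Type (u + 1)} [Category.{u} C]

/-- Restriction of sections of an injective presheaf along a monomorphism is surjective. -/
theorem surjective_of_injective (P : Cᵒᵖ ⥤ AddCommGrpCat.{u + 1}) [Injective P] {V U : C} (c : V ⟶ U) [Mono c]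
    (s : P.obj (op V)) : ∃ t : P.obj (op U), P.map c.op t = s := by
  classical
  let r : cofree P ⟶ P := Injective.factorThru (𝟙 P) (toCofree P)
  have hr : toCofree P ≫ r = 𝟙 P := Injective.comp_factorThru _ _
  let a : (cofree P).obj (op V) := (toCofree P).app (op V) s
  have ha : r.app (op V) a = s := by
    have h := ConcreteCategory.congr_hom (congrArg (fun α => α.app (op V)) hr) s
    exact h
  let b : (cofree P).obj (op U) := (show (∀ (W : C) (_ : W ⟶ U), P.obj (op W)) from fun W φ =>
    if h : ∃ ψ : W ⟶ V, ψ ≫ c = φ then P.map h.choose.op s else 0)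
  have hb : (cofree P).map c.op b = a := by
    change (show (∀ (W : C) (_ : W ⟶ V), P.obj (op W)) from fun W φ =>
      if h : ∃ ψ : W ⟶ V, ψ ≫ c = φ ≫ c then P.map h.choose.op s else 0) = fun W φ => P.map φ.op s
    funext W φ
    have hex : ∃ ψ : W ⟶ V, ψ ≫ c = φ ≫ c := ⟨φ, rfl⟩
    have h1 : hex.choose = φ := (cancel_mono c).1 hex.choose_spec
    dsimp only
    rw [dif_pos hex, h1]
  refine ⟨r.app (op U) b, ?_⟩
  rw [← nat_apply r c b, hb, ha]

variable {G I Q : Cᵒᵖ ⥤ AddCommGrpCat.{u + 1}} {ι : G ⟶ I} {π : I ⟶ Q} {J : GrothendieckTopology C}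

/-- The kernel is Čech acyclic, if `I`, `Q` are, and the sections of `Q` over `T` and the fibre powers lift. -/
theorem acy_kernel (h : LE ι π) (hQs : Presheaf.IsSheaf J Q) {T T' : C} {p : T' ⟶ T}
    (hp : Sieve.generate (Presieve.singleton p) ∈ J T) (hI : Acy I p) (hQ : Acy Q p)
    (hT : ∀ q : Q.obj (op T), ∃ s : I.obj (op T), π.app (op T) s = q)
    (hR : ∀ n : ℕ, ∃ R : Rep p (𝟙 T) n, ∀ q : Q.obj (op R.Y), ∃ s : I.obj (op R.Y), π.app (op R.Y) s = q) :
    Acy G p := by
  intro n c hc hz
  obtain ⟨b, hb, hbc⟩ := hI n (mapF ι c) (hc.map ι) (hz.map ι)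
  have hπb : IsCocycle p (𝟙 T) (mapF π b) := by
    intro W a x hx
    rw [dS_mapF, hbc a x hx]
    exact h.comp _ _
  have claim : ∃ b' : Fam I T T' n, IsCoch p (𝟙 T) b' ∧ IsCob p (𝟙 T) b' (mapF ι c) ∧
      ∀ (W : C) (a : W ⟶ T) (x : Fin (n + 1) → (W ⟶ T')), Compat p (𝟙 T) a x → π.app (op W) (b' W a x) = 0 := by
    cases n with
    | zero =>
      obtain ⟨q, hq⟩ := descend hQs hp (hb.map π) hπb
      obtain ⟨s, hs⟩ := hT q
      refine ⟨subF b (fun W a _ => I.map a.op s), hb.sub ?_, ?_, ?_⟩
      · intro W W' f a x _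
        exact K828.Cech.res_comp I f a s
      · intro W a x hx
        rw [dS_subF, hbc a x hx, dS_zero_eq, sub_self, sub_zero]
      · intro W a x hx
        change π.app (op W) (b W a x - I.map a.op s) = 0
        have h1 : x = fun _ => x 0 := by
          funext k
          exact congrArg x (Subsingleton.elim (α := Fin 1) k 0)
        have h2 := hq W a (x 0) (by rw [hx 0, Category.comp_id])
        rw [map_sub, nat_apply, hs, h2, sub_eq_zero]
        change π.app (op W) (b W a x) = π.app (op W) (b W a (fun _ => x 0))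
        rw [← h1]
    | succ m =>
      obtain ⟨e, he, hec⟩ := hQ m (mapF π b) (hb.map π) hπb
      obtain ⟨R, hR⟩ := hR m
      obtain ⟨s, hs⟩ := hR (e R.Y R.π R.y)
      have hes : ∀ {W : C} (a : W ⟶ T) (x : Fin (m + 1) → (W ⟶ T')), Compat p (𝟙 T) a x →
          π.app (op W) (ofSec R s W a x) = e W a x := by
        intro W a x hx
        rw [ofSec_apply R s a x hx, nat_apply, hs, ← ofSec_apply R (e R.Y R.π R.y) a x hx, ofSec_eq R e he _ _ hx]
      refine ⟨subF b (dF (ofSec R s)), hb.sub (isCoch_ofSec R s).dF, ?_, ?_⟩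
      · intro W a x hx
        rw [dS_subF, hbc a x hx]
        have h1 : dS (dF (ofSec R s) W a) x = 0 := dS_dS _ _
        rw [h1, sub_zero]
      · intro W a x hx
        change π.app (op W) (b W a x - dS (ofSec R s W a) x) = 0
        rw [map_sub, sub_eq_zero, ← dS_mapF]
        have h1 : dS (mapF π (ofSec R s) W a) x = dS (e W a) x := dS_congr fun i => hes a _ (hx.face i)
        rw [h1, hec a x hx]
        rfl
  obtain ⟨b', hb', hbc', h0⟩ := claim
  have hsp : ∀ {W : C} (a : W ⟶ T) (x : Fin (n + 1) → (W ⟶ T')), Compat p (𝟙 T) a x →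
      ι.app (op W) (pull ι b' W a x) = b' W a x := fun a x hx => pull_spec h b' a x (h0 _ a x hx)
  refine ⟨pull ι b', ?_, ?_⟩
  · intro W W' f a x hx
    apply h.inj'
    rw [nat_apply, hsp a x hx, hsp _ _ (hx.comp f), hb' f a x hx]
  · intro W a x hx
    apply h.inj'
    rw [← dS_mapF]
    have h1 : dS (mapF ι (pull ι b') W a) x = dS (b' W a) x := dS_congr fun i => hsp a _ (hx.face i)
    rw [h1, hbc' a x hx]
    rfl

end K771.RedCech
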