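import Groth.Agent.GaDual.K771.HomEv
import Groth.Agent.GaDual.K771.RedCech
import Groth.Agent.TateGlob.K828.FppfDisj
import Groth.Agent.AbSch.K454.Conn

/-!
# `𝓗om(F, I)` is Čech acyclic for `I` injective; short exact sequences of internal Homs

* `exists_cob_of_retraction`, `acy_of_retraction`: Čech acyclicity of presheaves which are retracts of their cofree
  presheaf.
* `acy_hom`: `𝓗om(F, I)` for `I` injective; `hom_eq_zero`: `H^n(T, 𝓗om(F, I)) = 0` for `n > 0`, `T` affine.
* `hom_shortExact`: `𝓗om(F, -)` of a short exact sequence is short exact if `𝓔xt¹(F, S.X₁) = 0`.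
-/

set_option autoImplicit false

universe u

open CategoryTheory CategoryTheory.Limits Opposite AlgebraicGeometry
open Groth.Agent.Etrest.FppfCoch K828 K828.Cech K828.FppfDisj

noncomputable section

namespace K771.HomAcy

section retraction

variable {C : Type (u + 1)} [Category.{u} C] {P : Cᵒᵖ ⥤ AddCommGrpCat.{u + 1}} {T' T U : C} {p : T' ⟶ T} {e : U ⟶ T}

/-- Cocycles of positive degree are coboundaries if `P` is a retract of the cofree presheaf. -/
theorem exists_cob_of_retraction (r : cofree P ⟶ P) (hr : toCofree P ≫ r = 𝟙 P) {n : ℕ} (c : Fam P U T' (n + 1))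
    (hc : IsCoch p e c) (hz : IsCocycle p e c) : ∃ b : Fam P U T' n, IsCoch p e b ∧ IsCob p e b c := by
  let b' : Fam (cofree P) U T' n := fun V v y =>
    (show (∀ (W : C) (_ : W ⟶ V), P.obj (op W)) from fun W φ =>
      c W (φ ≫ v) (Fin.cons (sel p e (φ ≫ v) (φ ≫ y 0)) (fun i => φ ≫ y i) : Fin (n + 2) → (W ⟶ T')))
  have hb' : IsCoch p e b' := by
    intro V V' f v y hy
    change (fun W φ => c W ((φ ≫ f) ≫ v) (Fin.cons (sel p e ((φ ≫ f) ≫ v) ((φ ≫ f) ≫ y 0))
      (fun i => (φ ≫ f) ≫ y i) : Fin (n + 2) → (W ⟶ T'))) = (fun W φ => c W (φ ≫ f ≫ v)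
        (Fin.cons (sel p e (φ ≫ f ≫ v) (φ ≫ f ≫ y 0)) (fun i => φ ≫ f ≫ y i) : Fin (n + 2) → (W ⟶ T')))
    funext W φ
    simp only [Category.assoc]
  have hcob : IsCob p e b' (mapF (toCofree P) c) := by
    intro V v x hx
    have key : ∀ (W : C) (φ : W ⟶ V), (show (∀ (W : C) (_ : W ⟶ V), P.obj (op W)) from dS (b' V v) x) W φ =
        P.map φ.op (c V v x) := by
      intro W φ
      have hex : ∃ s : W ⟶ T', s ≫ p = (φ ≫ v) ≫ e := ⟨φ ≫ x 0, (hx.comp φ) 0⟩
      let ev : (∀ (W : C) (_ : W ⟶ V), P.obj (op W)) →+ P.obj (op W) :=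
        { toFun := fun s => s W φ
          map_zero' := rfl
          map_add' := fun _ _ => rfl }
      have h1 : (show (∀ (W : C) (_ : W ⟶ V), P.obj (op W)) from dS (b' V v) x) W φ =
          dS (fun y => ev (b' V v y)) x := map_dS ev (b' V v) x
      rw [h1]
      let s := sel p e (φ ≫ v) (φ ≫ x 0)
      have h2 : dS (fun y => ev (b' V v y)) x =
          dS (fun y => c W (φ ≫ v) (Fin.cons s y : Fin (n + 2) → (W ⟶ T'))) (fun i => φ ≫ x i) := by
        refine Eq.trans ?_ (dS_comp (fun g : V ⟶ T' => φ ≫ g)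
          (fun y => c W (φ ≫ v) (Fin.cons s y : Fin (n + 2) → (W ⟶ T'))) x).symm
        refine dS_congr fun i => ?_
        change c W (φ ≫ v) (Fin.cons (sel p e (φ ≫ v) (φ ≫ x (i.succAbove 0))) _ : Fin (n + 2) → (W ⟶ T')) = _
        rw [sel_eq (φ ≫ v) (φ ≫ x (i.succAbove 0)) (φ ≫ x 0) hex]
      have h3 := dS_cons (c W (φ ≫ v)) s (fun i => φ ≫ x i)
      rw [hz (φ ≫ v) _ ((hx.comp φ).cons (sel_comp _ _ hex))] at h3
      rw [h2, hc φ v x hx]
      exact (sub_eq_zero.1 h3.symm).symm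
    funext W φ
    exact key W φ
  refine ⟨mapF r b', hb'.map r, ?_⟩
  intro W a x hx
  rw [hcob.map r a x hx]
  change (toCofree P ≫ r).app (op W) (c W a x) = _
  rw [hr]
  rfl

theorem acy_of_retraction (r : cofree P ⟶ P) (hr : toCofree P ≫ r = 𝟙 P) : Acy P p :=
  fun _ c hc hz => exists_cob_of_retraction r hr c hc hz

end retraction

open Groth.Agent.Etdl.H432.Sec K771.HomEv

variable {X : Scheme.{u}}

section hom

variable (F I : EtFppf.AbF X)

/-- elements of the cofree presheaf -/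
abbrev el {P : (Over X)ᵒᵖ ⥤ AddCommGrpCat.{u + 1}} {W : Over X} (t : ∀ (W' : Over X) (_ : W' ⟶ W), P.obj (op W')) :
    (cofree P).obj (op W) := t

theorem exists_retraction [Injective I] : ∃ r : cofree (hom F I).obj ⟶ (hom F I).obj,
    toCofree (hom F I).obj ≫ r = 𝟙 _ := by
  have : Injective I.obj := Groth.Agent.CohtopA.CechInj.injective_presheaf_of_injective_sheaf I
  let ρ : cofree I.obj ⟶ I.obj := Injective.factorThru (𝟙 I.obj) (toCofree I.obj)
  have hρ : toCofree I.obj ≫ ρ = 𝟙 I.obj := Injective.comp_factorThru _ _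
  have hρ' : ∀ (W : Over X) (s : Γs I W), ρ.app (op W) ((toCofree I.obj).app (op W) s) = s := fun W s =>
    ConcreteCategory.congr_hom (congrArg (fun α => α.app (op W)) hρ) s
  -- the element of `cofree I` over `W`
  let E : ∀ {V : Over X} (t : ∀ (W : Over X) (_ : W ⟶ V), Γs (hom F I) W) (W : Over X) (_ : W ⟶ V) (_ : Γs F W),
      (cofree I.obj).obj (op W) := fun t W h s => el (P := I.obj) fun W' ψ => ev (t W' (ψ ≫ h)) (𝟙 W') (r F ψ s)
  have hEadd : ∀ {V : Over X} (t : ∀ (W : Over X) (_ : W ⟶ V), Γs (hom F I) W) (W : Over X) (h : W ⟶ V)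
      (s s' : Γs F W), E t W h (s + s') = E t W h s + E t W h s' := by
    intro V t W h s s'
    funext W' ψ
    change ev (t W' (ψ ≫ h)) (𝟙 W') (r F ψ (s + s')) = ev _ (𝟙 W') (r F ψ s) + ev _ (𝟙 W') (r F ψ s')
    rw [map_add, map_add]
  let R : ∀ {V : Over X} (_ : ∀ (W : Over X) (_ : W ⟶ V), Γs (hom F I) W), Γs (hom F I) V := fun {V} t =>
    mk (fun W h => AddMonoidHom.mk' (fun s => ρ.app (op W) (E t W h s)) (fun s s' => by
      rw [hEadd, map_add])) (fun W W' h k x => by
      change I.obj.map k.op (ρ.app (op W) (E t W h x)) = ρ.app (op W') (E t W' (k ≫ h) (r F k x))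
      rw [← nat_apply]
      congr 1
      funext W'' ψ
      change ev (t W'' ((ψ ≫ k) ≫ h)) (𝟙 W'') (r F (ψ ≫ k) x) = ev (t W'' (ψ ≫ k ≫ h)) (𝟙 W'') (r F ψ (r F k x))
      rw [r_r, Category.assoc])
  have hR : ∀ {V : Over X} (t : ∀ (W : Over X) (_ : W ⟶ V), Γs (hom F I) W) (W : Over X) (h : W ⟶ V) (s : Γs F W),
      ev (R t) h s = ρ.app (op W) (E t W h s) := fun t W h s => rfl
  let q : cofree (hom F I).obj ⟶ (hom F I).obj :=
    { app := fun V => AddCommGrpCat.ofHom (AddMonoidHom.mk' (fun t => R t) (fun t t' => by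
        refine ev_ext (F := F) (G := I) (T := V.unop) fun W h s => ?_
        change ρ.app (op W) (E (t + t') W h s) = ρ.app (op W) (E t W h s) + ρ.app (op W) (E t' W h s)
        rw [← map_add]
        rfl))
      naturality := fun V V' k => by
        refine AddCommGrpCat.ext fun t => ?_
        refine ev_ext (F := F) (G := I) (T := V'.unop) fun W h s => ?_
        change ρ.app (op W) (E _ W h s) = ρ.app (op W) (E t W (h ≫ k.unop) s)
        refine congrArg (fun z => ρ.app (op W) z) ?_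
        funext W' ψ
        change ev (t W' ((ψ ≫ h) ≫ k.unop)) (𝟙 W') (r F ψ s) = ev (t W' (ψ ≫ h ≫ k.unop)) (𝟙 W') (r F ψ s)
        rw [Category.assoc] }
  refine ⟨q, ?_⟩
  refine NatTrans.ext (funext fun V => AddCommGrpCat.ext fun φ => ?_)
  refine ev_ext (F := F) (G := I) (T := V.unop) fun W h s => ?_
  change ρ.app (op W) (E (fun W' k => r (hom F I) k φ) W h s) = ev (F := F) (G := I) (T := V.unop) φ h s
  rw [← hρ' W (ev (F := F) (G := I) (T := V.unop) φ h s)]
  congr 1
  funext W' ψ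
  change ev (r (hom F I) (ψ ≫ h) φ) (𝟙 W') (r F ψ s) = r I ψ (ev (F := F) (G := I) (T := V.unop) φ h s)
  rw [ev_r, Category.id_comp, ev_r']

theorem acy_hom [Injective I] {T' T : Over X} (p : T' ⟶ T) : Acy (hom F I).obj p := by
  obtain ⟨r, hr⟩ := exists_retraction F I
  exact acy_of_retraction r hr

/-- `H^n(T, 𝓗om(F, I)) = 0` for `n > 0`, `I` injective, `T` affine. -/
theorem hom_eq_zero [Injective I] (𝓗 : CohT Scheme.fppfPrecoverage X) (n : ℕ) {T : Over X} (hT : IsAffine T.left)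
    (x : 𝓗.H (hom F I) (n + 1) T) : x = 0 :=
  Cartan.eq_zero isGood_aff 𝓗 n (hom F I) (fun p _ _ => acy_hom F I p) hT x

end hom

section exact

/-- `𝓗om(F, -)` of a short exact sequence. -/
theorem hom_shortExact (F : EtFppf.AbF X) {S : ShortComplex (EtFppf.AbF X)} (hS : S.ShortExact)
    (h : IsZero ((HomSh.extSh (EtFppf.J X) F 1).obj S.X₁)) :
    (S.map (HomSh.homShFunctor (EtFppf.J X) F)).ShortExact := by
  obtain ⟨δ, w, hex, -⟩ := K454.BX.exists_connecting F S hS
  have hm := hS.mono_f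
  have h1 : Mono (S.map (HomSh.homShFunctor (EtFppf.J X) F)).f :=
    inferInstanceAs (Mono ((HomSh.homShFunctor (EtFppf.J X) F).map S.f))
  have h2 : (S.map (HomSh.homShFunctor (EtFppf.J X) F)).Exact :=
    hS.exact.map_of_mono_of_preservesKernel _ inferInstance inferInstance
  have h3 : Epi (S.map (HomSh.homShFunctor (EtFppf.J X) F)).g :=
    hex.epi_f (h.eq_zero_of_tgt δ)
  exact { exact := h2 }

end exact

end K771.HomAcy
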