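import Mathlib.RingTheory.Ideal.Quotient.Operations
import Mathlib.Algebra.BigOperators.NatAntidiagonal
import Mathlib.Data.Nat.Choose.Basic
import Mathlib.Data.Nat.Choose.Sum
import Mathlib.Algebra.Polynomial.Coeff
import Mathlib.Algebra.Polynomial.Eval.Coeff
import Mathlib.Tactic.Ring

/-!
# The truncated divided power algebra in one variable

`Hur A` : sequences in `A` with the product `(x * y)_m = ∑_{i + j = m} (m choose i) x_i y_j`.
`DP A D = Hur A / {x | x_m = 0 for m < D}` is free over `A` on the divided powers `t m`, `m < D`, with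
`t i * t j = (i + j choose i) t (i + j)`, and has the universal property `DP.lift`.
-/

set_option autoImplicit false
universe u v

open Finset

noncomputable section

namespace K771.Hur

/-- Sequences in `A` with the divided power product. -/
def Hur (A : Type u) : Type u := ℕ → A

variable {A : Type u} [CommRing A]

instance : AddCommGroup (Hur A) := inferInstanceAs (AddCommGroup (ℕ → A))

instance : Mul (Hur A) := ⟨fun x y m => ∑ p ∈ antidiagonal m, (m.choose p.1 : A) * (x p.1 * y p.2)⟩

instance : One (Hur A) := ⟨fun m => if m = 0 then 1 else 0⟩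

theorem mul_apply (x y : Hur A) (m : ℕ) :
    (x * y) m = ∑ p ∈ antidiagonal m, (m.choose p.1 : A) * (x p.1 * y p.2) := rfl

theorem one_apply (m : ℕ) : (1 : Hur A) m = if m = 0 then 1 else 0 := rfl

theorem add_apply (x y : Hur A) (m : ℕ) : (x + y) m = x m + y m := rfl

theorem zero_apply (m : ℕ) : (0 : Hur A) m = 0 := rfl

theorem mul_comm' (x y : Hur A) : x * y = y * x := by
  funext m
  rw [mul_apply, mul_apply, ← Finset.Nat.sum_antidiagonal_swap]
  refine sum_congr rfl fun p hp => ?_
  have h : p.1 + p.2 = m := mem_antidiagonal.1 hp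
  have h2 : m.choose p.1 = m.choose p.2 := by
    rw [← h]
    exact (Nat.choose_symm_add)
  simp only [Prod.fst_swap, Prod.snd_swap]
  rw [h2, mul_comm (x p.2)]

theorem mul_assoc' (x y z : Hur A) : x * y * z = x * (y * z) := by
  funext m
  rw [mul_apply, mul_apply]
  simp only [mul_apply, Finset.sum_mul, Finset.mul_sum, Finset.sum_sigma']
  refine Finset.sum_nbij' (fun ⟨⟨_, j⟩, ⟨k, l⟩⟩ ↦ ⟨(k, l + j), (l, j)⟩)
    (fun ⟨⟨i, _⟩, ⟨k, l⟩⟩ ↦ ⟨(i + k, l), (i, k)⟩) ?_ ?_ ?_ ?_ ?_
  · rintro ⟨⟨i, j⟩, ⟨k, l⟩⟩ h
    simp only [mem_sigma, mem_antidiagonal] at h ⊢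
    obtain ⟨h1, h2⟩ := h
    refine ⟨?_, trivial⟩
    rw [← h1, ← h2, add_assoc]
  · rintro ⟨⟨i, j⟩, ⟨k, l⟩⟩ h
    simp only [mem_sigma, mem_antidiagonal] at h ⊢
    obtain ⟨h1, h2⟩ := h
    refine ⟨?_, trivial⟩
    rw [← h1, ← h2, add_assoc]
  · rintro ⟨⟨i, j⟩, ⟨k, l⟩⟩ h
    simp only [mem_sigma, mem_antidiagonal] at h
    obtain ⟨h1, h2⟩ := h
    subst h2
    rfl
  · rintro ⟨⟨i, j⟩, ⟨k, l⟩⟩ h
    simp only [mem_sigma, mem_antidiagonal] at h
    obtain ⟨h1, h2⟩ := h
    subst h2
    rfl
  · rintro ⟨⟨i, j⟩, ⟨k, l⟩⟩ h
    simp only [mem_sigma, mem_antidiagonal] at h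
    obtain ⟨h1, h2⟩ := h
    subst h2
    subst h1
    dsimp only
    have h3 : (k + l + j).choose (k + l) * (k + l).choose k = (k + l + j).choose k * (l + j).choose l := by
      have := Nat.choose_mul (n := k + l + j) (k := k + l) (s := k) (Nat.le_add_right _ _)
      have e1 : k + l + j - k = l + j := by omega
      have e2 : k + l - k = l := by omega
      rwa [e1, e2] at this
    have h4 : ((k + l + j).choose (k + l) : A) * ((k + l).choose k : A) =
        ((k + l + j).choose k : A) * ((l + j).choose l : A) := by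
      rw [← Nat.cast_mul, ← Nat.cast_mul, h3]
    calc ((k + l + j).choose (k + l) : A) * (((k + l).choose k : A) * (x k * y l) * z j)
        = (((k + l + j).choose (k + l) : A) * ((k + l).choose k : A)) * (x k * (y l * z j)) := by ring
      _ = _ := by rw [h4]; ring

theorem one_mul' (x : Hur A) : 1 * x = x := by
  funext m
  rw [mul_apply, Finset.sum_eq_single (0, m)]
  · simp [one_apply]
  · rintro ⟨i, j⟩ h1 h2
    have h : i + j = m := mem_antidiagonal.1 h1
    have : i ≠ 0 := by
      rintro rfl
      exact h2 (by rw [← h, zero_add])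
    simp [one_apply, this]
  · intro h
    exact absurd (mem_antidiagonal.2 (zero_add m)) h

theorem left_distrib' (x y z : Hur A) : x * (y + z) = x * y + x * z := by
  funext m
  rw [add_apply, mul_apply, mul_apply, mul_apply, ← Finset.sum_add_distrib]
  refine sum_congr rfl fun p _ => ?_
  rw [add_apply]
  ring

theorem zero_mul' (x : Hur A) : 0 * x = 0 := by
  funext m
  rw [mul_apply, zero_apply]
  refine Finset.sum_eq_zero fun p _ => ?_
  rw [zero_apply, zero_mul, mul_zero]

instance : CommRing (Hur A) where
  neg_add_cancel := fun x => neg_add_cancel x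
  sub_eq_add_neg := fun x y => sub_eq_add_neg x y
  mul_assoc := mul_assoc'
  mul_comm := mul_comm'
  one_mul := one_mul'
  mul_one x := by rw [mul_comm', one_mul']
  left_distrib := left_distrib'
  right_distrib x y z := by rw [mul_comm', left_distrib', mul_comm' z, mul_comm' z]
  zero_mul := zero_mul'
  mul_zero x := by rw [mul_comm', zero_mul']
  zsmul := zsmulRec

/-- Constants. -/
def const : A →+* Hur A where
  toFun a m := if m = 0 then a else 0
  map_one' := rfl
  map_zero' := by
    funext m
    change (if m = 0 then (0 : A) else 0) = 0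
    simp
  map_add' a b := by
    funext m
    change (if m = 0 then a + b else 0) = (if m = 0 then a else 0) + (if m = 0 then b else 0)
    split_ifs <;> simp
  map_mul' a b := by
    funext m
    rw [mul_apply]
    by_cases hm : m = 0
    · subst hm
      simp
    · rw [if_neg hm]
      refine (Finset.sum_eq_zero ?_).symm
      rintro ⟨i, j⟩ h1
      have h : i + j = m := mem_antidiagonal.1 h1
      by_cases hi : i = 0
      · have hj : j ≠ 0 := by omega
        simp [hj]
      · simp [hi]

theorem const_apply (a : A) (m : ℕ) : const a m = if m = 0 then a else 0 := rfl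

theorem const_mul_apply (a : A) (x : Hur A) (m : ℕ) : (const a * x) m = a * x m := by
  rw [mul_apply, Finset.sum_eq_single (0, m)]
  · simp [const_apply]
  · rintro ⟨i, j⟩ h1 h2
    have h : i + j = m := mem_antidiagonal.1 h1
    have : i ≠ 0 := by
      rintro rfl
      exact h2 (by rw [← h, zero_add])
    simp [const_apply, this]
  · intro h
    exact absurd (mem_antidiagonal.2 (zero_add m)) h

/-- The divided powers. -/
def T (k : ℕ) : Hur A := fun m => if m = k then 1 else 0

theorem T_apply (k m : ℕ) : (T k : Hur A) m = if m = k then 1 else 0 := rfl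

theorem T_zero : (T 0 : Hur A) = 1 := rfl

theorem T_mul_T (i j : ℕ) : (T i : Hur A) * T j = ((i + j).choose i : Hur A) * T (i + j) := by
  have hc : ((i + j).choose i : Hur A) = const ((i + j).choose i : A) := (map_natCast const _).symm
  rw [hc]
  funext m
  rw [const_mul_apply, mul_apply, T_apply]
  by_cases hm : m = i + j
  · subst hm
    rw [if_pos rfl, Finset.sum_eq_single (i, j)]
    · simp [T_apply]
    · rintro ⟨a, b⟩ _ h2
      by_cases ha : a = i
      · have hb : b ≠ j := by
          rintro rfl
          exact h2 (by rw [ha])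
        simp [T_apply, hb]
      · simp [T_apply, ha]
    · intro h
      exact absurd ((mem_antidiagonal (a := (i, j))).2 rfl) h
  · rw [if_neg hm, mul_zero]
    refine Finset.sum_eq_zero ?_
    rintro ⟨a, b⟩ h1
    have h : a + b = m := mem_antidiagonal.1 h1
    by_cases ha : a = i
    · have hb : b ≠ j := by
        rintro rfl
        exact hm (by rw [← h, ha])
      simp [T_apply, hb]
    · simp [T_apply, ha]

/-- The ideal of sequences vanishing below `D`. -/
def I (A : Type u) [CommRing A] (D : ℕ) : Ideal (Hur A) where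
  carrier := {x | ∀ m < D, x m = 0}
  add_mem' {x y} hx hy m hm := by rw [add_apply, hx m hm, hy m hm, add_zero]
  zero_mem' m _ := rfl
  smul_mem' c x hx m hm := by
    rw [smul_eq_mul, mul_apply]
    refine Finset.sum_eq_zero ?_
    rintro ⟨a, b⟩ h1
    have h : a + b = m := mem_antidiagonal.1 h1
    rw [hx b (by omega), mul_zero, mul_zero]

theorem mem_I {D : ℕ} {x : Hur A} : x ∈ I A D ↔ ∀ m < D, x m = 0 := Iff.rfl

/-- The truncated divided power algebra. -/
def DP (A : Type u) [CommRing A] (D : ℕ) : Type u := Hur A ⧸ I A D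

namespace DP

variable (A) (D : ℕ)

instance : CommRing (DP A D) := inferInstanceAs (CommRing (Hur A ⧸ I A D))

/-- The structure map. -/
def c : A →+* DP A D := (Ideal.Quotient.mk (I A D)).comp const

instance : Algebra A (DP A D) := (c A D).toAlgebra

variable {D}

theorem algebraMap_eq : algebraMap A (DP A D) = c A D := rfl

variable (D)

/-- The divided powers. -/
def t (m : ℕ) : DP A D := Ideal.Quotient.mk (I A D) (T m)

theorem t_zero : t A D 0 = 1 := by
  rw [t, T_zero]
  rfl

theorem t_mul_t (i j : ℕ) : t A D i * t A D j = ((i + j).choose i : DP A D) * t A D (i + j) := by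
  have h := congrArg (Ideal.Quotient.mk (I A D)) (T_mul_T (A := A) i j)
  rw [map_mul, map_mul, map_natCast] at h
  exact h

theorem t_eq_zero (m : ℕ) (hm : D ≤ m) : t A D m = 0 := by
  refine Ideal.Quotient.eq_zero_iff_mem.2 fun k hk => ?_
  rw [T_apply, if_neg (by omega)]

variable {A D}

theorem eq_sum (x : Hur A) :
    (Ideal.Quotient.mk (I A D) x : DP A D) = ∑ m ∈ range D, c A D (x m) * t A D m := by
  have h : (Ideal.Quotient.mk (I A D)) (∑ m ∈ range D, const (x m) * T m) =
      (∑ m ∈ range D, c A D (x m) * t A D m : DP A D) := by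
    rw [map_sum]
    exact sum_congr rfl fun m _ => map_mul _ _ _
  rw [← h]
  refine (Ideal.Quotient.eq).2 fun m hm => ?_
  have h2 : (∑ k ∈ range D, const (x k) * T k : Hur A) m = x m := by
    have h3 : (∑ k ∈ range D, const (x k) * T k : Hur A) m = ∑ k ∈ range D, (const (x k) * T k : Hur A) m :=
      Finset.sum_apply m _ _
    rw [h3, Finset.sum_eq_single m]
    · rw [const_mul_apply, T_apply, if_pos rfl, mul_one]
    · intro b _ hb
      rw [const_mul_apply, T_apply, if_neg (Ne.symm hb), mul_zero]
    · intro h
      exact absurd (mem_range.2 hm) h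
  change x m - (∑ k ∈ range D, const (x k) * T k : Hur A) m = 0
  rw [h2, sub_self]

theorem exists_rep (y : DP A D) : ∃ a : ℕ → A, y = ∑ m ∈ range D, c A D (a m) * t A D m := by
  obtain ⟨x, rfl⟩ := Ideal.Quotient.mk_surjective y
  exact ⟨x, eq_sum x⟩

theorem rep_injective (a b : ℕ → A)
    (h : ∑ m ∈ range D, c A D (a m) * t A D m = ∑ m ∈ range D, c A D (b m) * t A D m) (m : ℕ) (hm : m < D) :
    a m = b m := by
  rw [← eq_sum (show Hur A from a), ← eq_sum (show Hur A from b)] at h
  have h2 := (Ideal.Quotient.eq).1 h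
  exact sub_eq_zero.1 (h2 m hm)

section lift

variable {B : Type v} [CommRing B] (φ : A →+* B) (w : ℕ → B) (h0 : w 0 = 1)
  (hw : ∀ i j, w i * w j = ((i + j).choose i : B) * w (i + j)) (hD : ∀ m, D ≤ m → w m = 0)

open Polynomial in
/-- auxiliary polynomial. -/
def aux (D : ℕ) (φ : A →+* B) (w : ℕ → B) (x : Hur A) : Polynomial B :=
  ∑ m ∈ range D, Polynomial.C (φ (x m) * w m) * Polynomial.X ^ m

include hD in
theorem coeff_aux (x : Hur A) (m : ℕ) : (aux D φ w x).coeff m = φ (x m) * w m := by
  rw [aux, Polynomial.finsetSum_coeff]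
  simp only [Polynomial.coeff_C_mul_X_pow]
  by_cases hm : m < D
  · rw [Finset.sum_eq_single m]
    · rw [if_pos rfl]
    · intro b _ hb
      rw [if_neg (Ne.symm hb)]
    · intro h
      exact absurd (mem_range.2 hm) h
  · rw [hD m (by omega), mul_zero]
    refine Finset.sum_eq_zero fun b hb => ?_
    rw [if_neg]
    have := mem_range.1 hb
    omega

/-- The ring hom `Hur A → B`. -/
def liftHur : Hur A →+* B where
  toFun x := (aux D φ w x).eval 1
  map_one' := by
    have h : aux D φ w (1 : Hur A) = 1 := by
      ext m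
      rw [coeff_aux φ w hD, Polynomial.coeff_one, one_apply]
      by_cases hm : m = 0
      · subst hm
        simp [h0]
      · simp [hm]
    rw [h, Polynomial.eval_one]
  map_mul' x y := by
    have h : aux D φ w (x * y) = aux D φ w x * aux D φ w y := by
      ext m
      rw [coeff_aux φ w hD, Polynomial.coeff_mul, mul_apply, map_sum, Finset.sum_mul]
      refine sum_congr rfl fun p hp => ?_
      have hp' : p.1 + p.2 = m := mem_antidiagonal.1 hp
      rw [coeff_aux φ w hD, coeff_aux φ w hD, map_mul, map_mul, map_natCast]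
      have e := hw p.1 p.2
      rw [hp'] at e
      calc (m.choose p.1 : B) * (φ (x p.1) * φ (y p.2)) * w m
          = φ (x p.1) * φ (y p.2) * ((m.choose p.1 : B) * w m) := by ring
        _ = _ := by rw [← e]; ring
    rw [h, Polynomial.eval_mul]
  map_zero' := by
    have h : aux D φ w (0 : Hur A) = 0 := by
      ext m
      rw [coeff_aux φ w hD, Polynomial.coeff_zero, zero_apply, map_zero, zero_mul]
    rw [h, Polynomial.eval_zero]
  map_add' x y := by
    have h : aux D φ w (x + y) = aux D φ w x + aux D φ w y := by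
      ext m
      rw [coeff_aux φ w hD, Polynomial.coeff_add, coeff_aux φ w hD, coeff_aux φ w hD, add_apply, map_add,
        add_mul]
    rw [h, Polynomial.eval_add]

theorem liftHur_apply (x : Hur A) : liftHur φ w h0 hw hD x = ∑ m ∈ range D, φ (x m) * w m := by
  change (aux D φ w x).eval 1 = _
  rw [aux, Polynomial.eval_finsetSum]
  refine sum_congr rfl fun m _ => ?_
  simp

/-- The universal property of the truncated divided power algebra. -/
def lift : DP A D →+* B := Ideal.Quotient.lift (I A D) (liftHur φ w h0 hw hD) fun x hx => by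
  rw [liftHur_apply]
  refine Finset.sum_eq_zero fun m hm => ?_
  rw [hx m (mem_range.1 hm), map_zero, zero_mul]

theorem lift_c (a : A) : lift φ w h0 hw hD (c A D a) = φ a := by
  change liftHur φ w h0 hw hD (const a) = φ a
  rw [liftHur_apply]
  by_cases hD0 : D = 0
  · have h1 : w 0 = 0 := hD 0 (by omega)
    have h2 : (1 : B) = 0 := by rw [← h0, h1]
    have : Subsingleton B := subsingleton_of_zero_eq_one h2.symm
    exact Subsingleton.elim _ _
  · rw [Finset.sum_eq_single 0]
    · rw [const_apply, if_pos rfl, h0, mul_one]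
    · intro b _ hb
      rw [const_apply, if_neg hb, map_zero, zero_mul]
    · intro h
      exact absurd (mem_range.2 (by omega)) h

theorem lift_t (m : ℕ) : lift φ w h0 hw hD (t A D m) = w m := by
  change liftHur φ w h0 hw hD (T m) = w m
  rw [liftHur_apply]
  by_cases hm : m < D
  · rw [Finset.sum_eq_single m]
    · rw [T_apply, if_pos rfl, map_one, one_mul]
    · intro b _ hb
      rw [T_apply, if_neg hb, map_zero, zero_mul]
    · intro h
      exact absurd (mem_range.2 hm) h
  · rw [hD m (by omega)]
    refine Finset.sum_eq_zero fun b hb => ?_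
    have := mem_range.1 hb
    rw [T_apply, if_neg (by omega), map_zero, zero_mul]

end lift

end DP

end K771.Hur
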