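import Groth.Agent.GaDual.K771.LineRep
import Groth.Agent.TateGlob.K828.Cartan

/-!
# Descent of liftings along `𝔸¹_U ⟶ 𝔸¹_X`

`0 ⟶ G_m ⟶ I ⟶ Q ⟶ 0` and `0 ⟶ Q ⟶ J ⟶ R ⟶ 0` exact, `I` injective, `f : G_a ⟶ R`.  If the value of `f` at the
coordinate lifts to `J` on `𝔸¹_U` then it lifts on `𝔸¹_X`, provided that sections of `Q` over `𝔸¹_{U × U}` lift to `I`
and `U × U × U` is reduced (`exists_lift`).
-/

set_option autoImplicit false
universe u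
open CategoryTheory CategoryTheory.Limits AlgebraicGeometry Opposite

noncomputable section

namespace K771.LineDesc

open Groth.Agent.Etdl.H432.Sec K771.Pts K771.Aff K771.RedExt K771.Line
open Groth.Agent.Etrest.FppfCoch K828.Cech

variable {X : Scheme.{u}} {U : Over X} [IsAffine U.left]
  (R₁ : Rep (Over.mkIdTerminal.from U) (𝟙 (Over.mk (𝟙 X))) 1) [IsAffine R₁.Y.left]
  (R₂ : Rep (Over.mkIdTerminal.from U) (𝟙 (Over.mk (𝟙 X))) 2) [IsAffine R₂.Y.left] [IsReduced R₂.Y.left]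

section abs

variable {G I Q : (Over X)ᵒᵖ ⥤ AddCommGrpCat.{u + 1}} {ι : G ⟶ I} {π : I ⟶ Q}

/-- The lift to the kernel of a cochain of `I` dying in `Q`. -/
theorem exists_pull (h : LE ι π) {n : ℕ} (y : Fam I (Red.Ga X) (L1 U) n) (hy : IsCoch (pL U) (𝟙 _) y)
    (h0 : ∀ {W : Over X} (a : W ⟶ Red.Ga X) (x : Fin (n + 1) → (W ⟶ L1 U)), Compat (pL U) (𝟙 _) a x →
      π.app (op W) (y W a x) = 0) :
    ∃ e : Fam G (Red.Ga X) (L1 U) n, IsCoch (pL U) (𝟙 _) e ∧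
      ∀ {W : Over X} (a : W ⟶ Red.Ga X) (x : Fin (n + 1) → (W ⟶ L1 U)), Compat (pL U) (𝟙 _) a x →
        ι.app (op W) (e W a x) = y W a x := by
  refine ⟨pull ι y, fun W W' f a x hx => ?_, fun a x hx => pull_spec h y a x (h0 a x hx)⟩
  apply h.inj'
  rw [pull_spec h y _ _ (h0 _ _ (hx.comp f)), ← hy f a x hx, ← pull_spec h y _ _ (h0 a x hx)]
  exact nat_apply ι f _

theorem dS_eq_zero_of_pull (h : LE ι π) {n : ℕ} {y : Fam I (Red.Ga X) (L1 U) n}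
    {e : Fam G (Red.Ga X) (L1 U) (n + 1)}
    (he : ∀ {W : Over X} (a : W ⟶ Red.Ga X) (x : Fin (n + 2) → (W ⟶ L1 U)), Compat (pL U) (𝟙 _) a x →
        ι.app (op W) (e W a x) = dF y W a x) : IsCocycle (pL U) (𝟙 _) e := by
  intro W a x hx
  apply h.inj
  rw [← dS_mapF]
  have : dS (mapF ι e W a) x = dS (dF y W a) x := dS_congr fun i => he a _ (hx.face i)
  rw [this]
  exact dS_dS _ _

/-- Normalized cochains. -/
def Norm {P : (Over X)ᵒᵖ ⥤ AddCommGrpCat.{u + 1}} {n : ℕ} (c : Fam P (Red.Ga X) (L1 U) n) : Prop :=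
  ∀ {W : Over X} (a : W ⟶ Red.Ga X) (x : Fin (n + 1) → (W ⟶ L1 U)), Compat (pL U) (𝟙 _) a x →
    c W (a ≫ z X) (fun i => x i ≫ z' U) = 0

/-- Normalization. -/
def nrm {P : (Over X)ᵒᵖ ⥤ AddCommGrpCat.{u + 1}} {n : ℕ} (c : Fam P (Red.Ga X) (L1 U) n) :
    Fam P (Red.Ga X) (L1 U) n := fun W a x => c W a x - c W (a ≫ z X) (fun i => x i ≫ z' U)

variable {P : (Over X)ᵒᵖ ⥤ AddCommGrpCat.{u + 1}} {n : ℕ}

theorem norm_nrm (c : Fam P (Red.Ga X) (L1 U) n) : Norm (nrm c) := by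
  intro W a x hx
  simp only [nrm, comp_z_z, comp_z'_z', sub_self]

theorem isCoch_nrm {c : Fam P (Red.Ga X) (L1 U) n} (hc : IsCoch (pL U) (𝟙 _) c) : IsCoch (pL U) (𝟙 _) (nrm c) := by
  intro W W' f a x hx
  rw [nrm, nrm, map_sub, hc f a x hx, hc f _ _ (K771.Line.Compat.z hx)]
  simp only [Category.assoc]

theorem norm_dS {c : Fam P (Red.Ga X) (L1 U) n} (hc : Norm c) {W : Over X} (a : W ⟶ Red.Ga X)
    (x : Fin (n + 2) → (W ⟶ L1 U)) (hx : Compat (pL U) (𝟙 _) a x) :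
    Groth.Agent.Etrest.FppfCoch.dS (c W (a ≫ z X)) (fun i => x i ≫ z' U) = 0 := by
  rw [Groth.Agent.Etrest.FppfCoch.dS]
  refine Finset.sum_eq_zero fun i _ => ?_
  rw [hc a (fun k => x (i.succAbove k)) (hx.face i), smul_zero]

end abs

variable {I Q J R : EtFppf.AbF X} {i₁ : Gm X ⟶ I} {π₁ : I ⟶ Q} (h₁ : LE i₁.hom π₁.hom)
  [Injective I] {i₂ : Q ⟶ J} {π₂ : J ⟶ R} (h₂ : LE i₂.hom π₂.hom)

include R₁ R₂ h₁ in
/-- Normalized 1-cocycles of the quotient of an injective sheaf by `G_m` are coboundaries. -/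
theorem exists_cob (hPic : ∀ q : Γs Q (L1 R₁.Y), ∃ s : Γs I (L1 R₁.Y), m π₁ _ s = q)
    (c : Fam Q.obj (Red.Ga X) (L1 U) 1) (hc : IsCoch (pL U) (𝟙 _) c) (hz : IsCocycle (pL U) (𝟙 _) c)
    (hn : Norm c) : ∃ b : Fam I.obj (Red.Ga X) (L1 U) 0, IsCoch (pL U) (𝟙 _) b ∧
      ∀ {W : Over X} (a : W ⟶ Red.Ga X) (x : Fin 2 → (W ⟶ L1 U)), Compat (pL U) (𝟙 _) a x →
        m π₁ W (dS (b W a) x) = c W a x := by
  let Rp := rep R₁
  obtain ⟨s, hs⟩ := hPic (c Rp.Y Rp.π Rp.y)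
  let b₁ : Fam I.obj (Red.Ga X) (L1 U) 1 := ofSec Rp s
  have hb₁ : IsCoch (pL U) (𝟙 _) b₁ := isCoch_ofSec Rp s
  have hπb₁ : ∀ {W : Over X} (a : W ⟶ Red.Ga X) (x : Fin 2 → (W ⟶ L1 U)), Compat (pL U) (𝟙 _) a x →
      π₁.hom.app (op W) (b₁ W a x) = c W a x := by
    intro W a x hx
    change π₁.hom.app (op W) (ofSec Rp s W a x) = _
    rw [ofSec_apply Rp s a x hx, nat_apply]
    have hs' : π₁.hom.app (op Rp.Y) s = c Rp.Y Rp.π Rp.y := hs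
    rw [hs', ← ofSec_apply Rp (c Rp.Y Rp.π Rp.y) a x hx, ofSec_eq Rp c hc _ _ hx]
  let b₂ := nrm b₁
  have hb₂ : IsCoch (pL U) (𝟙 _) b₂ := isCoch_nrm hb₁
  have hπb₂ : ∀ {W : Over X} (a : W ⟶ Red.Ga X) (x : Fin 2 → (W ⟶ L1 U)), Compat (pL U) (𝟙 _) a x →
      π₁.hom.app (op W) (b₂ W a x) = c W a x := by
    intro W a x hx
    change π₁.hom.app (op W) (b₁ W a x - b₁ W (a ≫ z X) (fun i => x i ≫ z' U)) = _
    rw [map_sub, hπb₁ a x hx, hπb₁ _ _ (K771.Line.Compat.z hx), hn a x hx, sub_zero]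
  have hdb₂ : ∀ {W : Over X} (a : W ⟶ Red.Ga X) (x : Fin 3 → (W ⟶ L1 U)), Compat (pL U) (𝟙 _) a x →
      π₁.hom.app (op W) (dF b₂ W a x) = 0 := by
    intro W a x hx
    have h3 : π₁.hom.app (op W) (dS (b₂ W a) x) = dS (mapF π₁.hom b₂ W a) x := (dS_mapF _ _ _ _ _).symm
    refine h3.trans ?_
    have h4 : dS (mapF π₁.hom b₂ W a) x = dS (c W a) x := dS_congr fun i => hπb₂ a _ (hx.face i)
    rw [h4, hz a x hx]
  obtain ⟨e, he, he'⟩ := exists_pull h₁ (dF b₂) hb₂.dF hdb₂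
  have hcoc : IsCocycle (pL U) (𝟙 _) b₂ := by
    intro W a x hx
    have h3 : i₁.hom.app (op W) (e W a x) = dS (b₂ W a) x := he' a x hx
    rw [← h3, const R₂ e he a x hx, he' _ _ (K771.Line.Compat.z hx)]
    exact norm_dS (norm_nrm b₁) a x hx
  obtain ⟨t, ht, ht'⟩ := K828.Cartan.acy_of_injective I (pL U) 0 b₂ hb₂ hcoc
  refine ⟨t, ht, fun {W} a x hx => ?_⟩
  rw [ht' a x hx]
  exact hπb₂ a x hx

include R₁ R₂ h₁ h₂ in
/-- **Descent of liftings.** -/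
theorem exists_lift (hp : Sieve.generate (Presieve.singleton (pL U)) ∈ EtFppf.J X (Red.Ga X))
    (hPic : ∀ q : Γs Q (L1 R₁.Y), ∃ s : Γs I (L1 R₁.Y), m π₁ _ s = q)
    (f : Ga X ⟶ R) (g : Γs J (L1 U)) (hg : m π₂ _ g = r R (pL U) (m f _ (un X))) :
    ∃ s : Γs J (Red.Ga X), m π₂ _ s = m f _ (un X) := by
  let y₀ : Fam J.obj (Red.Ga X) (L1 U) 0 := fun W _ x => r J (x 0) g
  have hy₀ : IsCoch (pL U) (𝟙 _) y₀ := fun W W' k a x _ => r_r J (x 0) k g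
  let y := nrm y₀
  have hy : IsCoch (pL U) (𝟙 _) y := isCoch_nrm hy₀
  have hπ₀ : ∀ {W : Over X} (a : W ⟶ Red.Ga X) (x : Fin 1 → (W ⟶ L1 U)), Compat (pL U) (𝟙 _) a x →
      m π₂ W (y₀ W a x) = r R a (m f _ (un X)) := by
    intro W a x hx
    have h3 := hx 0
    rw [Category.comp_id] at h3
    change m π₂ W (r J (x 0) g) = _
    rw [m_r, hg, r_r, h3]
  have hπ : ∀ {W : Over X} (a : W ⟶ Red.Ga X) (x : Fin 1 → (W ⟶ L1 U)), Compat (pL U) (𝟙 _) a x →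
      m π₂ W (y W a x) = r R a (m f _ (un X)) := by
    intro W a x hx
    change m π₂ W (y₀ W a x - y₀ W (a ≫ z X) (fun i => x i ≫ z' U)) = _
    rw [map_sub, hπ₀ a x hx, hπ₀ _ _ (K771.Line.Compat.z hx), ← m_r, ← m_r, comp_z, r_pt_un, map_zero, sub_zero]
  have hdy : ∀ {W : Over X} (a : W ⟶ Red.Ga X) (x : Fin 2 → (W ⟶ L1 U)), Compat (pL U) (𝟙 _) a x →
      π₂.hom.app (op W) (dF y W a x) = 0 := by
    intro W a x hx
    change m π₂ W (dS (y W a) x) = 0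
    rw [dS_zero_eq, map_sub, hπ a (fun _ => x 1) (fun _ => hx 1), hπ a (fun _ => x 0) (fun _ => hx 0), sub_self]
  obtain ⟨c, hc, hc'⟩ := exists_pull h₂ (dF y) hy.dF hdy
  have hcz : IsCocycle (pL U) (𝟙 _) c := dS_eq_zero_of_pull h₂ hc'
  have hcn : Norm c := by
    intro W a x hx
    apply h₂.inj
    rw [hc' _ _ (K771.Line.Compat.z hx)]
    exact norm_dS (norm_nrm y₀) a x hx
  obtain ⟨b, hb, hb'⟩ := exists_cob R₁ R₂ h₁ hPic c hc hcz hcn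
  let w : Fam J.obj (Red.Ga X) (L1 U) 0 := subF y (mapF i₂.hom (mapF π₁.hom b))
  have hw : IsCoch (pL U) (𝟙 _) w := hy.sub ((hb.map _).map _)
  have hwz : IsCocycle (pL U) (𝟙 _) w := by
    intro W a x hx
    rw [dS_subF, dS_mapF, dS_mapF]
    have h3 : π₁.hom.app (op W) (dS (b W a) x) = c W a x := hb' a x hx
    rw [h3, hc' a x hx]
    exact sub_self _
  obtain ⟨s, hs⟩ := descend J.property hp hw hwz
  refine ⟨s, eq_of_res_eq R.property hp _ _ ?_⟩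
  have h3 := hs (L1 U) (pL U) (𝟙 (L1 U)) (Category.id_comp _)
  have h4 : m π₂ (L1 U) (r J (pL U) s) = r R (pL U) (m f _ (un X)) := by
    have h5 : r J (pL U) s = w (L1 U) (pL U) (fun _ => 𝟙 (L1 U)) := h3
    rw [h5]
    change m π₂ (L1 U) (y (L1 U) (pL U) (fun _ => 𝟙 (L1 U)) - m i₂ _ (m π₁ _ (b (L1 U) (pL U) (fun _ => 𝟙 (L1 U))))) = _
    rw [map_sub, hπ (pL U) (fun _ => 𝟙 (L1 U)) (fun _ => by rw [Category.id_comp, Category.comp_id])]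
    have h6 : m π₂ (L1 U) (m i₂ _ (m π₁ _ (b (L1 U) (pL U) (fun _ => 𝟙 (L1 U))))) = 0 := h₂.comp _ _
    rw [h6, sub_zero]
  rw [m_r] at h4
  exact h4

end K771.LineDesc
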