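import Groth.Agent.AlgSp.K602.RingColim
import Groth.Agent.TateGlob.K828.LimitBig

/-!
# The affine line over an algebraic field extension as a limit of affine lines over finite subextensions

`exists_finite`: a class of `H^n_fppf(𝔸¹_k, F)`, `F` limit preserving, which dies on `𝔸¹_K`, `K / k` algebraic, dies on
`𝔸¹_L` for a finite subextension `L`.
-/

set_option autoImplicit false
universe u
open CategoryTheory CategoryTheory.Limits AlgebraicGeometry Opposite Polynomial

noncomputable section

namespace K771.LineLim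

section line

variable (k : Type u) [CommRing k]

/-- The affine line over `Spec A` as an object over `Spec k`. -/
def line (A : Type u) [CommRing A] [Algebra k A] : Over (Spec (CommRingCat.of k)) :=
  Over.mk (Spec.map (CommRingCat.ofHom (algebraMap k A[X])))

/-- Functoriality of the affine line. -/
def lineMap {A B : Type u} [CommRing A] [Algebra k A] [CommRing B] [Algebra k B] (φ : A →ₐ[k] B) :
    line k B ⟶ line k A :=
  Over.homMk (Spec.map (CommRingCat.ofHom (Polynomial.mapRingHom φ.toRingHom))) (by
    change Spec.map _ ≫ Spec.map _ = Spec.map _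
    rw [← Spec.map_comp, ← CommRingCat.ofHom_comp]
    congr 2
    ext x : 1
    simp [Polynomial.algebraMap_apply])

theorem lineMap_id (A : Type u) [CommRing A] [Algebra k A] : lineMap k (AlgHom.id k A) = 𝟙 _ := by
  apply Over.OverMorphism.ext
  change Spec.map (CommRingCat.ofHom (Polynomial.mapRingHom (RingHom.id A))) = 𝟙 _
  rw [Polynomial.mapRingHom_id]
  exact Spec.map_id _

theorem lineMap_comp {A B C : Type u} [CommRing A] [Algebra k A] [CommRing B] [Algebra k B] [CommRing C] [Algebra k C]
    (φ : A →ₐ[k] B) (ψ : B →ₐ[k] C) : lineMap k (ψ.comp φ) = lineMap k ψ ≫ lineMap k φ := by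
  apply Over.OverMorphism.ext
  change Spec.map (CommRingCat.ofHom (Polynomial.mapRingHom (ψ.toRingHom.comp φ.toRingHom))) = Spec.map _ ≫ Spec.map _
  rw [← Spec.map_comp, ← CommRingCat.ofHom_comp, Polynomial.mapRingHom_comp]

end line

section system

variable (k : Type u) [CommRing k] {ι : Type u} [Preorder ι] (A : ι → Type u) [∀ i, CommRing (A i)]
  [∀ i, Algebra k (A i)] (φ : ∀ i j, i ≤ j → (A i →ₐ[k] A j)) (h1 : ∀ i, φ i i le_rfl = AlgHom.id k _)
  (h2 : ∀ i j l (h : i ≤ j) (h' : j ≤ l), φ i l (h.trans h') = (φ j l h').comp (φ i j h))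

/-- The system of polynomial rings. -/
def R : ι ⥤ CommRingCat.{u} where
  obj i := CommRingCat.of (A i)[X]
  map {i j} f := CommRingCat.ofHom (Polynomial.mapRingHom (φ i j (leOfHom f)).toRingHom)
  map_id i := by
    rw [h1]
    exact congrArg CommRingCat.ofHom Polynomial.mapRingHom_id
  map_comp {i j l} f g := by
    rw [← CommRingCat.ofHom_comp, Polynomial.mapRingHom_comp, h2 i j l (leOfHom f) (leOfHom g)]
    rfl

/-- The system of affine lines. -/
def D : ιᵒᵖ ⥤ Over (Spec (CommRingCat.of k)) where
  obj i := line k (A i.unop)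
  map {i j} f := lineMap k (φ j.unop i.unop (leOfHom f.unop))
  map_id i := by
    rw [h1]
    exact lineMap_id k _
  map_comp {i j l} f g := by
    rw [h2 l.unop j.unop i.unop (leOfHom g.unop) (leOfHom f.unop)]
    exact lineMap_comp k _ _

variable (B : Type u) [CommRing B] [Algebra k B] (ψ : ∀ i, A i →ₐ[k] B) (h3 : ∀ i j (h : i ≤ j), (ψ j).comp (φ i j h) = ψ i)

/-- The cocone. -/
def coc : Cocone (R k A φ h1 h2) where
  pt := CommRingCat.of B[X]
  ι :=
    { app := fun i => CommRingCat.ofHom (Polynomial.mapRingHom (ψ i).toRingHom)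
      naturality := fun i j f => by
        change CommRingCat.ofHom _ ≫ CommRingCat.ofHom _ = CommRingCat.ofHom _ ≫ 𝟙 _
        rw [← CommRingCat.ofHom_comp, Polynomial.mapRingHom_comp, Category.comp_id, ← h3 i j (leOfHom f)]
        rfl }

/-- The cone. -/
def cone : Cone (D k A φ h1 h2) where
  pt := line k B
  π :=
    { app := fun i => lineMap k (ψ i.unop)
      naturality := fun i j f => by
        change 𝟙 _ ≫ lineMap k _ = lineMap k _ ≫ lineMap k _
        rw [Category.id_comp, ← lineMap_comp, h3] }

theorem nonempty_isLimit [IsFiltered ι] (h4 : ∀ x : B[X], ∃ (i : ι) (y : (A i)[X]), y.map (ψ i).toRingHom = x)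
    (h5 : ∀ i, Function.Injective (ψ i)) : Nonempty (IsLimit ((Over.forget _).mapCone (cone k A φ h1 h2 B ψ h3))) := by
  refine K602.RingColim.nonempty_isLimit_spec (R k A φ h1 h2) (coc k A φ h1 h2 B ψ h3) h4 ?_
  · intro i (y : (A i)[X]) hy
    refine ⟨i, 𝟙 _, ?_⟩
    have hy' : y.map (ψ i).toRingHom = 0 := hy
    rw [(Polynomial.map_eq_zero_iff (h5 i))] at hy'
    subst hy'
    exact map_zero ((R k A φ h1 h2).map (𝟙 i)).hom

end system

section field

variable {k K : Type u} [Field k] [Field K] [Algebra k K]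

variable (k K) in
/-- Finite subextensions. -/
abbrev Ix := {L : IntermediateField k K // FiniteDimensional k L}

instance : Nonempty (Ix k K) := ⟨⟨⊥, inferInstance⟩⟩

instance : IsDirected (Ix k K) (· ≤ ·) := ⟨fun L L' => by
  have := L.2
  have := L'.2
  exact ⟨⟨L.1 ⊔ L'.1, inferInstance⟩, le_sup_left (a := L.1), le_sup_right (a := L.1)⟩⟩

instance : IsFiltered (Ix k K) := isFiltered_of_directed_le_nonempty _

theorem exists_finite [Algebra.IsAlgebraic k K] {F : BigSite.Ab Scheme.fppfPrecoverage (Spec (CommRingCat.of k))}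
    (hF : K828.LPre.LP F.obj) (n : ℕ) {T : Over (Spec (CommRingCat.of k))} (x : BigSite.HU Scheme.fppfPrecoverage F n T)
    (L₀ : IntermediateField k K) [FiniteDimensional k L₀] (g : line k L₀ ⟶ T)
    (hx : HRes.resHU Scheme.fppfPrecoverage F n (lineMap k L₀.val ≫ g) x = 0) :
    ∃ (L : IntermediateField k K) (h : L₀ ≤ L), FiniteDimensional k L ∧
      HRes.resHU Scheme.fppfPrecoverage F n (lineMap k (IntermediateField.inclusion h) ≫ g) x = 0 := by
  let φ : ∀ i j : Ix k K, i ≤ j → (i.1 →ₐ[k] j.1) := fun i j h => IntermediateField.inclusion h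
  obtain ⟨hc⟩ := nonempty_isLimit k (fun i : Ix k K => i.1) φ (fun i => rfl) (fun i j l h h' => rfl) K
    (fun i => i.1.val) (fun i j h => rfl) (fun x => by
      let s : Set K := x.coeffs
      have hs : s.Finite := x.coeffs.finite_toSet
      let L : IntermediateField k K := IntermediateField.adjoin k s
      have hL : FiniteDimensional k L := by
        have := hs.to_subtype
        exact IntermediateField.finiteDimensional_adjoin fun y _ => Algebra.IsIntegral.isIntegral y
      have hx : x ∈ Polynomial.lifts L.val.toRingHom := by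
        rw [Polynomial.lifts_iff_coeffs_subset_range]
        intro y hy
        exact ⟨⟨y, IntermediateField.subset_adjoin k s hy⟩, rfl⟩
      obtain ⟨y, hy⟩ := (Polynomial.mem_lifts _).1 hx
      exact ⟨⟨L, hL⟩, y, hy⟩) (fun i => i.1.val.injective)
  rw [K828.BigCoh.resHU_comp] at hx
  obtain ⟨j, κ, hκ⟩ := K828.LimitBig.exists_resHU_eq_zero hc
    (fun i => inferInstanceAs (IsAffine (Spec _))) (inferInstanceAs (IsAffine (Spec _))) hF (i := op ⟨L₀, inferInstance⟩)
    (HRes.resHU Scheme.fppfPrecoverage F n g x) hx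
  refine ⟨j.unop.1, leOfHom κ.unop, j.unop.2, ?_⟩
  rw [K828.BigCoh.resHU_comp]
  exact hκ

end field

end K771.LineLim
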