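import Groth.Agent.S0227
import Groth.Agent.GaDual.K771.FppfGm
import Mathlib.RingTheory.KrullDimension.Polynomial

/-!
# `H^2(𝔸¹_K, G_m) = 0` for `K` algebraically closed
-/

set_option autoImplicit false
universe u
open CategoryTheory CategoryTheory.Limits AlgebraicGeometry Opposite Polynomial

noncomputable section

namespace K771.LineVan

open K771.Pts

variable (K : Type u) [Field K] [IsAlgClosed K]

theorem subsingleton_et (q : ℕ) (hq : 2 ≤ q) :
    Subsingleton (EtCoh.H (Spec (CommRingCat.of K[X])) (EtCoh.Gm (Spec (CommRingCat.of K[X]))) q) := by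
  let f : Spec (CommRingCat.of K[X]) ⟶ Spec (CommRingCat.of K) := Spec.map (CommRingCat.ofHom C)
  have h1 : (C : K →+* K[X]).Smooth := by
    have h : Algebra.Smooth K K[X] := { formallySmooth := inferInstance, finitePresentation := inferInstance }
    exact RingHom.smooth_algebraMap.2 h
  have : Smooth f := (HasRingHomProperty.Spec_iff (P := @Smooth)).2 h1
  have hdim : topologicalKrullDim (Spec (CommRingCat.of K[X])) = 1 := by
    refine (PrimeSpectrum.topologicalKrullDim_eq_ringKrullDim (CommRingCat.of K[X])).trans ?_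
    have h2 : ringKrullDim (CommRingCat.of K[X]) = ringKrullDim K[X] := rfl
    rw [h2, Polynomial.ringKrullDim_of_isNoetherianRing, ringKrullDim_eq_zero_of_field, zero_add]
  exact Groth.Agent.S0227.result K _ f hdim q hq

theorem subsingleton_HU {X : Scheme.{u}} (g : Spec (CommRingCat.of K[X]) ⟶ X) (q : ℕ) (hq : 2 ≤ q) :
    Subsingleton (BigSite.HU Scheme.fppfPrecoverage (Gm X) q (Over.mk g)) := by
  have : Subsingleton (EtCoh.H (Over.mk g).left (EtCoh.Gm (Over.mk g).left) q) := subsingleton_et K q hq
  exact K771.FppfGm.subsingleton_HU _ q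

end K771.LineVan
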