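import Groth.Agent.GaDual.K771.PicProd
import Groth.Agent.GaDual.K771.LineLim
import Groth.Agent.GaDual.K771.LineVan
import Groth.Agent.GaDual.K771.LineDesc
import Groth.Agent.GaDual.K771.PicExt
import Groth.Agent.AlgSp.K619.EtField
import Groth.Agent.TateGlob.K828.FppfDisj

/-!
# Lifting the value of a homomorphism `G_a ⟶ I² / ...` at the coordinate: perfect fields

* `lp_pts`: the sheaf of points of a group scheme locally of finite presentation is limit preserving.
* `exists_fields`: an affine étale scheme over a field is a finite product of fields.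
* `exists_lift_line`: for `k` perfect, `0 ⟶ G_m ⟶ I ⟶ Q ⟶ 0`, `0 ⟶ Q ⟶ J ⟶ R ⟶ 0` exact, `I` injective and
  `f : G_a ⟶ R`, the value of `f` at the coordinate lifts to `J`.
-/

set_option autoImplicit false
universe u
open CategoryTheory CategoryTheory.Limits AlgebraicGeometry Opposite

noncomputable section

namespace K771.LineField

open Groth.Agent.Etdl.H432.Sec K771.Pts K771.Aff K771.RedExt K771.Line
open Groth.Agent.Etrest.FppfCoch K828.Cech

open MonObj in
theorem lp_pts {S : Scheme.{u}} (G : Over S) [GrpObj G] [IsCommMonObj G] [LocallyOfFinitePresentation G.hom] :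
    K828.LPre.LP (CGrpSh.pts Scheme.fppfPrecoverage G).obj := by
  apply K828.LPre.lp_of
  intro I _ _ D c hc hD hT
  constructor
  · intro x
    obtain ⟨i, fi, hfi⟩ := K828.LExt.exists_factor hc hD G (Additive.toMul (ULift.down x))
    exact ⟨i, ULift.up (Additive.ofMul fi), congrArg (fun t => ULift.up (Additive.ofMul t)) hfi⟩
  · intro i x hx
    have h1 : c.π.app i ≫ Additive.toMul (ULift.down x) = c.π.app i ≫ (1 : D.obj i ⟶ G) := by
      rw [MonObj.comp_one]
      exact congrArg (fun t => Additive.toMul (ULift.down t)) hx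
    obtain ⟨j, φ, hφ⟩ := K828.LExt.exists_comp_eq hc hD G _ _ h1
    refine ⟨j, φ, ?_⟩
    rw [MonObj.comp_one] at hφ
    exact congrArg (fun t => ULift.up (Additive.ofMul t)) hφ

/-- An affine étale scheme over a field is a finite product of fields. -/
theorem exists_fields {k : Type u} [Field k] (V : Scheme.{u}) [IsAffine V] (f : V ⟶ Spec (CommRingCat.of k)) [Etale f] :
    ∃ (ι : Type u) (_ : Finite ι) (E : ι → Type u) (_ : ∀ i, Field (E i)), Nonempty (Γ(V, ⊤) ≃+* ∀ i, E i) := by
  obtain ⟨φ, hφ⟩ := Spec.map_surjective (V.isoSpec.inv ≫ f)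
  have h1 : Etale (Spec.map φ) := by
    rw [hφ]
    exact (inferInstance : Etale (V.isoSpec.inv ≫ f))
  have h2 : φ.hom.Etale := (HasRingHomProperty.Spec_iff (P := @Etale)).1 h1
  let _ : Algebra k Γ(V, ⊤) := φ.hom.toAlgebra
  have h3 : Algebra.Etale k Γ(V, ⊤) := h2
  obtain ⟨I, hI, E, _, _, e, -⟩ := (Algebra.Etale.iff_exists_algEquiv_prod k Γ(V, ⊤)).1 h3
  exact ⟨I, hI, E, inferInstance, ⟨e.toRingEquiv⟩⟩

/-- The point of the affine line over `Spec A` with given coordinate. -/
theorem exists_to_line {k : Type u} [CommRing k] {A : Type u} [CommRing A] [Algebra k A]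
    {W : Over (Spec (CommRingCat.of k))} (h : W ⟶ Over.mk (Spec.map (CommRingCat.ofHom (algebraMap k A))))
    (y : Γs (Ga _) W) : ∃ w : W ⟶ LineLim.line k A,
      r (Ga _) w (gas ((Scheme.ΓSpecIso (CommRingCat.of (Polynomial A))).inv.hom Polynomial.X)) = y := by
  let a : A →+* O W := h.left.appTop.hom.comp (Scheme.ΓSpecIso (CommRingCat.of A)).inv.hom
  obtain ⟨f, hf⟩ := Groth.Agent.Sga4h.EtSpec.exists_hom_spec W.left (Polynomial.eval₂RingHom a (ga y))
  have h1 : f ≫ (LineLim.line k A).hom = W.hom := by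
    rw [← Over.w h]
    change f ≫ Spec.map _ = h.left ≫ Spec.map _
    refine Groth.Agent.Sga4h.EtSpec.spec_hom_ext _ _ fun x => ?_
    have e1 : (Spec.map (CommRingCat.ofHom (algebraMap k (Polynomial A)))).appTop.hom
        ((Scheme.ΓSpecIso (CommRingCat.of k)).inv.hom x) =
        (Scheme.ΓSpecIso (CommRingCat.of (Polynomial A))).inv.hom (algebraMap k (Polynomial A) x) :=
      congr($((Scheme.ΓSpecIso_inv_naturality (CommRingCat.ofHom (algebraMap k (Polynomial A)))).symm).hom x)
    have e2 : (Spec.map (CommRingCat.ofHom (algebraMap k A))).appTop.hom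
        ((Scheme.ΓSpecIso (CommRingCat.of k)).inv.hom x) =
        (Scheme.ΓSpecIso (CommRingCat.of A)).inv.hom (algebraMap k A x) :=
      congr($((Scheme.ΓSpecIso_inv_naturality (CommRingCat.ofHom (algebraMap k A))).symm).hom x)
    rw [Scheme.Hom.comp_appTop, Scheme.Hom.comp_appTop]
    refine (congrArg f.appTop.hom e1).trans (((hf _).trans ?_).trans (congrArg h.left.appTop.hom e2).symm)
    rw [Polynomial.algebraMap_apply, Polynomial.coe_eval₂RingHom, Polynomial.eval₂_C]
    rfl
  refine ⟨Over.homMk f h1, ?_⟩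
  apply ga_injective
  rw [ga_r, ga_gas]
  refine (hf Polynomial.X).trans ?_
  rw [Polynomial.coe_eval₂RingHom, Polynomial.eval₂_X]

/-- The coordinate of the affine line over `Spec A`. -/
def coord (k : Type u) [CommRing k] (A : Type u) [CommRing A] [Algebra k A] : Γs (Ga _) (LineLim.line k A) :=
  gas ((Scheme.ΓSpecIso (CommRingCat.of (Polynomial A))).inv.hom Polynomial.X)

theorem r_coord {k : Type u} [CommRing k] {A B : Type u} [CommRing A] [Algebra k A] [CommRing B] [Algebra k B]
    (φ : A →ₐ[k] B) : r (Ga _) (LineLim.lineMap k φ) (coord k A) = coord k B := by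
  apply ga_injective
  rw [ga_r, coord, coord, ga_gas, ga_gas]
  refine (congr($((Scheme.ΓSpecIso_inv_naturality (CommRingCat.ofHom (Polynomial.mapRingHom φ.toRingHom))).symm).hom
    Polynomial.X)).trans ?_
  change (Scheme.ΓSpecIso (CommRingCat.of (Polynomial B))).inv.hom (Polynomial.map φ.toRingHom Polynomial.X) = _
  rw [Polynomial.map_X]

section field

variable {k : Type u} [Field k]

theorem exists_reps (U : Over (Spec (CommRingCat.of k))) [Etale U.hom] [IsFinite U.hom] (n : ℕ) :
    ∃ R : Rep (Over.mkIdTerminal.from U) (𝟙 (Over.mk (𝟙 (Spec (CommRingCat.of k))))) n,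
      IsAffine R.Y.left ∧ Etale R.Y.hom := by
  let P : MorphismProperty Scheme.{u} := @Etale ⊓ @IsFinite
  have hst : (MorphismProperty.inverseImage P (Over.forget (Spec (CommRingCat.of k)))).IsStableUnderBaseChange :=
    ⟨fun sq hg => MorphismProperty.of_isPullback (P := P) (sq.map (Over.forget _)) hg⟩
  have h0 : (Over.mkIdTerminal.from U).left = U.hom := by
    have := Over.w (Over.mkIdTerminal.from U)
    exact (Category.comp_id _).symm.trans this
  obtain ⟨R, hR⟩ := exists_rep (MorphismProperty.inverseImage P (Over.forget (Spec (CommRingCat.of k))))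
    (Over.mkIdTerminal.from U) (𝟙 (Over.mk (𝟙 (Spec (CommRingCat.of k))))) (by
      change P (Over.mkIdTerminal.from U).left
      rw [h0]
      exact ⟨inferInstance, inferInstance⟩) n
  have h1 : R.π.left = R.Y.hom := by
    have := Over.w R.π
    exact (Category.comp_id _).symm.trans this
  have hR' : P R.π.left := hR
  rw [h1] at hR'
  have h2 : IsFinite R.Y.hom := hR'.2
  exact ⟨R, isAffine_of_isAffineHom R.Y.hom, hR'.1⟩

/-- `𝔸¹_U ⟶ 𝔸¹_k` is a covering. -/
theorem cover_pL {X : Scheme.{u}} (U : Over X) [IsAffine U.left] [Flat U.hom] [LocallyOfFinitePresentation U.hom]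
    [Surjective U.hom] : Sieve.generate (Presieve.singleton (pL U)) ∈ EtFppf.J X (Red.Ga X) := by
  have h0 : (Over.mkIdTerminal.from U).left = U.hom := by
    have := Over.w (Over.mkIdTerminal.from U)
    exact (Category.comp_id _).symm.trans this
  have hpb : IsPullback (πL U) (pL U) (Over.mkIdTerminal.from U) (Over.mkIdTerminal.from (Red.Ga X)) := by
    refine ⟨⟨Over.mkIdTerminal.hom_ext _ _⟩, ⟨PullbackCone.IsLimit.mk _
      (fun s => mkL s.fst (r (Ga X) s.snd (un X))) (fun s => mkL_πL _ _) (fun s => ?_) (fun s k h1 h2 => ?_)⟩⟩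
    · rw [mkL_pL, pt_r_un]
    · apply L1_ext
      · rw [mkL_πL, h1]
      · rw [r_mkL_xL]
        apply pt_injective
        rw [← comp_pL, h2, pt_r_un]
  have hpb' := hpb.map (Over.forget X)
  have hf : Flat (Over.mkIdTerminal.from U).left := by rw [h0]; infer_instance
  have hl : LocallyOfFinitePresentation (Over.mkIdTerminal.from U).left := by rw [h0]; infer_instance
  have hs : Surjective (Over.mkIdTerminal.from U).left := by rw [h0]; infer_instance
  exact K828.FppfDisj.generate_mem (pL U) (MorphismProperty.of_isPullback (P := @Flat) hpb' hf)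
    (MorphismProperty.of_isPullback (P := @LocallyOfFinitePresentation) hpb' hl)
    (MorphismProperty.of_isPullback (P := @Surjective) hpb' hs)

/-- Sections of a `G_m`-quotient over the affine line over a finite étale scheme lift. -/
theorem exists_lift_L1 (V : Over (Spec (CommRingCat.of k))) [IsAffine V.left] [Etale V.hom]
    {I Q : EtFppf.AbF (Spec (CommRingCat.of k))} {i₁ : Gm _ ⟶ I} {π₁ : I ⟶ Q} {w₁ : i₁ ≫ π₁ = 0}
    (hA : (ShortComplex.mk i₁ π₁ w₁).ShortExact) (q : Γs Q (L1 V)) : ∃ s : Γs I (L1 V), m π₁ _ s = q := by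
  have hm := hA.mono_f
  obtain ⟨N, hN, E, _, ⟨φ⟩⟩ := exists_fields V.left V.hom
  let ψ : Γ((L1 V).left, ⊤) ≃+* ∀ i, Polynomial (E i) :=
    (eL V).symm.trans ((Polynomial.mapEquiv φ).trans (Polynomial.piEquiv E))
  exact PicLift.exists_lift hA.exact (Iso.refl _) (L1 V) (fun L hL => PicProd.pic_prod _ _ ψ L hL) q
    (fun x => ZarH90.exists_zar_lift hA (Iso.refl _) _ x)

variable [PerfectField k] {I Q J R : EtFppf.AbF (Spec (CommRingCat.of k))} {i₁ : Gm _ ⟶ I} {π₁ : I ⟶ Q}
  {w₁ : i₁ ≫ π₁ = 0} (hA : (ShortComplex.mk i₁ π₁ w₁).ShortExact) [Injective I] {i₂ : Q ⟶ J} {π₂ : J ⟶ R}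
  {w₂ : i₂ ≫ π₂ = 0} (hB : (ShortComplex.mk i₂ π₂ w₂).ShortExact)

include hA hB in
/-- The value of a homomorphism `G_a ⟶ R` at the coordinate lifts to `J`. -/
theorem exists_lift_line (f : Ga (Spec (CommRingCat.of k)) ⟶ R) :
    ∃ s : Γs J (Red.Ga (Spec (CommRingCat.of k))), m π₂ _ s = m f _ (un _) := by
  let X := Spec (CommRingCat.of k)
  let 𝓗 := K828.BigCoh.bigCoh Scheme.fppfPrecoverage X
  let K := AlgebraicClosure k
  let r₀ : Γs R (Red.Ga X) := m f _ (un _)
  let x : 𝓗.H (Gm X) 2 (Red.Ga X) := 𝓗.del hA (𝓗.del hB (𝓗.sec.symm r₀))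
  let g : LineLim.line k (⊥ : IntermediateField k K) ⟶ Red.Ga X := pt (coord k _)
  have hlp : K828.LPre.LP (Gm X).obj := lp_pts (Red.Gm X)
  have hx : HRes.resHU Scheme.fppfPrecoverage (Gm X) 2 (LineLim.lineMap k (⊥ : IntermediateField k K).val ≫ g) x = 0 := by
    have := LineVan.subsingleton_HU K (Spec.map (CommRingCat.ofHom (algebraMap k (Polynomial K)))) 2 le_rfl
    exact Subsingleton.elim (α := BigSite.HU Scheme.fppfPrecoverage (Gm X) 2
      (Over.mk (Spec.map (CommRingCat.ofHom (algebraMap k (Polynomial K)))))) _ _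
  obtain ⟨L, h, hfin, hL⟩ := LineLim.exists_finite hlp 2 x ⊥ g hx
  let U : Over X := Over.mk (Spec.map (CommRingCat.ofHom (algebraMap k L)))
  have hUa : IsAffine U.left := inferInstanceAs (IsAffine (Spec _))
  have hUet : Etale U.hom := by
    change Etale (Spec.map (CommRingCat.ofHom (algebraMap k L)))
    rw [HasRingHomProperty.Spec_iff (P := @Etale)]
    have h0 : Algebra.FormallyEtale k L := Algebra.FormallyEtale.of_isSeparable k L
    have h2 : Algebra.FinitePresentation k L := Algebra.FinitePresentation.of_finiteType.1 inferInstance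
    have h1 : Algebra.Etale k L := ⟨h0, h2⟩
    exact RingHom.etale_algebraMap.2 h1
  have hUfin : IsFinite U.hom := by
    change IsFinite (Spec.map (CommRingCat.ofHom (algebraMap k L)))
    rw [IsFinite.SpecMap_iff]
    exact RingHom.finite_algebraMap.2 hfin
  have hUsurj : Surjective U.hom := by
    change Surjective (Spec.map (CommRingCat.ofHom (algebraMap k L)))
    refine ⟨fun y => ?_⟩
    exact ⟨IsLocalRing.closedPoint L, Subsingleton.elim _ _⟩
  obtain ⟨w, hw⟩ := exists_to_line (A := L) (W := L1 U) (πL U) (xL U)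
  have hwp : w ≫ LineLim.lineMap k (IntermediateField.inclusion h) ≫ g = pL U := by
    rw [← Category.assoc, ← pt_r, ← r_r, r_coord]
    exact congrArg pt hw
  have hres : 𝓗.res (pL U) x = 0 := by
    rw [← hwp]
    refine (K828.BigCoh.resHU_comp 2 (Gm X) _ w x).trans ?_
    rw [hL]
    exact map_zero _
  have h1 : 𝓗.del hA (𝓗.del hB (𝓗.res (pL U) (𝓗.sec.symm r₀))) = 0 := by
    rw [𝓗.del_res, 𝓗.del_res]
    exact hres
  obtain ⟨y, hy⟩ := 𝓗.exact₃ hA _ h1
  have h2 : 𝓗.del hB (𝓗.res (pL U) (𝓗.sec.symm r₀)) = 0 := by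
    rw [← hy, 𝓗.inj I y, map_zero]
  obtain ⟨g', hg'⟩ := 𝓗.exact₃ hB _ h2
  obtain ⟨R₁, hR₁, hR₁'⟩ := exists_reps U 1
  obtain ⟨R₂, hR₂, hR₂'⟩ := exists_reps U 2
  have hR₂'' : IsReduced R₂.Y.left := K619.EtField.isReduced_of_etale R₂.Y.hom
  refine LineDesc.exists_lift R₁ R₂ (K828.Cartan.le_of_shortExact hA) (K828.Cartan.le_of_shortExact hB)
    (cover_pL U) (exists_lift_L1 R₁.Y hA) f (𝓗.sec g') ?_
  have h3 := congrArg 𝓗.sec hg'
  rw [𝓗.sec_res, 𝓗.sec_map, AddEquiv.apply_symm_apply] at h3
  exact h3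

end field

end K771.LineField
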