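import Groth.Agent.GaDual.K771.NilPrim
import Groth.Agent.Flat2D.LfpComp
import Mathlib.RingTheory.Spectrum.Prime.Homeomorph

/-!
# Points trivial modulo a nil ideal are trivial modulo a finitely generated subideal
-/

set_option autoImplicit false

universe u

open CategoryTheory AlgebraicGeometry Limits MonObj TensorProduct
open Groth.Agent.Books.AffBridge K809.CechDict
open K809.KerGrp hiding sg

noncomputable section

namespace K771.NilFg

theorem geo {S A : Type u} [CommRing S] [CommRing A] {G : Scheme.{u}} (x : Spec (CommRingCat.of S) ⟶ G)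
    (e : Spec (CommRingCat.of A) ⟶ G) [IsImmersion e] [LocallyOfFinitePresentation e] {S' : Type u} [CommRing S']
    (κ : S →+* S') (hκ : Function.Surjective κ) (hnil : ∀ s, κ s = 0 → IsNilpotent s)
    (z : Spec (CommRingCat.of S') ⟶ Spec (CommRingCat.of A)) (hz : Spec.map (CommRingCat.ofHom κ) ≫ x = z ≫ e) :
    ∃ J : Ideal S, J.FG ∧ J ≤ RingHom.ker κ ∧ ∀ {S'' : Type u} [CommRing S''] (f : S →+* S''), J ≤ RingHom.ker f →
      ∃ z' : Spec (CommRingCat.of S'') ⟶ Spec (CommRingCat.of A), Spec.map (CommRingCat.ofHom f) ≫ x = z' ≫ e := by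
  let p : pullback x e ⟶ Spec (CommRingCat.of S) := pullback.fst x e
  let z₁ : Spec (CommRingCat.of S') ⟶ pullback x e := pullback.lift _ z hz
  have hz₁ : z₁ ≫ p = Spec.map (CommRingCat.ofHom κ) := pullback.lift_fst _ _ _
  have hsurj : Function.Surjective p := by
    intro s
    obtain ⟨t, ht⟩ := (PrimeSpectrum.isHomeomorph_comap κ (fun x => ⟨1, one_pos, by
      obtain ⟨y, rfl⟩ := hκ x
      exact ⟨y, by rw [pow_one]⟩⟩) (fun s hs => hnil s hs)).bijective.2 s
    refine ⟨z₁ t, ?_⟩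
    rw [← ht]
    change (z₁ ≫ p) t = Spec.map (CommRingCat.ofHom κ) t
    rw [hz₁]
  have hpi : IsImmersion p := inferInstanceAs (IsImmersion (pullback.fst x e))
  have hcl : IsClosedImmersion p := by
    refine IsClosedImmersion.of_isPreimmersion p ?_
    rw [hsurj.range_eq]
    exact isClosed_univ
  have hlfp : LocallyOfFinitePresentation p := inferInstanceAs (LocallyOfFinitePresentation (pullback.fst x e))
  obtain ⟨J, i, hJ⟩ := IsClosedImmersion.Spec_iff.1 hcl
  have h1 : Spec.map (CommRingCat.ofHom (Ideal.Quotient.mk J)) = i.inv ≫ p := by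
    rw [hJ, Iso.inv_hom_id_assoc]
  have h2 : LocallyOfFinitePresentation (Spec.map (CommRingCat.ofHom (Ideal.Quotient.mk J))) := by
    rw [h1]
    infer_instance
  have h3 : (Ideal.Quotient.mk J).FinitePresentation := by
    rw [HasRingHomProperty.Spec_iff (P := @LocallyOfFinitePresentation)] at h2
    exact h2
  have hfg : J.FG := by
    have h4 : Algebra.FinitePresentation S (S ⧸ J) := h3
    have h5 := Algebra.FinitePresentation.ker_fG_of_surjective (Ideal.Quotient.mkₐ S J) (Ideal.Quotient.mkₐ_surjective S J)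
    have h6 : RingHom.ker (Ideal.Quotient.mkₐ S J).toRingHom = J := Ideal.mk_ker
    rwa [h6] at h5
  refine ⟨J, hfg, ?_, ?_⟩
  · intro s hs
    have h4 : Spec.map (CommRingCat.ofHom κ) = z₁ ≫ i.hom ≫ Spec.map (CommRingCat.ofHom (Ideal.Quotient.mk J)) := by
      rw [← hz₁]
      exact congrArg (fun q => z₁ ≫ q) hJ
    have h5 : Spec.map (CommRingCat.ofHom κ) = Spec.map (CommRingCat.ofHom (Ideal.Quotient.mk J) ≫
        Spec.preimage (z₁ ≫ i.hom)) := by
      rw [h4, Spec.map_comp, Spec.map_preimage, Category.assoc]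
    have h6 := congrArg (fun q => q.hom s) (Spec.map_injective h5)
    change κ s = (Spec.preimage (z₁ ≫ i.hom)).hom (Ideal.Quotient.mk J s) at h6
    rw [Ideal.Quotient.eq_zero_iff_mem.2 hs, map_zero] at h6
    exact h6
  · intro S'' _ f hf
    refine ⟨(Spec.map (CommRingCat.ofHom (Ideal.Quotient.lift J f (fun a ha => hf ha))) ≫ i.inv) ≫ pullback.snd x e, ?_⟩
    rw [Category.assoc, ← pullback.condition, ← Category.assoc]
    congr 1
    change _ = (_ ≫ i.inv) ≫ p
    rw [Category.assoc, ← h1, ← Spec.map_comp, ← CommRingCat.ofHom_comp]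
    rfl

end K771.NilFg

namespace K771.NilNb

variable {A : Type u} [CommRing A]

/-- a finitely generated ideal contained in `𝔠 S` is contained in `I S` with `I ≤ 𝔠` finitely generated. -/
lemma exists_fg_le (𝔠 : Ideal A) {S : Type u} [CommRing S] [Algebra A S] (J : Ideal S) (hJ : J.FG)
    (h : J ≤ 𝔠.map (algebraMap A S)) : ∃ I ≤ 𝔠, I.FG ∧ J ≤ I.map (algebraMap A S) := by
  obtain ⟨s, rfl⟩ := hJ
  have h1 : ∀ x : S, x ∈ 𝔠.map (algebraMap A S) → ∃ I ≤ 𝔠, I.FG ∧ x ∈ I.map (algebraMap A S) := by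
    intro x hx
    refine Submodule.span_induction (p := fun x _ => ∃ I ≤ 𝔠, I.FG ∧ x ∈ I.map (algebraMap A S)) ?_ ?_ ?_ ?_ hx
    · rintro _ ⟨a, ha, rfl⟩
      exact ⟨Ideal.span {a}, (Ideal.span_singleton_le_iff_mem _).2 ha, ⟨{a}, by rw [Finset.coe_singleton]⟩,
        Ideal.mem_map_of_mem _ (Ideal.mem_span_singleton_self a)⟩
    · exact ⟨⊥, bot_le, Submodule.fg_bot, zero_mem _⟩
    · rintro x y - - ⟨I, hI, hI', hx⟩ ⟨I', hI2, hI2', hy⟩
      exact ⟨I ⊔ I', sup_le hI hI2, Submodule.FG.sup hI' hI2', add_mem (Ideal.map_mono le_sup_left hx) (Ideal.map_mono le_sup_right hy)⟩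
    · rintro a x - ⟨I, hI, hI', hx⟩
      exact ⟨I, hI, hI', Ideal.mul_mem_left _ a hx⟩
  classical
  induction s using Finset.induction_on with
  | empty => exact ⟨⊥, bot_le, Submodule.fg_bot, by rw [Finset.coe_empty, Ideal.span_empty]; exact bot_le⟩
  | insert a s _ ih =>
    rw [Finset.coe_insert, Ideal.span_insert] at h
    obtain ⟨I, hI, hI', hs⟩ := ih (le_sup_right.trans h)
    obtain ⟨I', hI2, hI2', ha⟩ := h1 a (h (Ideal.mem_sup_left (Ideal.mem_span_singleton_self a)))
    refine ⟨I ⊔ I', sup_le hI hI2, Submodule.FG.sup hI' hI2', ?_⟩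
    rw [Finset.coe_insert, Ideal.span_insert]
    exact sup_le ((Ideal.span_singleton_le_iff_mem _).2 (Ideal.map_mono le_sup_right ha))
      (hs.trans (Ideal.map_mono le_sup_left))

variable {𝒢 : Over (Spec (CommRingCat.of A))} [GrpObj 𝒢]

/-- A point trivial modulo a nil ideal `𝔠` is trivial modulo a finitely generated ideal contained in `𝔠`. -/
theorem exists_fg [LocallyOfFiniteType 𝒢.hom] (𝔠 : Ideal A) (h𝔠 : ∀ a ∈ 𝔠, IsNilpotent a) {S : Type u} [CommRing S]
    [Algebra A S] (x : SpecOver A S ⟶ 𝒢) (hx : specMap A (κ 𝔠 S) ≫ x = 1) :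
    ∃ I ≤ 𝔠, I.FG ∧ specMap A (κ I S) ≫ x = 1 := by
  let u : SpecOver A A ⟶ 𝒢 := 1
  let e : Spec (CommRingCat.of A) ⟶ 𝒢.left := u.left
  let X : Spec (CommRingCat.of S) ⟶ 𝒢.left := x.left
  have hiso : e ≫ 𝒢.hom = 𝟙 _ := by
    have h1 : u.left ≫ 𝒢.hom = (SpecOver A A).hom := Over.w u
    exact h1.trans (Spec.map_id _)
  have he : IsImmersion e := by
    have h1 : IsImmersion (e ≫ 𝒢.hom) := by
      rw [hiso]
      infer_instance
    exact IsImmersion.of_comp e 𝒢.hom
  have he2 : LocallyOfFinitePresentation e := by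
    have h1 : LocallyOfFinitePresentation (e ≫ 𝒢.hom) := by
      rw [hiso]
      infer_instance
    exact Groth.Agent.Flat2D.LfpComp.lfp_of_comp e 𝒢.hom
  have hone : ∀ {R : Type u} [CommRing R] [Algebra A R] (y : SpecOver A R ⟶ 𝒢), y = 1 ↔
      ∃ z : Spec (CommRingCat.of R) ⟶ Spec (CommRingCat.of A), y.left = z ≫ e := by
    intro R _ _ y
    constructor
    · rintro rfl
      refine ⟨(specMap A (Algebra.ofId A R)).left, ?_⟩
      have h1 : specMap A (Algebra.ofId A R) ≫ u = 1 := comp_one' _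
      rw [← h1]
      rfl
    · rintro ⟨z, hz⟩
      have h2 : z ≫ (SpecOver A A).hom = (SpecOver A R).hom := by
        have h3 : y.left ≫ 𝒢.hom = (SpecOver A R).hom := Over.w y
        rw [← h3, hz]
        have h4 : z ≫ (e ≫ 𝒢.hom) = z ≫ 𝟙 _ := by rw [hiso]
        have h5 : (SpecOver A A).hom = 𝟙 _ := Spec.map_id _
        exact (congrArg (fun q => z ≫ q) h5).trans (h4.symm.trans (Category.assoc _ _ _).symm)
      let z' : SpecOver A R ⟶ SpecOver A A := Over.homMk z h2
      have h3 : y = z' ≫ u := by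
        ext1
        exact hz
      rw [h3, ← specMap_specPreimage A z']
      exact comp_one' _
  obtain ⟨z, hz⟩ := (hone _).1 hx
  have hnil : ∀ s, κ 𝔠 S s = 0 → IsNilpotent s := by
    intro s hs
    have hs' : s ∈ RingHom.ker (κ 𝔠 S) := hs
    rw [ker_κ] at hs'
    have h1 : 𝔠.map (algebraMap A S) ≤ nilradical S := by
      rw [Ideal.map_le_iff_le_comap]
      intro a ha
      exact (h𝔠 a ha).map (algebraMap A S)
    exact h1 hs'
  obtain ⟨J, hJ, hJ', h⟩ := K771.NilFg.geo X e (κ 𝔠 S).toRingHom (κ_surjective 𝔠) hnil z hz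
  have hJ2 : J ≤ 𝔠.map (algebraMap A S) := by
    rw [← ker_κ]
    exact hJ'
  obtain ⟨I, hI, hI', hJI⟩ := exists_fg_le 𝔠 J hJ hJ2
  refine ⟨I, hI, hI', ?_⟩
  rw [hone]
  exact h (κ I S).toRingHom (by
    intro s hs
    have h1 : s ∈ RingHom.ker (κ I S) := by
      rw [ker_κ]
      exact hJI hs
    exact h1)

end K771.NilNb
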