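import Groth.Agent.GaDual.K771.NilNb
import Groth.Agent.TateLoc.K809.KerDer
import Groth.Agent.S1488

/-!
# Infinitesimal points of a smooth commutative group scheme

Exactness statements for the kernels of `𝒢(S) → 𝒢(S/J)`, `J² = 0`, without choosing a chart of `𝒢`
(adapted from `K809.KerGrp`, `K809.KerDer`, where the unit section lies in an affine chart).

* `FS 𝒢`: points lift along surjections with square-zero kernel; `fs_of_smooth`, `FS.nilp`;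
* `exists_primitive`: cocycles of infinitesimal points are coboundaries.
-/

set_option autoImplicit false

universe u

open CategoryTheory MonoidalCategory CartesianMonoidalCategory AlgebraicGeometry Limits MonObj
open Groth.Agent.Books.AffBridge K809.KerGrp

noncomputable section

namespace K771.NilNb

variable {A : Type u} [CommRing A]

/-- Points lift along surjections with square-zero kernel. -/
def FS (𝒢 : Over (Spec (CommRingCat.of A))) : Prop :=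
  ∀ {S S' : Type u} [CommRing S] [Algebra A S] [CommRing S'] [Algebra A S'] (π : S →ₐ[A] S'), Function.Surjective π →
    (∀ x y, π x = 0 → π y = 0 → x * y = 0) → ∀ x : SpecOver A S' ⟶ 𝒢, ∃ y : SpecOver A S ⟶ 𝒢, specMap A π ≫ y = x

theorem fs_of_smooth (𝒢 : Over (Spec (CommRingCat.of A))) [Smooth 𝒢.hom] : FS 𝒢 := by
  intro S S' _ _ _ _ π hπ h x
  have hfs := ((Groth.Agent.S1488.result 𝒢.hom).1 inferInstance).2
  let I : Ideal S := RingHom.ker π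
  have hI : I ^ 2 = ⊥ := by
    rw [pow_two, ← le_bot_iff, Ideal.mul_le]
    intro a ha b hb
    rw [Ideal.mem_bot]
    exact h a b ha hb
  let e : (S ⧸ I) ≃ₐ[A] S' := Ideal.quotientKerAlgEquivOfSurjective hπ
  let a : SpecOver A (S ⧸ I) ⟶ 𝒢 := specMap A (e.symm : S' →ₐ[A] S ⧸ I) ≫ x
  obtain ⟨l, hl1, hl2⟩ := hfs S I hI a.left (SpecOver A S).hom ((Over.w (specMap A (Ideal.Quotient.mkₐ A I))).trans
    (Over.w a).symm)
  let y : SpecOver A S ⟶ 𝒢 := Over.homMk l hl2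
  have hy : specMap A (Ideal.Quotient.mkₐ A I) ≫ y = a := by
    ext1
    exact hl1
  refine ⟨y, ?_⟩
  have h1 : π = (e : (S ⧸ I) →ₐ[A] S').comp (Ideal.Quotient.mkₐ A I) := rfl
  have h2 : (e : (S ⧸ I) →ₐ[A] S').comp (e.symm : S' →ₐ[A] S ⧸ I) = AlgHom.id A S' := by
    ext z
    exact e.apply_symm_apply z
  rw [h1, specMap_comp, Category.assoc, hy]
  change specMap A (e : (S ⧸ I) →ₐ[A] S') ≫ specMap A (e.symm : S' →ₐ[A] S ⧸ I) ≫ x = x
  rw [cc, h2, specMap_id, Category.id_comp]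

/-- Points lift along surjections with nilpotent kernel. -/
theorem FS.nilp {𝒢 : Over (Spec (CommRingCat.of A))} (hfs : FS 𝒢) (n : ℕ) : ∀ {S S' : Type u} [CommRing S] [Algebra A S]
    [CommRing S'] [Algebra A S'] (π : S →ₐ[A] S'), Function.Surjective π → RingHom.ker π ^ (n + 1) = ⊥ →
    ∀ x : SpecOver A S' ⟶ 𝒢, ∃ y : SpecOver A S ⟶ 𝒢, specMap A π ≫ y = x := by
  induction n with
  | zero =>
    intro S S' _ _ _ _ π hπ h x
    refine hfs π hπ (fun a b ha _ => ?_) x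
    rw [zero_add, pow_one] at h
    have : a ∈ RingHom.ker π := ha
    rw [h, Ideal.mem_bot] at this
    rw [this, zero_mul]
  | succ n ih =>
    intro S S' _ _ _ _ π hπ h x
    let K : Ideal S := RingHom.ker π
    let I : Ideal S := K ^ (n + 1)
    have hIK : I ≤ K := Ideal.pow_le_self (Nat.succ_ne_zero n)
    let q : S ⧸ I →ₐ[A] S' := Ideal.Quotient.liftₐ I π (fun a ha => hIK ha)
    have hq : Function.Surjective q := fun z => by
      obtain ⟨s, rfl⟩ := hπ z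
      exact ⟨Ideal.Quotient.mk I s, rfl⟩
    have hker : RingHom.ker q = K.map (Ideal.Quotient.mk I) := by
      apply le_antisymm
      · intro z hz
        obtain ⟨s, rfl⟩ := Ideal.Quotient.mk_surjective z
        exact Ideal.mem_map_of_mem _ (show s ∈ K from hz)
      · rw [Ideal.map_le_iff_le_comap]
        intro s hs
        exact hs
    obtain ⟨y, hy⟩ := ih q hq (by
      rw [hker, ← Ideal.map_pow]
      exact Ideal.map_quotient_self I) x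
    obtain ⟨z, hz⟩ := hfs (Ideal.Quotient.mkₐ A I) (Ideal.Quotient.mkₐ_surjective A I) (fun a b ha hb => by
      have ha' : a ∈ I := Ideal.Quotient.eq_zero_iff_mem.1 ha
      have hb' : b ∈ I := Ideal.Quotient.eq_zero_iff_mem.1 hb
      have h1 : a * b ∈ K ^ (n + 1 + 1) := by
        rw [pow_succ]
        exact Ideal.mul_mem_mul ha' (hIK hb')
      rw [h, Ideal.mem_bot] at h1
      exact h1) y
    refine ⟨z, ?_⟩
    have h1 : π = q.comp (Ideal.Quotient.mkₐ A I) := rfl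
    rw [h1, specMap_comp, Category.assoc, hz, hy]

variable {𝒢 : Over (Spec (CommRingCat.of A))} [GrpObj 𝒢] (N : Nb 𝒢)
variable {S : Type u} [CommRing S] [Algebra A S] {J : Ideal S}

/-- **Additivity**: the product of the points of `φ` and `ψ` is the point of `φ + ψ - ε`. -/
theorem mul_eq (hJ : ∀ x ∈ J, ∀ y ∈ J, x * y = 0) (φ ψ χ : N.E →ₐ[A] S)
    (hφ : ∀ x, φ x - algebraMap A S (N.ε x) ∈ J) (hψ : ∀ x, ψ x - algebraMap A S (N.ε x) ∈ J)
    (hχ : ∀ x, χ x = φ x + ψ x - algebraMap A S (N.ε x)) :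
    specMap A χ ≫ N.j = (specMap A φ ≫ N.j) * (specMap A ψ ≫ N.j) := by
  let φ' := toU J N.ε φ hφ
  let ψ' := toU J N.ε ψ hψ
  obtain ⟨g1, hg1'⟩ : ∃ g1 : SpecOver A (U (A := A) J) ⟶ 𝒢, g1 = specMap A φ' ≫ N.j := ⟨_, rfl⟩
  obtain ⟨g2, hg2'⟩ : ∃ g2 : SpecOver A (U (A := A) J) ⟶ 𝒢, g2 = specMap A ψ' ≫ N.j := ⟨_, rfl⟩
  have hg1 : specMap A (uA J) ≫ g1 = 1 := by
    rw [hg1', cc]
    exact N.hε
  have hg2 : specMap A (uA J) ≫ g2 = 1 := by
    rw [hg2', cc]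
    exact N.hε
  obtain ⟨G, hG⟩ : ∃ G : SpecOver A (T (A := A) J) ⟶ 𝒢, G = (specMap A (i1 J) ≫ g1) * (specMap A (i2 J) ≫ g2) :=
    ⟨_, rfl⟩
  have hG0 : specMap A (tA J) ≫ G = 1 := by
    rw [hG, comp_mul', cc, cc, tA_i1, tA_i2, hg1, hg2, _root_.mul_one]
  obtain ⟨e', he'⟩ := N.fac (tA (A := A) J) (fun a => ⟨algebraMap A _ a, rfl⟩) (by
    rintro ⟨⟨a, s, t⟩, h⟩ ⟨⟨a', s', t'⟩, h'⟩ h0 h0'
    change a = 0 at h0
    change a' = 0 at h0'
    subst h0 h0'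
    have h1 := h.1
    have h2 := h.2
    have h1' := h'.1
    have h2' := h'.2
    change s - algebraMap A S 0 ∈ J at h1
    change t - algebraMap A S 0 ∈ J at h2
    change s' - algebraMap A S 0 ∈ J at h1'
    change t' - algebraMap A S 0 ∈ J at h2'
    rw [map_zero, sub_zero] at h1 h2 h1' h2'
    refine Subtype.ext (Prod.ext ?_ (Prod.ext ?_ ?_))
    · change (0 : A) * 0 = 0
      simp
    · exact hJ _ h1 _ h1'
    · exact hJ _ h2 _ h2') G hG0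
  have hp1 : (p1 J).comp e' = φ' := by
    apply N.inj
    rw [← cc, he', hG, comp_mul', cc, cc, p1_i1, p1_i2, specMap_id, Category.id_comp, ← cc, hg2, comp_one',
      _root_.mul_one, hg1']
  have hp2 : (p2 J).comp e' = ψ' := by
    apply N.inj
    rw [← cc, he', hG, comp_mul', cc, cc, p2_i1, p2_i2, specMap_id, Category.id_comp, ← cc, hg1, comp_one',
      _root_.one_mul, hg2']
  have hsg : (sg J hJ).comp e' = χ := by
    ext x
    have h1 : ((p1 J) (e' x)).1.2 = φ x := congrArg (fun f : N.E →ₐ[A] U (A := A) J => (f x).1.2) hp1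
    have h2 : ((p2 J) (e' x)).1.2 = ψ x := congrArg (fun f : N.E →ₐ[A] U (A := A) J => (f x).1.2) hp2
    have h3 : ((p1 J) (e' x)).1.1 = N.ε x := congrArg (fun f : N.E →ₐ[A] U (A := A) J => (f x).1.1) hp1
    change (e' x).1.2.1 = φ x at h1
    change (e' x).1.2.2 = ψ x at h2
    change (e' x).1.1 = N.ε x at h3
    change (e' x).1.2.1 + (e' x).1.2.2 - algebraMap A S (e' x).1.1 = χ x
    rw [h1, h2, h3, hχ]
  rw [← hsg, ← cc, he', hG, comp_mul', cc, cc, sg_i1, sg_i2, hg1', hg2', cc, cc]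
  rfl

/-- The point of a derivation. -/
def Ψ (hJ : ∀ x ∈ J, ∀ y ∈ J, x * y = 0) : Der N.ε J →+ Pt 𝒢 S where
  toFun D := Additive.ofMul (specMap A (alg hJ D.2) ≫ N.j)
  map_zero' := by
    have : alg hJ (Der N.ε J).zero_mem = (Algebra.ofId A S).comp N.ε := by
      ext x
      change algebraMap A S (N.ε x) + 0 = algebraMap A S (N.ε x)
      rw [add_zero]
    change Additive.ofMul (specMap A (alg hJ (Der N.ε J).zero_mem) ≫ N.j) = 0
    rw [this, ← cc, N.hε, comp_one']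
    rfl
  map_add' D D' := by
    refine congrArg Additive.ofMul (mul_eq N hJ _ _ _ (alg_sub_mem hJ D.2) (alg_sub_mem hJ D'.2) fun x => ?_)
    change algebraMap A S (N.ε x) + (D.1 x + D'.1 x) =
      (algebraMap A S (N.ε x) + D.1 x) + (algebraMap A S (N.ε x) + D'.1 x) - algebraMap A S (N.ε x)
    ring

lemma Ψ_apply (hJ : ∀ x ∈ J, ∀ y ∈ J, x * y = 0) (D : Der N.ε J) :
    Ψ N hJ D = Additive.ofMul (specMap A (alg hJ D.2) ≫ N.j) := rfl

lemma Ψ_injective (hJ : ∀ x ∈ J, ∀ y ∈ J, x * y = 0) : Function.Injective (Ψ N hJ) := by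
  intro D D' h
  have h1 := N.inj _ _ h
  refine Subtype.ext (LinearMap.ext fun x => ?_)
  have h2 := DFunLike.congr_fun h1 x
  exact add_left_cancel h2

/-- Naturality. -/
lemma res_Ψ (hJ : ∀ x ∈ J, ∀ y ∈ J, x * y = 0) {S' : Type u} [CommRing S']
    [Algebra A S'] {J' : Ideal S'} (hJ' : ∀ x ∈ J', ∀ y ∈ J', x * y = 0) (f : S →ₐ[A] S') (hf : ∀ x ∈ J, f x ∈ J')
    (D : Der N.ε J) : res f (Ψ N hJ D) = Ψ N hJ' ⟨f.toLinearMap.comp D.1, comp_mem _ hf D.2⟩ := by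
  refine congrArg Additive.ofMul ?_
  rw [Ψ_apply]
  change specMap A f ≫ specMap A (alg hJ D.2) ≫ N.j = _
  rw [cc]
  congr 2
  ext x
  change f (algebraMap A S (N.ε x) + D.1 x) = algebraMap A S' (N.ε x) + f (D.1 x)
  rw [map_add, f.commutes]

/-- Points trivial modulo `J` come from derivations. -/
lemma exists_Ψ (hJ : ∀ x ∈ J, ∀ y ∈ J, x * y = 0) {S' : Type u} [CommRing S']
    [Algebra A S'] (π : S →ₐ[A] S') (hπ : Function.Surjective π) (hk : ∀ x, π x = 0 ↔ x ∈ J) (x : Pt 𝒢 S)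
    (hx : res π x = 0) : ∃ D : Der N.ε J, Ψ N hJ D = x := by
  obtain ⟨e', he', he''⟩ := N.fac' π hπ (fun a b ha hb => hJ _ ((hk a).1 ha) _ ((hk b).1 hb)) x.toMul hx
  have hmem : ∀ y, e' y - algebraMap A S (N.ε y) ∈ J := by
    intro y
    rw [← hk, map_sub, π.commutes, sub_eq_zero]
    exact DFunLike.congr_fun he'' y
  refine ⟨⟨_, toDer_mem hJ e' hmem⟩, ?_⟩
  rw [Ψ_apply]
  change Additive.ofMul (specMap A (alg hJ (toDer_mem hJ e' hmem)) ≫ N.j) = x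
  rw [alg_toDer hJ e' hmem, he']
  rfl

section two

variable {S₁ S₂ S₃ : Type u} [CommRing S₁] [Algebra A S₁] [CommRing S₂] [Algebra A S₂] [CommRing S₃] [Algebra A S₃]
  {J₁ : Ideal S₁} {J₂ : Ideal S₂} {J₃ : Ideal S₃}

/-- Derivations lift along surjections, if points lift. -/
theorem exists_der_lift' (hfs : FS 𝒢) (hJ₁ : ∀ x ∈ J₁, ∀ y ∈ J₁, x * y = 0)
    (hJ₂ : ∀ x ∈ J₂, ∀ y ∈ J₂, x * y = 0) (f : S₁ →ₗ[A] S₂) (hf : ∀ x ∈ J₁, f x ∈ J₂)
    {D : N.E →ₗ[A] S₂} (hD : D ∈ Der N.ε J₂) (h : ∀ x, ∃ y ∈ J₁, f y = D x) :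
    ∃ D' ∈ Der N.ε J₁, f.comp D' = D := by
  let g : N.E →ₐ[A] W hJ₂ f hf := (N.ε.prod (alg hJ₂ hD)).codRestrict _ (fun x => by
    obtain ⟨y, hy, hyx⟩ := h x
    exact ⟨y, hy, by rw [hyx]; rfl⟩)
  have hs : Function.Surjective (uW hJ₁ hJ₂ f hf) := by
    rintro ⟨⟨a, s⟩, ⟨y, hy, hs⟩⟩
    change s = algebraMap A S₂ a + f y at hs
    refine ⟨⟨(a, algebraMap A S₁ a + y), ?_⟩, Subtype.ext (Prod.ext rfl ?_)⟩
    · change algebraMap A S₁ a + y - algebraMap A S₁ a ∈ J₁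
      rwa [add_sub_cancel_left]
    · change algebraMap A S₂ a + f (algebraMap A S₁ a + y - algebraMap A S₁ a) = s
      rw [add_sub_cancel_left, hs]
  have hsq : ∀ x y : U (A := A) J₁, x.1.1 = 0 → y.1.1 = 0 → x * y = 0 := by
    rintro ⟨⟨a, s⟩, h1⟩ ⟨⟨a', s'⟩, h1'⟩ ha ha'
    change a = 0 at ha
    change a' = 0 at ha'
    subst ha ha'
    change s - algebraMap A S₁ 0 ∈ J₁ at h1
    change s' - algebraMap A S₁ 0 ∈ J₁ at h1'
    rw [map_zero, sub_zero] at h1 h1'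
    refine Subtype.ext (Prod.ext ?_ ?_)
    · change (0 : A) * 0 = 0
      rw [mul_zero]
    · exact hJ₁ _ h1 _ h1'
  obtain ⟨y, hy⟩ := hfs (uW hJ₁ hJ₂ f hf) hs (fun a b ha hb =>
    hsq a b (congrArg (fun t => t.1.1) ha) (congrArg (fun t => t.1.1) hb)) (specMap A g ≫ N.j)
  let wA : W hJ₂ f hf →ₐ[A] A := (AlgHom.fst A A S₂).comp (W hJ₂ f hf).val
  have hwu : wA.comp (uW hJ₁ hJ₂ f hf) = uA J₁ := rfl
  have hy1 : specMap A (uA J₁) ≫ y = 1 := by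
    rw [← hwu, ← cc, hy, cc]
    exact N.hε
  obtain ⟨g', hg'', -⟩ := N.fac' (uA J₁) (fun a => ⟨algebraMap A _ a, rfl⟩) (fun a b ha hb => hsq a b ha hb) y hy1
  have hg' : (uW hJ₁ hJ₂ f hf).comp g' = g := by
    apply N.inj
    rw [← cc, hg'', hy]
  have h1 : ∀ x, (g' x).1.1 = N.ε x := fun x => congrArg (fun t : N.E →ₐ[A] W hJ₂ f hf => (t x).1.1) hg'
  have h2 : ∀ x, algebraMap A S₂ (g' x).1.1 + f ((g' x).1.2 - algebraMap A S₁ (g' x).1.1) =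
      algebraMap A S₂ (N.ε x) + D x := fun x => congrArg (fun t : N.E →ₐ[A] W hJ₂ f hf => (t x).1.2) hg'
  have hmem : ∀ x, (uS J₁).comp g' x - algebraMap A S₁ (N.ε x) ∈ J₁ := by
    intro x
    rw [← h1]
    exact (g' x).2
  refine ⟨toDer N.ε ((uS J₁).comp g'), toDer_mem hJ₁ _ hmem, ?_⟩
  ext x
  have h3 := h2 x
  rw [h1] at h3
  exact add_left_cancel h3

/-- Alternating sums of the restrictions of an infinitesimal point. -/
lemma sum_res_Ψ [IsCommMonObj 𝒢] {κ : Type*} [Fintype κ] (s : κ → ℤ) (δ : κ → (S₁ →ₐ[A] S₂))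
    (h : ∀ i, ∀ x ∈ J₁, δ i x ∈ J₂)
    (hJ₁ : ∀ x ∈ J₁, ∀ y ∈ J₁, x * y = 0) (hJ₂ : ∀ x ∈ J₂, ∀ y ∈ J₂, x * y = 0)
    (D : Der N.ε J₁) : ∑ i, s i • res (δ i) (Ψ N hJ₁ D) =
      Ψ N hJ₂ ⟨(lin s δ).comp D.1, comp_mem _ (lin_mem s δ h) D.2⟩ := by
  have h1 : (⟨(lin s δ).comp D.1, comp_mem _ (lin_mem s δ h) D.2⟩ : Der N.ε J₂) =
      ∑ i, s i • ⟨(δ i).toLinearMap.comp D.1, comp_mem _ (h i) D.2⟩ := by
    apply Subtype.ext
    rw [AddSubgroup.val_finsetSum]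
    ext x
    change lin s δ (D.1 x) = _
    rw [lin_apply, LinearMap.sum_apply]
    rfl
  rw [h1, map_sum]
  refine Finset.sum_congr rfl fun i _ => ?_
  rw [map_zsmul, res_Ψ N hJ₁ hJ₂ (δ i) (h i)]

/-- **Exactness for infinitesimal points.** -/
theorem exists_primitive [IsCommMonObj 𝒢] (hfs : FS 𝒢) {κ κ' : Type*} [Fintype κ] [Fintype κ']
    (s : κ → ℤ) (δ : κ → (S₁ →ₐ[A] S₂)) (h : ∀ i, ∀ x ∈ J₁, δ i x ∈ J₂)
    (s' : κ' → ℤ) (δ' : κ' → (S₂ →ₐ[A] S₃)) (h' : ∀ i, ∀ x ∈ J₂, δ' i x ∈ J₃)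
    (hex : ∀ z ∈ J₂, lin s' δ' z = 0 → ∃ y ∈ J₁, lin s δ y = z)
    (hJ₁ : ∀ x ∈ J₁, ∀ y ∈ J₁, x * y = 0) (hJ₂ : ∀ x ∈ J₂, ∀ y ∈ J₂, x * y = 0)
    (hJ₃ : ∀ x ∈ J₃, ∀ y ∈ J₃, x * y = 0)
    {S₁' S₂' : Type u} [CommRing S₁'] [Algebra A S₁'] (π₁ : S₁ →ₐ[A] S₁') (hk₁ : ∀ x, x ∈ J₁ → π₁ x = 0)
    [CommRing S₂'] [Algebra A S₂'] (π₂ : S₂ →ₐ[A] S₂') (hπ₂ : Function.Surjective π₂)
    (hk₂ : ∀ x, π₂ x = 0 ↔ x ∈ J₂) (w : Pt 𝒢 S₂) (hw : res π₂ w = 0) (hdw : ∑ i, s' i • res (δ' i) w = 0) :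
    ∃ c : Pt 𝒢 S₁, res π₁ c = 0 ∧ ∑ i, s i • res (δ i) c = w := by
  obtain ⟨N⟩ := exists_nb 𝒢
  obtain ⟨D, rfl⟩ := exists_Ψ N hJ₂ π₂ hπ₂ hk₂ w hw
  rw [sum_res_Ψ N s' δ' h' hJ₂ hJ₃] at hdw
  have h1 : (lin s' δ').comp D.1 = 0 := congrArg Subtype.val (Ψ_injective N hJ₃ (hdw.trans (map_zero _).symm))
  obtain ⟨D', hD', hD'D⟩ := exists_der_lift' N hfs hJ₁ hJ₂ (lin s δ) (lin_mem s δ h) D.2
    (fun x => hex _ (D.2.1 x) (DFunLike.congr_fun h1 x))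
  refine ⟨Ψ N hJ₁ ⟨D', hD'⟩, ?_, ?_⟩
  · rw [res_Ψ N hJ₁ (J' := ⊥) (by simp) π₁ (fun x hx => (Ideal.mem_bot).2 (hk₁ x hx))]
    rw [← map_zero (Ψ N (J := (⊥ : Ideal S₁')) (by simp))]
    congr 1
    apply Subtype.ext
    ext x
    exact hk₁ _ (hD'.1 x)
  · rw [sum_res_Ψ N s δ h hJ₁ hJ₂]
    congr 1
    exact Subtype.ext hD'D

end two

end K771.NilNb
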