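import Groth.Agent.Sga3C.Affinization
import Groth.Agent.S2097
import Mathlib.AlgebraicGeometry.Morphisms.Smooth
import Mathlib.AlgebraicGeometry.Morphisms.QuasiCompact

/-!
# Points of smooth schemes lift locally along nil-immersions
-/

set_option autoImplicit false

universe u

open CategoryTheory CategoryTheory.Limits AlgebraicGeometry

namespace K771.NilLoc

/-- A global function which dies on a surjective cover is nilpotent. -/
theorem isNilpotent_of_appTop {Z U : Scheme.{u}} [CompactSpace U] (q : Z ⟶ U) [Surjective q] (a : Γ(U, ⊤))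
    (ha : q.appTop a = 0) : IsNilpotent a := by
  rw [Scheme.isNilpotent_iff_basicOpen_eq_bot]
  have h1 : q ⁻¹ᵁ (U.basicOpen a) = ⊥ := by
    have h2 : q ⁻¹ᵁ (U.basicOpen a) = Z.basicOpen (q.appTop a) := Scheme.preimage_basicOpen_top q a
    rw [h2, ha]
    exact Scheme.basicOpen_zero _ _
  ext x
  constructor
  · intro hx
    obtain ⟨z, rfl⟩ := q.surjective x
    have h3 : z ∈ q ⁻¹ᵁ (U.basicOpen a) := hx
    rw [h1] at h3
    exact h3.elim
  · intro hx
    exact hx.elim

/-- Lifting of points of a smooth affine scheme along a nil-immersion of affine schemes. -/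
theorem aff_lift {V W U Z : Scheme.{u}} [IsAffine V] [IsAffine W] [IsAffine U] (γ : W ⟶ V) [Smooth γ] (τ : U ⟶ V)
    (q : Z ⟶ U) [IsClosedImmersion q] [Surjective q] (y : Z ⟶ W) (h : y ≫ γ = q ≫ τ) :
    ∃ s : U ⟶ W, q ≫ s = y ∧ s ≫ γ = τ := by
  let φ : Γ(V, ⊤) →+* Γ(W, ⊤) := γ.appTop.hom
  let α : Γ(V, ⊤) →+* Γ(U, ⊤) := τ.appTop.hom
  let ρ : Γ(U, ⊤) →+* Γ(Z, ⊤) := q.appTop.hom
  let β : Γ(W, ⊤) →+* Γ(Z, ⊤) := y.appTop.hom
  have hsm : φ.Smooth := (HasRingHomProperty.iff_of_isAffine (P := @Smooth)).1 inferInstance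
  have hρ : Function.Surjective ρ := (IsClosedImmersion.isAffine_surjective_of_isAffine q).2
  have hβ : β.comp φ = ρ.comp α := by
    have := congrArg (fun t => t.appTop.hom) h
    rwa [Scheme.Hom.comp_appTop, Scheme.Hom.comp_appTop] at this
  let _ : Algebra Γ(V, ⊤) Γ(W, ⊤) := φ.toAlgebra
  let _ : Algebra Γ(V, ⊤) Γ(U, ⊤) := α.toAlgebra
  have hsm' : Algebra.Smooth Γ(V, ⊤) Γ(W, ⊤) := hsm
  let I : Ideal Γ(U, ⊤) := RingHom.ker ρ
  let e : Γ(U, ⊤) ⧸ I ≃+* Γ(Z, ⊤) := RingHom.quotientKerEquivOfSurjective hρ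
  have he : ∀ x, e (Ideal.Quotient.mk I x) = ρ x := fun x => rfl
  let g : Γ(W, ⊤) →ₐ[Γ(V, ⊤)] Γ(U, ⊤) ⧸ I :=
    { e.symm.toRingHom.comp β with
      commutes' := fun r => by
        apply e.injective
        have h1 : e (e.symm (β (φ r))) = β (φ r) := e.apply_symm_apply _
        have h2 : β (φ r) = ρ (α r) := DFunLike.congr_fun hβ r
        exact h1.trans h2 }
  obtain ⟨f, hf⟩ := Groth.Agent.S2097.result I (fun x hx => isNilpotent_of_appTop q x hx) g
  have hf1 : ρ.comp f.toRingHom = β := by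
    ext x
    have h1 : Ideal.Quotient.mk I (f x) = e.symm (β x) := DFunLike.congr_fun hf x
    have h2 := congrArg e h1
    rw [he, e.apply_symm_apply] at h2
    exact h2
  have hf2 : f.toRingHom.comp φ = α := by
    ext r
    exact f.commutes r
  obtain ⟨s, hs⟩ := Groth.Agent.Sga3C.Affinization.exists_appTop_eq (X := U) (Z := W) (CommRingCat.ofHom f.toRingHom)
  refine ⟨s, ext_of_isAffine ?_, ext_of_isAffine ?_⟩
  · rw [Scheme.Hom.comp_appTop, hs]
    exact CommRingCat.hom_ext hf1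
  · rw [Scheme.Hom.comp_appTop, hs]
    exact CommRingCat.hom_ext hf2

end K771.NilLoc
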