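import Groth.Agent.Divis.IdealComap
import Groth.Agent.Fcompl.H545.SpecKer
import Groth.Agent.S0440
import Groth.Agent.TateLoc.K809.KerGrp

/-!
# The first order neighbourhood of the unit section of a group scheme

`Nb 𝒢`: an affine scheme `Spec E ⟶ 𝒢` through which all points of `𝒢` with values in `S` factor which are trivial modulo a
square-zero ideal of `S`.  `exists_nb`: it exists for every group scheme over an affine scheme.
-/

set_option autoImplicit false

universe u

open CategoryTheory MonoidalCategory CartesianMonoidalCategory AlgebraicGeometry Limits MonObj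
open Groth.Agent.Books.AffBridge K809.KerGrp

namespace K771.NilNb

variable {A : Type u} [CommRing A]

/-- The first order neighbourhood of the unit section. -/
structure Nb (𝒢 : Over (Spec (CommRingCat.of A))) [GrpObj 𝒢] where
  E : Type u
  ring : CommRing E
  alg : Algebra A E
  j : SpecOver A E ⟶ 𝒢
  ε : E →ₐ[A] A
  hε : specMap A ε ≫ j = 1
  inj : ∀ {S : Type u} [CommRing S] [Algebra A S] (φ ψ : E →ₐ[A] S), specMap A φ ≫ j = specMap A ψ ≫ j → φ = ψ
  fac : ∀ {S S' : Type u} [CommRing S] [Algebra A S] [CommRing S'] [Algebra A S'] (π : S →ₐ[A] S'),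
    Function.Surjective π → (∀ x y, π x = 0 → π y = 0 → x * y = 0) → ∀ x : SpecOver A S ⟶ 𝒢,
    specMap A π ≫ x = 1 → ∃ e' : E →ₐ[A] S, specMap A e' ≫ j = x

attribute [instance] Nb.ring Nb.alg

variable {𝒢 : Over (Spec (CommRingCat.of A))} [GrpObj 𝒢]

/-- The factorisation is compatible with the augmentation. -/
theorem Nb.fac' (N : Nb 𝒢) {S S' : Type u} [CommRing S] [Algebra A S] [CommRing S'] [Algebra A S'] (π : S →ₐ[A] S')
    (hπ : Function.Surjective π) (h : ∀ x y, π x = 0 → π y = 0 → x * y = 0) (x : SpecOver A S ⟶ 𝒢)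
    (hx : specMap A π ≫ x = 1) :
    ∃ e' : N.E →ₐ[A] S, specMap A e' ≫ N.j = x ∧ π.comp e' = (Algebra.ofId A S').comp N.ε := by
  obtain ⟨e', he'⟩ := N.fac π hπ h x hx
  refine ⟨e', he', N.inj _ _ ?_⟩
  rw [← cc, ← cc, he', hx, N.hε, comp_one']

theorem exists_nb (𝒢 : Over (Spec (CommRingCat.of A))) [GrpObj 𝒢] : Nonempty (Nb 𝒢) := by
  let e : SpecOver A A ⟶ 𝒢 := 1
  have hiso : IsIso (SpecOver A A).hom := by
    change IsIso (Spec.map (CommRingCat.ofHom (algebraMap A A)))
    have : CommRingCat.ofHom (algebraMap A A) = 𝟙 _ := rfl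
    rw [this]
    infer_instance
  have he : IsImmersion e.left := by
    have h1 : IsImmersion (e.left ≫ 𝒢.hom) := by
      rw [Over.w]
      infer_instance
    exact IsImmersion.of_comp e.left 𝒢.hom
  let U := e.left.coborderRange
  let e' : (SpecOver A A).left ⟶ U := e.left.liftCoborder
  have he' : IsClosedImmersion e' := inferInstanceAs (IsClosedImmersion e.left.liftCoborder)
  have hee : e' ≫ U.ι = e.left := e.left.liftCoborder_ι
  let I : (U : Scheme.{u}).IdealSheafData := e'.ker
  let Z : Scheme.{u} := (I ^ 2).subscheme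
  let i : Z ⟶ U := (I ^ 2).subschemeι
  have hki : i.ker = I ^ 2 := (I ^ 2).ker_subschemeι
  have hle : i.ker ≤ e'.ker := by
    rw [hki]
    intro V
    rw [Scheme.IdealSheafData.ideal_pow]
    exact Ideal.pow_le_self two_ne_zero
  let e₁ : (SpecOver A A).left ⟶ Z := IsClosedImmersion.lift i e' hle
  have he₁ : e₁ ≫ i = e' := IsClosedImmersion.lift_fac i e' hle
  have hc₁ : IsClosedImmersion e₁ := by
    have : IsClosedImmersion (e₁ ≫ i) := by rw [he₁]; exact he'
    exact IsClosedImmersion.of_comp e₁ i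
  have hs₁ : Function.Surjective e₁ := by
    intro z
    have h1 : i z ∈ Set.range i := ⟨z, rfl⟩
    have h2 : Set.range i = Set.range e' := by
      have h3 : Set.range i = ((I ^ 2).support : Set U) := (I ^ 2).range_subschemeι
      rw [h3, Scheme.IdealSheafData.support_pow _ _ two_ne_zero, Scheme.Hom.support_ker]
      exact e'.isClosedEmbedding.isClosed_range.closure_eq
    rw [h2] at h1
    obtain ⟨a, ha⟩ := h1
    refine ⟨a, i.isClosedEmbedding.injective ?_⟩
    rw [← ha, ← he₁]
    rfl
  have haff : IsAffine (SpecOver A A).left := inferInstanceAs (IsAffine (Spec _))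
  have hZ : IsAffine Z := Groth.Agent.S0440.result e₁ hs₁
  let E := Γ(Z, ⊤)
  let q : Z ⟶ Spec (CommRingCat.of A) := i ≫ U.ι ≫ 𝒢.hom
  let φ : CommRingCat.of A ⟶ E := Spec.preimage (Z.isoSpec.inv ≫ q)
  let alg : Algebra A E := φ.hom.toAlgebra
  have hφ : Spec.map φ = Z.isoSpec.inv ≫ q := Spec.map_preimage _
  have hφ' : (SpecOver A E).hom = Z.isoSpec.inv ≫ q := hφ
  let j : SpecOver A E ⟶ 𝒢 := Over.homMk (Z.isoSpec.inv ≫ i ≫ U.ι) (by
    rw [hφ', Category.assoc, Category.assoc]
    rfl)
  have hjm : Mono j.left := by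
    change Mono (Z.isoSpec.inv ≫ i ≫ U.ι)
    infer_instance
  have hinj : ∀ {S : Type u} [CommRing S] [Algebra A S] (φ ψ : E →ₐ[A] S),
      specMap A φ ≫ j = specMap A ψ ≫ j → φ = ψ := by
    intro S _ _ φ ψ h
    apply specMap_injective
    ext1
    rw [← cancel_mono j.left]
    exact congrArg CommaMorphism.left h
  have hε0 : (e₁ ≫ Z.isoSpec.hom) ≫ (Z.isoSpec.inv ≫ q) = (SpecOver A A).hom := by
    change (e₁ ≫ Z.isoSpec.hom) ≫ (Z.isoSpec.inv ≫ i ≫ U.ι ≫ 𝒢.hom) = (SpecOver A A).hom
    rw [Category.assoc, Iso.hom_inv_id_assoc, ← Category.assoc, he₁, ← Category.assoc, hee]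
    exact Over.w e
  let ε' : SpecOver A A ⟶ SpecOver A E := Over.homMk (e₁ ≫ Z.isoSpec.hom)
    ((congrArg (fun z => (e₁ ≫ Z.isoSpec.hom) ≫ z) hφ').trans hε0)
  refine ⟨⟨E, inferInstance, alg, j, specPreimage A ε', ?_, hinj, ?_⟩⟩
  · rw [specMap_specPreimage]
    ext1
    change (e₁ ≫ Z.isoSpec.hom) ≫ Z.isoSpec.inv ≫ i ≫ U.ι = e.left
    rw [Category.assoc, Iso.hom_inv_id_assoc, ← Category.assoc, he₁, hee]
  · intro S S' _ _ _ _ π hπ h x hx
    -- the image of `x` lies in `U`
    have hsurj : Function.Surjective (specMap A π).left :=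
      surjective_specMap π hπ fun y hy => ⟨2, by rw [pow_two]; exact h y y hy hy⟩
    have hx1 : (specMap A π).left ≫ x.left = (specMap A (Algebra.ofId A S')).left ≫ e.left := by
      have h1 : specMap A π ≫ x = specMap A (Algebra.ofId A S') ≫ e := by
        rw [hx]
        exact (comp_one' (Algebra.ofId A S')).symm
      exact congrArg CommaMorphism.left h1
    have hr : Set.range x.left ⊆ Set.range U.ι := by
      rintro _ ⟨s, rfl⟩
      obtain ⟨s', rfl⟩ := hsurj s
      have h2 : x.left ((specMap A π).left s') = U.ι (e' ((specMap A (Algebra.ofId A S')).left s')) := by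
        rw [← Scheme.Hom.comp_apply, hx1, ← hee]
        rfl
      exact ⟨_, h2.symm⟩
    let x' : (SpecOver A S).left ⟶ U := IsOpenImmersion.lift U.ι x.left hr
    have hx' : x' ≫ U.ι = x.left := IsOpenImmersion.lift_fac _ _ _
    have hx2 : (specMap A π).left ≫ x' = (specMap A (Algebra.ofId A S')).left ≫ e' := by
      rw [← cancel_mono U.ι, Category.assoc, Category.assoc, hx', hee]
      exact hx1
    let K := (specMap A π).left.ker
    have hK : K ^ 2 = ⊥ := by
      have h3 := Groth.Agent.Fcompl.H545.SpecKer.ker_specMap_eq_pow (𝟙 (CommRingCat.of S))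
        (CommRingCat.ofHom π.toRingHom) 2 (by
          have h4 : RingHom.ker (𝟙 (CommRingCat.of S) : CommRingCat.of S ⟶ CommRingCat.of S).hom = ⊥ := by
            rw [← RingHom.injective_iff_ker_eq_bot]
            exact Function.injective_id
          rw [h4]
          symm
          rw [pow_two, ← le_bot_iff, Ideal.mul_le]
          intro a ha b hb
          rw [Ideal.mem_bot]
          exact h a b ha hb)
      have h5 : (Spec.map (𝟙 (CommRingCat.of S))).ker = ⊥ := by
        rw [Spec.map_id]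
        exact Scheme.Hom.ker_eq_bot_of_isIso _
      exact h3.symm.trans h5
    have hIK : I.comap x' ≤ K := by
      rw [← Scheme.IdealSheafData.le_map_iff_comap_le, Scheme.IdealSheafData.map_ker, hx2]
      exact Scheme.Hom.le_ker_comp _ _
    have hI2 : i.ker ≤ x'.ker := by
      rw [hki, ← Scheme.IdealSheafData.map_bot, Scheme.IdealSheafData.le_map_iff_comap_le,
        Groth.Agent.Divis.IdealComap.comap_pow, ← hK]
      exact pow_le_pow_left' hIK 2
    let x'' : (SpecOver A S).left ⟶ Z := IsClosedImmersion.lift i x' hI2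
    have hx'' : x'' ≫ i = x' := IsClosedImmersion.lift_fac i x' hI2
    have hy0 : (x'' ≫ Z.isoSpec.hom) ≫ (Z.isoSpec.inv ≫ q) = (SpecOver A S).hom := by
      change (x'' ≫ Z.isoSpec.hom) ≫ (Z.isoSpec.inv ≫ i ≫ U.ι ≫ 𝒢.hom) = (SpecOver A S).hom
      rw [Category.assoc, Iso.hom_inv_id_assoc, ← Category.assoc, hx'', ← Category.assoc, hx']
      exact Over.w x
    let y : SpecOver A S ⟶ SpecOver A E := Over.homMk (x'' ≫ Z.isoSpec.hom)
      ((congrArg (fun z => (x'' ≫ Z.isoSpec.hom) ≫ z) hφ').trans hy0)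
    refine ⟨specPreimage A y, ?_⟩
    rw [specMap_specPreimage]
    ext1
    change (x'' ≫ Z.isoSpec.hom) ≫ Z.isoSpec.inv ≫ i ≫ U.ι = x.left
    rw [Category.assoc, Iso.hom_inv_id_assoc, ← Category.assoc, hx'', hx']

end K771.NilNb
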