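import Groth.Agent.GaDual.K771.NilKer
import Groth.Agent.TateLoc.K809.CechDict

/-!
# Čech exactness of the kernel of reduction modulo a nilpotent ideal

`exists_prim_nil`: for a smooth commutative group scheme `𝒢` over `Spec A`, `A → A'` faithfully flat and a nilpotent ideal
`I` of `A`, a Čech cocycle of points of `𝒢` which is trivial modulo `I` is the coboundary of a cochain trivial modulo `I`.
-/

set_option autoImplicit false

universe u

open CategoryTheory AlgebraicGeometry Limits MonObj TensorProduct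
open Groth.Agent.Books.AffBridge K809.CechAlg K809.CechDict
open K809.KerGrp hiding sg

noncomputable section

namespace K771.NilNb

variable {A : Type u} [CommRing A]

/-- `S → S/IS` -/
abbrev κ (I : Ideal A) (S : Type u) [CommRing S] [Algebra A S] : S →ₐ[A] (A ⧸ I) ⊗[A] S :=
  Algebra.TensorProduct.includeRight

/-- `S/IS → S/I'S` -/
abbrev fI {I I' : Ideal A} (h : I ≤ I') (S : Type u) [CommRing S] [Algebra A S] :
    (A ⧸ I) ⊗[A] S →ₐ[A] (A ⧸ I') ⊗[A] S :=
  Algebra.TensorProduct.map (Ideal.Quotient.factorₐ A h) (AlgHom.id A S)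

/-- `S/IS → S'/IS'` -/
abbrev gI (I : Ideal A) {S S' : Type u} [CommRing S] [Algebra A S] [CommRing S'] [Algebra A S'] (g : S →ₐ[A] S') :
    (A ⧸ I) ⊗[A] S →ₐ[A] (A ⧸ I) ⊗[A] S' :=
  Algebra.TensorProduct.map (AlgHom.id A (A ⧸ I)) g

section

variable {S S' : Type u} [CommRing S] [Algebra A S] [CommRing S'] [Algebra A S']

lemma fI_κ {I I' : Ideal A} (h : I ≤ I') : (fI h S).comp (κ I S) = κ I' S := by
  ext s
  change Algebra.TensorProduct.map (Ideal.Quotient.factorₐ A h) (AlgHom.id A S) (1 ⊗ₜ s) = 1 ⊗ₜ s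
  rw [Algebra.TensorProduct.map_tmul, map_one]
  rfl

lemma gI_κ (I : Ideal A) (g : S →ₐ[A] S') : (gI I g).comp (κ I S) = (κ I S').comp g := by
  ext s
  change Algebra.TensorProduct.map (AlgHom.id A (A ⧸ I)) g (1 ⊗ₜ s) = 1 ⊗ₜ g s
  rw [Algebra.TensorProduct.map_tmul, map_one]

lemma gI_fI {I I' : Ideal A} (h : I ≤ I') (g : S →ₐ[A] S') : (gI I' g).comp (fI h S) = (fI h S').comp (gI I g) := by
  refine Algebra.TensorProduct.ext' fun a s => ?_
  change Algebra.TensorProduct.map _ _ (Algebra.TensorProduct.map _ _ (a ⊗ₜ s)) =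
    Algebra.TensorProduct.map _ _ (Algebra.TensorProduct.map _ _ (a ⊗ₜ s))
  rw [Algebra.TensorProduct.map_tmul, Algebra.TensorProduct.map_tmul, Algebra.TensorProduct.map_tmul,
    Algebra.TensorProduct.map_tmul]
  rfl

lemma κ_surjective (I : Ideal A) : Function.Surjective (κ I S) := by
  intro z
  induction z with
  | zero => exact ⟨0, map_zero _⟩
  | tmul a s =>
    obtain ⟨a, rfl⟩ := Ideal.Quotient.mk_surjective a
    refine ⟨a • s, ?_⟩
    change (1 : A ⧸ I) ⊗ₜ[A] (a • s) = _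
    rw [← TensorProduct.smul_tmul, Algebra.smul_def, _root_.mul_one]
    rfl
  | add x y hx hy =>
    obtain ⟨a, rfl⟩ := hx
    obtain ⟨b, rfl⟩ := hy
    exact ⟨a + b, map_add _ _ _⟩

lemma fI_surjective {I I' : Ideal A} (h : I ≤ I') : Function.Surjective (fI h S) := by
  intro z
  obtain ⟨s, rfl⟩ := κ_surjective I' z
  exact ⟨κ I S s, DFunLike.congr_fun (fI_κ h) s⟩

/-- The kernel of `S/I^{m+1}S → S/I^mS` has square zero. -/
lemma sq_fI (I : Ideal A) (m : ℕ) (hm : 0 < m) (x y : (A ⧸ I ^ (m + 1)) ⊗[A] S)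
    (hx : fI (Ideal.pow_le_pow_right (Nat.le_succ m)) S x = 0) (hy : fI (Ideal.pow_le_pow_right (Nat.le_succ m)) S y = 0) :
    x * y = 0 := by
  let f : A ⧸ I ^ (m + 1) →ₐ[A] A ⧸ I ^ m := Ideal.Quotient.factorₐ A (Ideal.pow_le_pow_right (Nat.le_succ m))
  have hf : Function.Surjective f := Ideal.Quotient.factor_surjective (Ideal.pow_le_pow_right (Nat.le_succ m))
  have hk := Algebra.TensorProduct.rTensor_ker (R := A) (S := A) (C := S) f hf
  have hx' : x ∈ (RingHom.ker f).map (Algebra.TensorProduct.includeLeft : A ⧸ I ^ (m + 1) →ₐ[A] _) := by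
    rw [← hk]; exact hx
  have hy' : y ∈ (RingHom.ker f).map (Algebra.TensorProduct.includeLeft : A ⧸ I ^ (m + 1) →ₐ[A] _) := by
    rw [← hk]; exact hy
  have h0 : RingHom.ker f * RingHom.ker f = ⊥ := by
    rw [← le_bot_iff, Ideal.mul_le]
    intro a ha b hb
    obtain ⟨a, rfl⟩ := Ideal.Quotient.mk_surjective a
    obtain ⟨b, rfl⟩ := Ideal.Quotient.mk_surjective b
    have ha' : a ∈ I ^ m := Ideal.Quotient.eq_zero_iff_mem.1 ha
    have hb' : b ∈ I ^ m := Ideal.Quotient.eq_zero_iff_mem.1 hb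
    rw [Ideal.mem_bot, ← map_mul, Ideal.Quotient.eq_zero_iff_mem]
    have h1 : a * b ∈ I ^ (m + m) := by
      rw [pow_add]; exact Ideal.mul_mem_mul ha' hb'
    exact Ideal.pow_le_pow_right (by omega) h1
  have h1 := Ideal.mul_mem_mul hx' hy'
  rw [← Ideal.map_mul, h0, Ideal.map_bot, Ideal.mem_bot] at h1
  exact h1

end

variable {A' : Type u} [CommRing A'] [Algebra A A']

instance flat_P [Module.Flat A A'] (n : ℕ) : Module.Flat A (P A A' n) := by
  induction n with
  | zero => exact inferInstanceAs (Module.Flat A A)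
  | succ n ih => exact inferInstanceAs (Module.Flat A (A' ⊗[A] P A A' n))

lemma lin_gI (I : Ideal A) {S S' : Type u} [CommRing S] [Algebra A S] [CommRing S'] [Algebra A S'] {q : Type*} [Fintype q]
    (s : q → ℤ) (g : q → (S →ₐ[A] S')) :
    lin s (fun i => gI I (g i)) = LinearMap.lTensor (A ⧸ I) (lin s g) := by
  refine TensorProduct.ext' fun a x => ?_
  rw [lin_apply, LinearMap.lTensor_tmul, lin_apply, TensorProduct.tmul_sum]
  refine Finset.sum_congr rfl fun i _ => ?_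
  rw [TensorProduct.tmul_smul]
  rfl

/-- Exactness of the graded pieces. -/
lemma hexJ [Module.FaithfullyFlat A A'] (n : ℕ) {I I' : Ideal A} (h : I ≤ I') (z : (A ⧸ I) ⊗[A] P A A' (n + 2))
    (hz : fI h (P A A' (n + 2)) z = 0) (hz' : lin (sg (n + 3)) (fun i => gI I (δ A A' (n + 2) i)) z = 0) :
    ∃ y, fI h (P A A' (n + 1)) y = 0 ∧ lin (sg (n + 2)) (fun i => gI I (δ A A' (n + 1) i)) y = z := by
  rw [lin_gI] at hz'
  rw [lin_gI]
  let f : (A ⧸ I) →ₗ[A] (A ⧸ I') := (Ideal.Quotient.factorₐ A h).toLinearMap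
  have hf : Function.Surjective f := Ideal.Quotient.factor_surjective h
  let M := LinearMap.ker f
  let j : M →ₗ[A] (A ⧸ I) := M.subtype
  have hex0 : Function.Exact j f := LinearMap.exact_subtype_ker_map f
  have hex1 : Function.Exact (LinearMap.rTensor (P A A' (n + 2)) j) (LinearMap.rTensor (P A A' (n + 2)) f) :=
    rTensor_exact _ hex0 hf
  obtain ⟨w, rfl⟩ := (hex1 z).1 hz
  have hinj : Function.Injective (LinearMap.rTensor (P A A' (n + 3)) j) :=
    Module.Flat.rTensor_preserves_injective_linearMap j M.injective_subtype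
  have hw : LinearMap.lTensor M (lin (sg (n + 3)) (δ A A' (n + 2))) w = 0 := by
    apply hinj
    rw [map_zero, ← hz']
    change (LinearMap.rTensor _ j ∘ₗ LinearMap.lTensor M _) w = (LinearMap.lTensor _ _ ∘ₗ LinearMap.rTensor _ j) w
    rw [LinearMap.rTensor_comp_lTensor, LinearMap.lTensor_comp_rTensor]
  obtain ⟨v, rfl⟩ := hex n M w hw
  refine ⟨LinearMap.rTensor _ j v, ?_, ?_⟩
  · have hex2 : Function.Exact (LinearMap.rTensor (P A A' (n + 1)) j) (LinearMap.rTensor (P A A' (n + 1)) f) :=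
      rTensor_exact _ hex0 hf
    exact (hex2 _).2 ⟨v, rfl⟩
  · change (LinearMap.lTensor _ _ ∘ₗ LinearMap.rTensor _ j) v = (LinearMap.rTensor _ j ∘ₗ LinearMap.lTensor M _) v
    rw [LinearMap.rTensor_comp_lTensor, LinearMap.lTensor_comp_rTensor]

variable {𝒢 : Over (Spec (CommRingCat.of A))} [GrpObj 𝒢]

lemma res_fI {S : Type u} [CommRing S] [Algebra A S] {I I' : Ideal A} (h : I ≤ I') (x : Pt 𝒢 S)
    (hx : res (κ I S) x = 0) : res (κ I' S) x = 0 := by
  rw [← fI_κ h, ← res_comp, hx, map_zero]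

lemma res_κ_nat {S S' : Type u} [CommRing S] [Algebra A S] [CommRing S'] [Algebra A S'] (I : Ideal A) (g : S →ₐ[A] S')
    (x : Pt 𝒢 S) : res (κ I S') (res g x) = res (gI I g) (res (κ I S) x) := by
  rw [res_comp, res_comp, gI_κ]

lemma eq_zero_of_κ {S : Type u} [CommRing S] [Algebra A S] {I : Ideal A} (hI : I = ⊥) (x : Pt 𝒢 S)
    (hx : res (κ I S) x = 0) : x = 0 := by
  let r : (A ⧸ I) ⊗[A] S →ₐ[A] S := Algebra.TensorProduct.lift
    ((Algebra.ofId A S).comp (Ideal.Quotient.liftₐ I (AlgHom.id A A) (fun a ha => by rw [hI, Ideal.mem_bot] at ha; exact ha)))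
    (AlgHom.id A S) (fun _ _ => .all _ _)
  have hr : r.comp (κ I S) = AlgHom.id A S := by
    ext s
    change r (1 ⊗ₜ s) = s
    rw [Algebra.TensorProduct.lift_tmul, map_one, _root_.one_mul]
    rfl
  have h1 : res (AlgHom.id A S) x = res r (res (κ I S) x) := by rw [res_comp, hr]
  rw [hx, map_zero, res_id] at h1
  exact h1

lemma ker_κ (I : Ideal A) (S : Type u) [CommRing S] [Algebra A S] : RingHom.ker (κ I S) = I.map (algebraMap A S) := by
  apply le_antisymm
  · intro s hs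
    let J := I.map (algebraMap A S)
    let r : (A ⧸ I) ⊗[A] S →ₐ[A] S ⧸ J := Algebra.TensorProduct.lift
      (Ideal.Quotient.liftₐ I (Algebra.ofId A (S ⧸ J)) (fun a ha =>
        Ideal.Quotient.eq_zero_iff_mem.2 (Ideal.mem_map_of_mem (algebraMap A S) ha)))
      (Ideal.Quotient.mkₐ A J) (fun _ _ => .all _ _)
    have h1 : r (1 ⊗ₜ s) = Ideal.Quotient.mk J s := by
      rw [Algebra.TensorProduct.lift_tmul, map_one, _root_.one_mul]
      rfl
    have h2 : (1 : A ⧸ I) ⊗ₜ[A] s = 0 := hs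
    rw [h2, map_zero] at h1
    exact Ideal.Quotient.eq_zero_iff_mem.1 h1.symm
  · rw [Ideal.map_le_iff_le_comap]
    intro a ha
    change (1 : A ⧸ I) ⊗ₜ[A] (algebraMap A S a) = 0
    rw [Algebra.algebraMap_eq_smul_one, ← TensorProduct.smul_tmul, Algebra.smul_def, _root_.mul_one]
    have : algebraMap A (A ⧸ I) a = 0 := Ideal.Quotient.eq_zero_iff_mem.2 ha
    rw [this, TensorProduct.zero_tmul]

variable [IsCommMonObj 𝒢]

/-- One step of the approximation. -/
theorem prim_step (hfs : FS 𝒢) [Module.FaithfullyFlat A A'] (I : Ideal A) {N : ℕ} (hN : I ^ N = ⊥) (m : ℕ) (hm : 0 < m)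
    (n : ℕ) (w : Pt 𝒢 (P A A' (n + 2))) (hw : res (κ (I ^ m) _) w = 0)
    (hdw : ∑ i, sg (n + 3) i • res (δ A A' (n + 2) i) w = 0) :
    ∃ b : Pt 𝒢 (P A A' (n + 1)), res (κ (I ^ m) _) b = 0 ∧
      res (κ (I ^ (m + 1)) _) (w - ∑ i, sg (n + 2) i • res (δ A A' (n + 1) i) b) = 0 := by
  have h : I ^ (m + 1) ≤ I ^ m := Ideal.pow_le_pow_right (Nat.le_succ m)
  have hmem : ∀ {S S' : Type u} [CommRing S] [Algebra A S] [CommRing S'] [Algebra A S'] (g : S →ₐ[A] S'),
      ∀ x ∈ RingHom.ker (fI h S), gI (I ^ (m + 1)) g x ∈ RingHom.ker (fI h S') := by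
    intro S S' _ _ _ _ g x hx
    have h1 : fI h S' (gI (I ^ (m + 1)) g x) = gI (I ^ m) g (fI h S x) := (DFunLike.congr_fun (gI_fI h g) x).symm
    change fI h S' (gI (I ^ (m + 1)) g x) = 0
    rw [h1, show fI h S x = 0 from hx, map_zero]
  obtain ⟨c, hc1, hc2⟩ := exists_primitive hfs (sg (n + 2)) (fun i => gI (I ^ (m + 1)) (δ A A' (n + 1) i))
    (J₁ := RingHom.ker (fI h (P A A' (n + 1)))) (J₂ := RingHom.ker (fI h (P A A' (n + 2))))
    (J₃ := RingHom.ker (fI h (P A A' (n + 3)))) (fun i => hmem _) (sg (n + 3))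
    (fun i => gI (I ^ (m + 1)) (δ A A' (n + 2) i)) (fun i => hmem _)
    (fun z hz hz' => hexJ n h z hz hz') (fun x hx y hy => sq_fI I m hm x y hx hy) (fun x hx y hy => sq_fI I m hm x y hx hy)
    (fun x hx y hy => sq_fI I m hm x y hx hy) (fI h (P A A' (n + 1))) (fun x hx => hx) (fI h (P A A' (n + 2)))
    (fI_surjective h) (fun x => Iff.rfl) (res (κ (I ^ (m + 1)) _) w) (by rw [res_comp, fI_κ, hw]) (by
      have h1 : ∑ i, sg (n + 3) i • res (gI (I ^ (m + 1)) (δ A A' (n + 2) i)) (res (κ (I ^ (m + 1)) _) w) =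
          res (κ (I ^ (m + 1)) _) (∑ i, sg (n + 3) i • res (δ A A' (n + 2) i) w) := by
        rw [map_sum]
        refine Finset.sum_congr rfl fun i _ => ?_
        rw [map_zsmul, res_κ_nat]
      rw [h1, hdw, map_zero])
  obtain ⟨b', hb'⟩ := hfs.nilp N (κ (I ^ (m + 1)) (P A A' (n + 1))) (κ_surjective _) (by
    rw [ker_κ, ← Ideal.map_pow, ← pow_mul, ← le_bot_iff]
    have h1 : I ^ ((m + 1) * (N + 1)) ≤ I ^ N := Ideal.pow_le_pow_right (by nlinarith)
    rw [hN] at h1
    exact (Ideal.map_mono h1).trans (le_of_eq Ideal.map_bot)) c.toMul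
  let b : Pt 𝒢 (P A A' (n + 1)) := Additive.ofMul b'
  have hb : res (κ (I ^ (m + 1)) _) b = c := hb'
  refine ⟨b, ?_, ?_⟩
  · rw [← fI_κ h, ← res_comp, hb, hc1]
  · rw [map_sub, ← hc2, sub_eq_zero, map_sum]
    refine Finset.sum_congr rfl fun i _ => ?_
    rw [map_zsmul, res_κ_nat, hb]

/-- **Čech exactness** of the points trivial modulo a nilpotent ideal. -/
theorem exists_prim_nil (hfs : FS 𝒢) [Module.FaithfullyFlat A A'] (I : Ideal A) {N : ℕ} (hN : I ^ N = ⊥) (n : ℕ)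
    (w : Pt 𝒢 (P A A' (n + 2))) (hw : res (κ I _) w = 0)
    (hdw : ∑ i, sg (n + 3) i • res (δ A A' (n + 2) i) w = 0) :
    ∃ b : Pt 𝒢 (P A A' (n + 1)), res (κ I _) b = 0 ∧ ∑ i, sg (n + 2) i • res (δ A A' (n + 1) i) b = w := by
  have key : ∀ m : ℕ, ∃ b : Pt 𝒢 (P A A' (n + 1)), res (κ I _) b = 0 ∧
      res (κ (I ^ (m + 1)) _) (w - ∑ i, sg (n + 2) i • res (δ A A' (n + 1) i) b) = 0 := by
    intro m
    induction m with
    | zero =>
      refine ⟨0, map_zero _, ?_⟩
      have h1 : ∑ i, sg (n + 2) i • res (δ A A' (n + 1) i) (0 : Pt 𝒢 (P A A' (n + 1))) = 0 :=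
        Finset.sum_eq_zero fun i _ => by rw [map_zero, smul_zero]
      rw [h1, sub_zero]
      exact res_fI (by rw [zero_add, pow_one]) w hw
    | succ m ih =>
      obtain ⟨b, hb1, hb2⟩ := ih
      have hcc : ∑ i, sg (n + 3) i • res (δ A A' (n + 2) i)
          (w - ∑ i, sg (n + 2) i • res (δ A A' (n + 1) i) b) = 0 := by
        have h1 : ∑ i, sg (n + 3) i • res (δ A A' (n + 2) i) (∑ i, sg (n + 2) i • res (δ A A' (n + 1) i) b) = 0 := by
          have h2 := sum_sum_zero A A' n (G := Pt 𝒢 (P A A' (n + 3))) (fun g => res g b)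
          rw [← h2]
          refine Finset.sum_congr rfl fun i _ => ?_
          congr 1
          rw [map_sum]
          refine Finset.sum_congr rfl fun i' _ => ?_
          rw [map_zsmul, res_comp]
        have h3 : ∑ i, sg (n + 3) i • res (δ A A' (n + 2) i) (w - ∑ i, sg (n + 2) i • res (δ A A' (n + 1) i) b) =
            ∑ i, sg (n + 3) i • res (δ A A' (n + 2) i) w -
            ∑ i, sg (n + 3) i • res (δ A A' (n + 2) i) (∑ i, sg (n + 2) i • res (δ A A' (n + 1) i) b) := by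
          rw [← Finset.sum_sub_distrib]
          refine Finset.sum_congr rfl fun i _ => ?_
          rw [map_sub, smul_sub]
        rw [h3, hdw, h1, sub_zero]
      obtain ⟨b', hb1', hb2'⟩ := prim_step hfs I hN (m + 1) (Nat.succ_pos m) n _ hb2 hcc
      refine ⟨b + b', ?_, ?_⟩
      · rw [map_add, hb1, res_fI (Ideal.pow_le_self (Nat.succ_ne_zero m)) b' hb1', add_zero]
      · have h4 : w - ∑ i, sg (n + 2) i • res (δ A A' (n + 1) i) (b + b') =
            w - ∑ i, sg (n + 2) i • res (δ A A' (n + 1) i) b - ∑ i, sg (n + 2) i • res (δ A A' (n + 1) i) b' := by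
          rw [sub_sub, ← Finset.sum_add_distrib]
          congr 1
          refine Finset.sum_congr rfl fun i _ => ?_
          rw [map_add, smul_add]
        rw [h4]
        exact hb2'
  obtain ⟨b, hb1, hb2⟩ := key N
  refine ⟨b, hb1, ?_⟩
  have h1 : I ^ (N + 1) = ⊥ := by rw [pow_succ, hN, Ideal.bot_mul]
  exact (sub_eq_zero.1 (eq_zero_of_κ h1 _ hb2)).symm

end K771.NilNb
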