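import Groth.Agent.GaDual.K771.PerfPt
import Groth.Agent.Etrest.FppfExact
import Groth.Agent.Etdl.H432.Sec
import Groth.Agent.S0779

/-!
# Over a perfect field, fppf cohomology of any abelian sheaf is etale cohomology of its restriction

* `epi_aPush`: restriction to the small etale site of a perfect field preserves epimorphisms.
* `hEquiv`: `H^n_et(k, a_* F) ≃+ H^n_fppf(k, F)` for every abelian sheaf `F` on the big fppf site.
-/

set_option autoImplicit false
universe u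
open CategoryTheory CategoryTheory.Limits AlgebraicGeometry Opposite

noncomputable section

namespace K771.PerfRes

open Groth.Agent.Etdl.H432.Sec Groth.Agent

variable (k : Type u) [Field k] [PerfectField k]

local notation "𝕊" => Spec (CommRingCat.of k)

instance aCont : EtFppf.ACont 𝕊 := Groth.Agent.S0779.result _

theorem epi_aPush {F G : EtFppf.AbF 𝕊} (φ : F ⟶ G) [Epi φ] : Epi ((EtFppf.aPush 𝕊).map φ) := by
  have h : Sheaf.IsLocallySurjective φ := (Sheaf.isLocallySurjective_iff_epi' _ φ).mpr inferInstance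
  apply (Sheaf.isLocallySurjective_iff_epi' _ _).mp
  constructor
  intro U s
  have hR := Presheaf.imageSieve_mem (EtFppf.J 𝕊) φ.hom (U := op ((EtFppf.a 𝕊).obj U)) s
  rw [EtpbcA.OverSite.mem_smallEtale_iff]
  intro x
  obtain ⟨Y, g, hg, hf, hlfp, hx⟩ := (Etrest.BigEtSite.mem_J_iff.1 hR) x
  have hUe : Etale U.hom := U.prop
  let g₀ : Y.left ⟶ U.left := g.left
  have hlft : LocallyOfFiniteType g₀ := inferInstanceAs (LocallyOfFiniteType g.left)
  obtain ⟨W, w, hw, w₀, hw₀⟩ := PerfPt.exists_etale U.hom g₀ x hx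
  let W' : Scheme.Etale 𝕊 := MorphismProperty.Over.mk ⊤ (w ≫ g₀ ≫ U.hom) hw
  let q : W' ⟶ U := MorphismProperty.Over.homMk (w ≫ g₀) (Category.assoc _ _ _)
  refine ⟨W', q, w₀, ?_, hw₀⟩
  have hwY : w ≫ Y.hom = w ≫ g₀ ≫ U.hom := by
    have := Over.w g
    rw [← this]
    rfl
  let w' : (EtFppf.a 𝕊).obj W' ⟶ Y := Over.homMk w hwY
  have e : (EtFppf.a 𝕊).map q = w' ≫ g := by ext1; rfl
  obtain ⟨a, ha⟩ := hg
  refine ⟨F.obj.map w'.op a, ?_⟩
  change φ.hom.app _ (F.obj.map w'.op a) = G.obj.map ((EtFppf.a 𝕊).map q).op s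
  rw [e, op_comp, G.obj.map_comp]
  have h1 := ConcreteCategory.congr_hom (φ.hom.naturality w'.op) a
  refine h1.trans ?_
  exact congrArg (G.obj.map w'.op) ha

theorem isZero_rightDerived (F : EtFppf.AbF 𝕊) (q : ℕ) (hq : 0 < q) :
    IsZero (((EtFppf.aPush 𝕊).rightDerived q).obj F) := by
  have := Etrest.FppfExact.aPull_preservesFiniteLimits 𝕊
  refine Etrest.RAcyc.isZero_rightDerived_of_class (EtFppf.aPush 𝕊) (fun _ => True) (fun S hS _ _ => ⟨trivial, ?_⟩)
    trivial q hq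
  have := hS.epi_g
  exact epi_aPush k S.g

/-- Over a perfect field fppf cohomology is the étale cohomology of the restriction to the small étale site. -/
theorem nonempty_hEquiv (F : EtFppf.AbF 𝕊) (q : ℕ) :
    Nonempty (EtCoh.H 𝕊 ((EtFppf.aPush 𝕊).obj F) q ≃+ EtFppf.HF 𝕊 F q) := by
  obtain ⟨e⟩ := Etrest.RAcyc.nonempty_extAddEquiv (EtFppf.aAdj 𝕊)
    (Etrest.FppfExact.aPush_injective 𝕊) (G := F) (isZero_rightDerived k F)
    ((constantSheaf (Scheme.smallEtaleTopology 𝕊) AddCommGrpCat.{u + 1}).obj (AddCommGrpCat.of (ULift ℤ))) q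
  have e2 : Abelian.Ext ((EtFppf.aPull 𝕊).obj ((constantSheaf (Scheme.smallEtaleTopology 𝕊) AddCommGrpCat.{u + 1}).obj
      (AddCommGrpCat.of (ULift ℤ)))) F q ≃+ EtFppf.HF 𝕊 F q :=
    (((Abelian.extFunctor q).mapIso
      (Etrest.FppfExact.constIso 𝕊 (AddCommGrpCat.of (ULift ℤ))).symm.op).app F).addCommGroupIsoToAddEquiv
  exact ⟨e.trans e2⟩

theorem subsingleton_of_isZero (F : EtFppf.AbF 𝕊) (h : IsZero ((EtFppf.aPush 𝕊).obj F)) (q : ℕ) :
    Subsingleton (EtFppf.HF 𝕊 F q) := by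
  obtain ⟨e⟩ := nonempty_hEquiv k F q
  have : Subsingleton (EtCoh.H 𝕊 ((EtFppf.aPush 𝕊).obj F) q) := by
    change Subsingleton (Abelian.Ext _ _ q)
    refine ⟨fun a b => ?_⟩
    have h1 : ∀ c : Abelian.Ext ((constantSheaf (Scheme.smallEtaleTopology 𝕊) AddCommGrpCat.{u + 1}).obj
        (AddCommGrpCat.of (ULift ℤ))) ((EtFppf.aPush 𝕊).obj F) q, c = 0 := fun c => by
      rw [← c.comp_mk₀_id, (IsZero.iff_id_eq_zero _).1 h, Abelian.Ext.mk₀_zero, Abelian.Ext.comp_zero]
    rw [h1 a, h1 b]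
  exact e.symm.toEquiv.subsingleton

end K771.PerfRes
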