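import Groth.Agent.GaDual.K771.RedZero
import Groth.Agent.GaDual.K771.PerfRes
import Groth.Agent.AlgSp.K619.EtField

/-!
# Cohomology of the dual of `G_a` over a perfect field vanishes in all degrees
-/

set_option autoImplicit false
universe u
open CategoryTheory CategoryTheory.Limits AlgebraicGeometry Opposite Polynomial

noncomputable section

namespace K771.PerfGad

open Groth.Agent.Etdl.H432.Sec K771.Char K771.PerfRes

variable (k : Type u) [Field k] [PerfectField k]

theorem isZero_aPush_gad : IsZero ((EtFppf.aPush (Spec (CommRingCat.of k))).obj (Gad (Spec (CommRingCat.of k)))) := by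
  rw [IsZero.iff_id_eq_zero]
  apply Sheaf.hom_ext
  ext U s
  have : Etale U.unop.hom := U.unop.prop
  have : IsReduced U.unop.left := K619.EtField.isReduced_of_etale U.unop.hom
  have : IsReduced ((EtFppf.a (Spec (CommRingCat.of k))).obj U.unop).left := this
  exact RedZero.gad_eq_zero (T := (EtFppf.a (Spec (CommRingCat.of k))).obj U.unop) s

theorem subsingleton (i : ℕ) : Subsingleton (EtFppf.HF (Spec (CommRingCat.of k)) (Gad (Spec (CommRingCat.of k))) i) :=
  subsingleton_of_isZero k _ (isZero_aPush_gad k) i

end K771.PerfGad
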