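import Groth.Agent.Dix.PointSite
import Groth.Agent.EtpbcA.OverSite
import Groth.Prelude.Def_EtFppf
import Mathlib

/-!
# Over a perfect field, fppf covers of etale schemes have etale sections

`exists_etale`: `U` etale over a perfect field, `Y ⟶ U` locally of finite type hitting `x`; there is an
etale `W` with a morphism to `Y` whose image in `U` contains `x`.
-/

set_option autoImplicit false
universe u
open CategoryTheory CategoryTheory.Limits AlgebraicGeometry Opposite

namespace K771.PerfPt

theorem etale_of_locallyOfFiniteType (k L : Type u) [Field k] [PerfectField k] [Field L] [Algebra k L]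
    [Algebra.FiniteType k L] : Etale (Spec.map (CommRingCat.ofHom (algebraMap k L))) := by
  have h1 : Module.Finite k L := finite_of_finite_type_of_isJacobsonRing k L
  have h2 : Algebra.IsSeparable k L := inferInstance
  have h3 : Algebra.FormallyEtale k L := Algebra.FormallyEtale.of_isSeparable k L
  have h5 : Algebra.FinitePresentation k L := Algebra.FinitePresentation.of_finiteType.1 inferInstance
  have h4 : Algebra.Etale k L := ⟨h3, h5⟩
  rw [HasRingHomProperty.Spec_iff (P := @Etale)]
  exact (RingHom.etale_algebraMap (R := k) (S := L)).2 h4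

theorem etale_of_field {k : Type u} [Field k] [PerfectField k] {L : CommRingCat.{u}} (hL : IsField L)
    (p : Spec L ⟶ Spec (CommRingCat.of k)) [LocallyOfFiniteType p] : Etale p := by
  obtain ⟨φ, rfl⟩ := Spec.map_surjective p
  let := hL.toField
  let : Algebra k L := φ.hom.toAlgebra
  have h1 : φ.hom.FiniteType := (HasRingHomProperty.Spec_iff (P := @LocallyOfFiniteType)).1 ‹_›
  have : Algebra.FiniteType k L := h1
  exact etale_of_locallyOfFiniteType k L

theorem exists_etale_pt {k : Type u} [Field k] [PerfectField k] {Y : Scheme.{u}} [Nonempty Y]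
    (p : Y ⟶ Spec (CommRingCat.of k)) [LocallyOfFiniteType p] :
    ∃ (W : Scheme.{u}) (w : W ⟶ Y), Nonempty W ∧ Etale (w ≫ p) := by
  have : JacobsonSpace Y := LocallyOfFiniteType.jacobsonSpace p
  obtain ⟨y, -, hy⟩ := (jacobsonSpace_iff_locallyClosed.1 ‹_›) (Set.univ : Set Y) Set.univ_nonempty
    isOpen_univ.isLocallyClosed
  have : LocallyOfFiniteType (Y.fromSpecResidueField y) := isClosed_singleton_iff_locallyOfFiniteType.1 hy
  exact ⟨_, Y.fromSpecResidueField y, inferInstance, etale_of_field (Field.toIsField (Y.residueField y)) _⟩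

/-- Over a perfect field, a point of an etale scheme in the image of `Y` is in the image of an etale scheme
mapping to `Y`. -/
theorem exists_etale {k : Type u} [Field k] [PerfectField k] {U Y : Scheme.{u}}
    (p : U ⟶ Spec (CommRingCat.of k)) [Etale p] (g : Y ⟶ U) [LocallyOfFiniteType g] (x : U) (hx : x ∈ Set.range g) :
    ∃ (W : Scheme.{u}) (w : W ⟶ Y), Etale (w ≫ g ≫ p) ∧ x ∈ Set.range (w ≫ g) := by
  have := Groth.Agent.Dix.PointSite.discreteTopology_of_etale p
  let V : U.Opens := ⟨{x}, isOpen_discrete _⟩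
  obtain ⟨y, hy⟩ := hx
  have : Nonempty (g ⁻¹ᵁ V : Y.Opens) := ⟨⟨y, hy⟩⟩
  obtain ⟨W, w, ⟨w₀⟩, hw⟩ := exists_etale_pt ((g ⁻¹ᵁ V).ι ≫ g ≫ p)
  refine ⟨W, w ≫ (g ⁻¹ᵁ V).ι, by simpa using hw, w₀, ?_⟩
  have h1 : g ((g ⁻¹ᵁ V).ι (w w₀)) = x := (w w₀).2
  exact h1

end K771.PerfPt
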