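import Groth.Agent.GaDual.K771.PicUfd
import Mathlib.Algebra.Polynomial.Eval.Coeff

/-!
# Trivial Picard group of affine schemes whose ring is a finite product of factorial domains
-/

set_option autoImplicit false
universe u
open CategoryTheory CategoryTheory.Limits AlgebraicGeometry Opposite TopologicalSpace

noncomputable section

namespace K771.PicProd

open Groth.Agent.CurvesA.UfdFrac Groth.Agent.CurvesA.UfdStalk Groth.Agent.Ega4dA.GenSec
open Groth.Agent.CurvesA.UfdExtend

theorem isInvertible_restrict {X Y : Scheme.{u}} (f : X ⟶ Y) [IsOpenImmersion f] (L : Y.Modules)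
    (hL : PicF.IsInvertible L) : PicF.IsInvertible (L.restrict f) := by
  rw [isInvertible_iff] at hL ⊢
  intro x
  obtain ⟨U, hU, s, hs⟩ := hL (f x)
  have h1 : f ''ᵁ (f ⁻¹ᵁ U) ≤ U := by
    rintro _ ⟨y, hy, rfl⟩
    exact hy
  refine ⟨f ⁻¹ᵁ U, hU, (show Γ(L.restrict f, f ⁻¹ᵁ U) from res L h1 s), ?_⟩
  rw [isGen_restrict_iff]
  exact hs.mono h1

/-- Invertible modules are trivial if they are on the members of a partition into open subschemes. -/
theorem trivial_of_disjoint (Y : Scheme.{u}) {ι : Type*} (V : ι → Y.Opens) (hcov : ⊤ ≤ iSup V)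
    (hdisj : ∀ i j, i ≠ j → V i ⊓ V j = ⊥)
    (hV : ∀ i, ∀ L : (V i).toScheme.Modules, PicF.IsInvertible L → Nonempty (L ≅ Coh.structureModule (V i).toScheme))
    (L : Y.Modules) (hL : PicF.IsInvertible L) : Nonempty (L ≅ Coh.structureModule Y) := by
  rw [nonempty_iso_iff]
  have h1 : ∀ i, ∃ s : Γ(L, V i), IsGen L (V i) s := fun i => by
    obtain ⟨e⟩ := hV i _ (isInvertible_restrict (V i).ι L hL)
    obtain ⟨s, hs⟩ := exists_isGen_of_iso e
    rw [isGen_restrict_iff] at hs
    have h2 : V i ≤ (V i).ι ''ᵁ ⊤ := by simp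
    exact ⟨_, hs.mono h2⟩
  choose s hs using h1
  obtain ⟨t, ht⟩ := exists_glue (L := L) (U := ⊤) V (fun i => le_top) hcov s (fun i j => by
    by_cases hij : i = j
    · subst hij
      rfl
    · refine eq_of_locally L fun x hx => ?_
      rw [hdisj i j hij] at hx
      exact hx.elim)
  refine ⟨t, (isGen_iff_of_iSup V (fun i => le_top) hcov).2 fun i => ?_⟩
  rw [ht]
  exact hs i

theorem pic_prod (Y : Scheme.{u}) [IsAffine Y] {ι : Type*} [Finite ι] (E : ι → Type u) [∀ i, CommRing (E i)]
    [∀ i, IsDomain (E i)] [∀ i, UniqueFactorizationMonoid (E i)] (φ : Γ(Y, ⊤) ≃+* ∀ i, E i) (L : Y.Modules)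
    (hL : PicF.IsInvertible L) : Nonempty (L ≅ Coh.structureModule Y) := by
  classical
  have := Fintype.ofFinite ι
  let ε : ι → Γ(Y, ⊤) := fun i => φ.symm (Pi.single i 1)
  have hε : ∀ i, φ (ε i) = Pi.single i 1 := fun i => φ.apply_symm_apply _
  have hmul : ∀ i j, i ≠ j → ε i * ε j = 0 := fun i j hij => by
    apply φ.injective
    rw [map_mul, hε, hε, map_zero]
    funext k
    by_cases h : k = i
    · subst h
      simp [Pi.single_eq_of_ne hij]
    · simp [Pi.single_eq_of_ne h]
  have hid : ∀ i, IsIdempotentElem (ε i) := fun i => by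
    apply φ.injective
    rw [map_mul, hε]
    funext k
    by_cases h : k = i
    · subst h
      simp
    · simp [Pi.single_eq_of_ne h]
  have hsum : ∑ i, ε i = 1 := by
    apply φ.injective
    rw [map_sum, map_one]
    funext k
    simp [hε, Finset.sum_apply]
  refine trivial_of_disjoint Y (fun i => Y.basicOpen (ε i)) ?_ ?_ ?_ L hL
  · intro y _
    by_contra hy
    have h1 : ∀ i, y ∉ Y.basicOpen (ε i) := fun i hi => hy (Opens.mem_iSup.2 ⟨i, hi⟩)
    have h2 : y ∈ Y.basicOpen (1 : Γ(Y, ⊤)) := by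
      rw [Scheme.basicOpen_of_isUnit _ isUnit_one]
      trivial
    rw [← hsum, Scheme.mem_basicOpen_top] at h2
    have h3 : ∀ i, (Y.presheaf.Γgerm y).hom (ε i) ∈ IsLocalRing.maximalIdeal (Y.presheaf.stalk y) := fun i => by
      rw [IsLocalRing.mem_maximalIdeal, mem_nonunits_iff]
      intro h
      exact h1 i ((Scheme.mem_basicOpen_top _ _ _).2 h)
    have h4 : (Y.presheaf.Γgerm y).hom (∑ i, ε i) ∈ IsLocalRing.maximalIdeal (Y.presheaf.stalk y) := by
      rw [map_sum]
      exact Ideal.sum_mem _ fun i _ => h3 i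
    exact h4 h2
  · intro i j hij
    rw [← Scheme.basicOpen_mul, hmul i j hij, Scheme.basicOpen_zero]
  · intro i M hM
    let _ : Algebra Γ(Y, ⊤) (E i) := ((Pi.evalRingHom E i).comp φ.toRingHom).toAlgebra
    have hmap : ∀ x : Γ(Y, ⊤), algebraMap Γ(Y, ⊤) (E i) x = φ x i := fun x => rfl
    have h1 : IsLocalization.Away (ε i) (E i) := by
      refine IsLocalization.away_of_isIdempotentElem_of_mul (hid i) (fun x y => ?_) (fun x => ?_)
      · rw [hmap, hmap]
        constructor
        · intro h
          apply φ.injective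
          rw [map_mul, map_mul, hε]
          funext k
          by_cases hk : k = i
          · subst hk
            simp [h]
          · simp [Pi.single_eq_of_ne hk]
        · intro h
          have h2 := congrFun (congrArg φ h) i
          rw [map_mul, map_mul, hε] at h2
          simpa using h2
      · refine ⟨φ.symm (Pi.single i x), ?_⟩
        rw [hmap, φ.apply_symm_apply, Pi.single_eq_same]
    have h2 := (isAffineOpen_top Y).isLocalization_basicOpen (ε i)
    have h3 : IsAffine (Y.basicOpen (ε i)).toScheme := (isAffineOpen_top Y).basicOpen (ε i)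
    let ψ : Γ(Y, Y.basicOpen (ε i)) ≃+* E i :=
      (IsLocalization.algEquiv (Submonoid.powers (ε i)) Γ(Y, Y.basicOpen (ε i)) (E i)).toRingEquiv
    let ψ' : Γ((Y.basicOpen (ε i)).toScheme, ⊤) ≃+* E i :=
      (Y.basicOpen (ε i)).topIso.commRingCatIsoToRingEquiv.trans ψ
    have h4 : IsDomain Γ((Y.basicOpen (ε i)).toScheme, ⊤) := ψ'.toMulEquiv.isDomain _
    have h5 : UniqueFactorizationMonoid Γ((Y.basicOpen (ε i)).toScheme, ⊤) :=
      ψ'.symm.toMulEquiv.uniqueFactorizationMonoid inferInstance
    have h6 : Nonempty (Y.basicOpen (ε i)).toScheme := by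
      by_contra h
      rw [not_nonempty_iff] at h
      have : Subsingleton Γ((Y.basicOpen (ε i)).toScheme, ⊤) := inferInstance
      exact not_subsingleton _ this
    exact K771.PicUfd.pic_trivial _ M hM

end K771.PicProd
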