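import Groth.Agent.Picfga.LineCocycle
import Groth.Agent.FormalA.PicTrans491

/-!
# Zariski cocycles of units split when every invertible module is trivial
-/

set_option autoImplicit false
universe u
open CategoryTheory CategoryTheory.Limits AlgebraicGeometry TopologicalSpace Opposite

namespace K771.PicUnit

open Groth.Agent.Fdesc.LocGen Groth.Agent.Picfga.LineCocycle

variable {Y : Scheme.{u}} {ι : Type u} (U : ι → Y.Opens) (g : ∀ i j, Γ(Y, U i ⊓ U j))

theorem exists_unit (hPic : ∀ L : Y.Modules, PicF.IsInvertible L → Nonempty (L ≅ Coh.structureModule Y))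
    (hU : ∀ y : Y, ∃ i, y ∈ U i) (hg₁ : ∀ i, g i i = 1)
    (hg : ∀ i j k (T : Y.Opens) (hi : T ≤ U i) (hj : T ≤ U j) (hk : T ≤ U k),
      ores (le_inf hi hk) (g i k) = ores (le_inf hi hj) (g i j) * ores (le_inf hj hk) (g j k)) :
    ∃ v : ∀ i, Γ(Y, U i), (∀ i, IsUnit (v i)) ∧
      ∀ i j, ores inf_le_left (v i) = g i j * ores inf_le_right (v j) := by
  obtain ⟨L, e, he, hee⟩ := exists_of_cocycle U g hg₁ hg
  have hL : PicF.IsInvertible L := Groth.Agent.FormalA.PicTrans491.isInvertible_of_isGen (fun y => by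
    obtain ⟨i, hi⟩ := hU y
    exact ⟨U i, hi, e i, he i⟩)
  obtain ⟨φ⟩ := hPic L hL
  let v : ∀ i, Γ(Y, U i) := fun i => φ.hom.app (U i) (e i)
  have hv : ∀ i, Groth.Agent.CurvesC.Gen.IsGen (Coh.structureModule Y) (U i) (v i) := fun i =>
    Groth.Agent.FormalA.PicTrans491.isGen_of_iso φ (he i)
  refine ⟨v, fun i => ?_, fun i j => ?_⟩
  · obtain ⟨a, ha⟩ := (hv i (U i) le_rfl).2 (1 : Γ(Y, U i))
    have h1 : a * v i = 1 := by
      have h2 : ores (le_refl (U i)) (v i) = v i := ores_refl _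
      have h3 : a * ores (le_refl (U i)) (v i) = 1 := ha
      rwa [h2] at h3
    exact IsUnit.of_mul_eq_one _ ((mul_comm _ _).trans h1)
  · have h1 := congrArg (φ.hom.app (U i ⊓ U j)) (hee i j)
    have h2 : φ.hom.app (U i ⊓ U j) (res L inf_le_left (e i)) = ores inf_le_left (v i) :=
      congr($(φ.hom.mapPresheaf.naturality (homOfLE (inf_le_left : U i ⊓ U j ≤ U i)).op) (e i))
    have h3 : φ.hom.app (U i ⊓ U j) (res L inf_le_right (e j)) = ores inf_le_right (v j) :=
      congr($(φ.hom.mapPresheaf.naturality (homOfLE (inf_le_right : U i ⊓ U j ≤ U j)).op) (e j))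
    rw [Scheme.Modules.Hom.app_smul, h2, h3] at h1
    exact h1

end K771.PicUnit
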