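import Groth.Agent.GaDual.K771.RedPts

/-!
# Čech acyclicity of `ker (G(T) → G(T ×_X X₀))`
-/

set_option autoImplicit false

universe u

open CategoryTheory CategoryTheory.Limits AlgebraicGeometry Opposite TensorProduct MonObj
open Groth.Agent.Books.AffBridge K809.CechAlg K809.CechGeo K809.CechDict
open K809.KerGrp hiding sg
open Groth.Agent.Etrest.FppfCoch K828 K828.Cech K828.Cartan K828.FppfDisj
open K771.NilNb
open K771.RedCoh

noncomputable section

namespace K771.RedAcy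

variable {X X₀ : Scheme.{u}} (i : X₀ ⟶ X)

lemma isPullback_congr {C : Type*} [Category* C] {P Y Z W : C} {f f' : P ⟶ Y} {g : P ⟶ Z} {h : Y ⟶ W} {k k' : Z ⟶ W}
    (hf : f = f') (hk : k = k') (hp : IsPullback f' g h k') : IsPullback f g h k := by
  rw [hf, hk]
  exact hp

lemma isPullback_cc {U U' : Over X} (g : U' ⟶ U) : IsPullback ((Φ i).map g) (cc i U') (cc i U) g := by
  refine IsPullback.of_map (Over.forget X) (cc_nat i g) ?_
  have h1 : IsPullback (pullback.snd U.hom i) (cc i U).left i U.hom := by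
    rw [cc_left]
    exact (IsPullback.of_hasPullback U.hom i).flip
  have h2 : IsPullback (pullback.snd U'.hom i) (cc i U').left i U'.hom := by
    rw [cc_left]
    exact (IsPullback.of_hasPullback U'.hom i).flip
  refine IsPullback.of_right (h₁₂ := pullback.snd U.hom i) (h₂₂ := U.hom) (v₁₃ := i) ?_
    (congrArg CommaMorphism.left (cc_nat i g)) h1
  have h3 : ((Over.forget X).map ((Φ i).map g)) ≫ pullback.snd U.hom i = pullback.snd U'.hom i := by
    change pullback.lift _ _ _ ≫ pullback.snd U.hom i = _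
    exact pullback.lift_snd _ _ _
  have h4 : (Over.forget X).map g ≫ U.hom = U'.hom := Over.w g
  exact isPullback_congr h3 h4 h2

variable {A : Type u} [CommRing A] (f : Spec (CommRingCat.of A) ⟶ X)

theorem exists_ideal [IsClosedImmersion i] [Surjective i] : ∃ 𝔠 : Ideal A, (∀ a ∈ 𝔠, IsNilpotent a) ∧
    ∀ (S : Type u) [CommRing S] [Algebra A S],
      (∃ α : (Φ i).obj (sp f S) ⟶ sp f ((A ⧸ 𝔠) ⊗[A] S), α ≫ spm f (κ 𝔠 S) = cc i (sp f S)) ∧
      ∃ β : sp f ((A ⧸ 𝔠) ⊗[A] S) ⟶ (Φ i).obj (sp f S), β ≫ cc i (sp f S) = spm f (κ 𝔠 S) := by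
  let Z : Scheme.{u} := ((Φ i).obj (sp f A)).left
  let p₀ : Z ⟶ Spec (CommRingCat.of A) := (cc i (sp f A)).left
  have hp₀ : IsClosedImmersion p₀ := closedImmersion_cc i _
  have hp₁ : Surjective p₀ := surjective_cc i _
  obtain ⟨𝔠, e, he⟩ := IsClosedImmersion.Spec_iff.1 hp₀
  have hA : Spec.map (CommRingCat.ofHom (algebraMap A A)) = 𝟙 (Spec (CommRingCat.of A)) := by
    have : CommRingCat.ofHom (algebraMap A A) = 𝟙 _ := rfl
    rw [this, Spec.map_id]
  have hw : p₀ ≫ f = ((Φ i).obj (sp f A)).hom := by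
    have h1 := Over.w (cc i (sp f A))
    rw [← h1]
    change p₀ ≫ f = p₀ ≫ (Spec.map (CommRingCat.ofHom (algebraMap A A)) ≫ f)
    rw [hA, Category.id_comp]
  let α₀ : (Φ i).obj (sp f A) ⟶ sp f (A ⧸ 𝔠) := Over.homMk e.hom (by
    rw [← hw, he, Category.assoc]
    rfl)
  let β₀ : sp f (A ⧸ 𝔠) ⟶ (Φ i).obj (sp f A) := Over.homMk e.inv (by
    rw [← hw, he, Category.assoc]
    exact (e.inv_hom_id_assoc _).trans rfl)
  have hα₀ : α₀ ≫ spm f (Algebra.ofId A (A ⧸ 𝔠)) = cc i (sp f A) := by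
    ext : 1
    exact he.symm
  have hβ₀ : β₀ ≫ cc i (sp f A) = spm f (Algebra.ofId A (A ⧸ 𝔠)) := by
    ext : 1
    change e.inv ≫ p₀ = _
    rw [he, Iso.inv_hom_id_assoc]
    rfl
  refine ⟨𝔠, fun a ha => ?_, fun S _ _ => ⟨?_, ?_⟩⟩
  · rw [nilpotent_iff_mem_prime]
    intro J hJ
    obtain ⟨z, hz⟩ := hp₁.surj (⟨J, hJ⟩ : PrimeSpectrum A)
    have h1 : Spec.map (CommRingCat.ofHom (Ideal.Quotient.mk 𝔠)) (e.hom z) = (⟨J, hJ⟩ : PrimeSpectrum A) := by
      rw [← hz, he]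
      rfl
    have h2 : a ∈ (Spec.map (CommRingCat.ofHom (Ideal.Quotient.mk 𝔠)) (e.hom z) : PrimeSpectrum A).asIdeal := by
      change Ideal.Quotient.mk 𝔠 a ∈ (e.hom z : PrimeSpectrum (A ⧸ 𝔠)).asIdeal
      rw [Ideal.Quotient.eq_zero_iff_mem.2 ha]
      exact zero_mem _
    rw [h1] at h2
    exact h2
  · have hc : cc i (sp f S) ≫ spm f (Algebra.ofId A S) =
        ((Φ i).map (spm f (Algebra.ofId A S)) ≫ α₀) ≫ spm f (Algebra.ofId A (A ⧸ 𝔠)) := by
      rw [Category.assoc, hα₀, cc_nat]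
    exact ⟨(isPullback_sp f (A ⧸ 𝔠) S).lift _ _ hc, (isPullback_sp f (A ⧸ 𝔠) S).lift_fst _ _ hc⟩
  · have hc : (spm f (Algebra.TensorProduct.includeLeft : (A ⧸ 𝔠) →ₐ[A] (A ⧸ 𝔠) ⊗[A] S) ≫ β₀) ≫ cc i (sp f A) =
        spm f (κ 𝔠 S) ≫ spm f (Algebra.ofId A S) := by
      rw [Category.assoc, hβ₀]
      exact (isPullback_sp f (A ⧸ 𝔠) S).w.symm
    exact ⟨(isPullback_cc i (spm f (Algebra.ofId A S))).lift _ _ hc,
      (isPullback_cc i (spm f (Algebra.ofId A S))).lift_snd _ _ hc⟩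

section

variable {G : Over X} [GrpObj G] [IsCommMonObj G]

lemma map_cc_iff {𝔠 : Ideal A} {S : Type u} [CommRing S] [Algebra A S]
    (hα : ∃ α : (Φ i).obj (sp f S) ⟶ sp f ((A ⧸ 𝔠) ⊗[A] S), α ≫ spm f (κ 𝔠 S) = cc i (sp f S))
    (hβ : ∃ β : sp f ((A ⧸ 𝔠) ⊗[A] S) ⟶ (Φ i).obj (sp f S), β ≫ cc i (sp f S) = spm f (κ 𝔠 S))
    (x : Pt (Red.bc f G) S) :
    (CGrpSh.ptsPre G).map (cc i (sp f S)).op (θ f G S x) = 0 ↔ res (κ 𝔠 S) x = 0 := by
  constructor
  · intro h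
    obtain ⟨β, hβ⟩ := hβ
    apply (θ f G _).injective
    rw [map_zero, ← θ_res, ← hβ, ← K828.Cech.res_comp, h, map_zero]
  · intro h
    obtain ⟨α, hα⟩ := hα
    rw [← hα, ← K828.Cech.res_comp, θ_res, h, map_zero, map_zero]

variable [Smooth G.hom] [IsClosedImmersion i] [Surjective i] {A' : Type u} [CommRing A'] [Algebra A A']
  [Module.FaithfullyFlat A A']

theorem acy_sp {T' T : Over X} {p : T' ⟶ T} {e : sp f A ⟶ T} [IsIso e] {t : sp f A' ⟶ T'}
    (hT : IsPullback t (spm f (Algebra.ofId A A')) p e) (n : ℕ) (c : Fam (CGrpSh.ptsPre G) T T' (n + 1))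
    (hc : IsCoch p (𝟙 T) c) (hz : IsCocycle p (𝟙 T) c)
    (h0 : ∀ (W : Over X) (a : W ⟶ T) (x : Fin (n + 2) → (W ⟶ T')), Compat p (𝟙 T) a x →
      (CGrpSh.ptsPre G).map (cc i W).op (c W a x) = 0) :
    ∃ b : Fam (CGrpSh.ptsPre G) T T' n, IsCoch p (𝟙 T) b ∧ IsCob p (𝟙 T) b c ∧
      ∀ (W : Over X) (a : W ⟶ T) (x : Fin (n + 1) → (W ⟶ T')), Compat p (𝟙 T) a x →
        (CGrpSh.ptsPre G).map (cc i W).op (b W a x) = 0 := by
  obtain ⟨𝔠, h𝔠, hk⟩ := exists_ideal i f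
  let c₁ : Fam (CGrpSh.ptsPre G) (sp f A) T' (n + 1) := resF e c
  have hc₁ : IsCoch p e c₁ := by
    have := hc.res e
    rwa [Category.comp_id] at this
  have hz₁ : IsCocycle p e c₁ := by
    have := hz.res e
    rwa [Category.comp_id] at this
  let w : Pt (Red.bc f G) (P A A' (n + 2)) := (θ f G _).symm (c₁ _ (spm f (Algebra.ofId A (P A A' (n + 2))))
    (fun i => spm f (y A A' (n + 2) i) ≫ t))
  have hdw : ∑ i, sg (n + 3) i • res (δ A A' (n + 2) i) w = 0 := sum_res_eq_zero f G hT (n + 1) hc₁ hz₁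
  have hw0 : res (κ 𝔠 _) w = 0 := by
    refine (map_cc_iff i f (hk _).1 (hk _).2 w).1 ?_
    rw [AddEquiv.apply_symm_apply]
    refine h0 _ _ _ ?_
    have h1 := (isRep_P f hT (n + 2)).compat
    intro k
    rw [h1 k, Category.comp_id]
  have hsm : Smooth (Red.bc f G).hom := inferInstanceAs (Smooth (pullback.snd G.hom f))
  have hlft : LocallyOfFiniteType (Red.bc f G).hom := inferInstance
  obtain ⟨I, hI, hI', hx⟩ := exists_fg 𝔠 h𝔠 w.toMul hw0
  obtain ⟨N, hN⟩ : IsNilpotent I := (hI'.isNilpotent_iff_le_nilradical).2 (fun a ha => h𝔠 a (hI ha))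
  obtain ⟨b₀, hb1, hb2⟩ := exists_prim_nil (fs_of_smooth (Red.bc f G)) (A' := A') I hN n w hx hdw
  let R := (isRep_P f hT (n + 1)).rep
  let b₁ : Fam (CGrpSh.ptsPre G) (sp f A) T' n := ofSec R (θ f G _ b₀)
  have hb₁ : IsCoch p e b₁ := isCoch_ofSec R _
  have h1 : b₁ _ (spm f (Algebra.ofId A (P A A' (n + 1)))) (fun i => spm f (y A A' (n + 1) i) ≫ t) = θ f G _ b₀ := by
    have h2 : R.lift (spm f (Algebra.ofId A (P A A' (n + 1)))) (fun i => spm f (y A A' (n + 1) i) ≫ t)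
        (isRep_P f hT (n + 1)).compat = 𝟙 R.Y := by
      apply R.hom_ext
      · exact (R.lift_π _ _ _).trans (Category.id_comp R.π).symm
      · intro i
        exact (R.lift_y _ _ _ i).trans (Category.id_comp (R.y i)).symm
    refine (ofSec_apply R _ _ _ (isRep_P f hT (n + 1)).compat).trans ?_
    rw [h2]
    exact ConcreteCategory.congr_hom ((CGrpSh.ptsPre G).map_id (op R.Y)) (θ f G _ b₀)
  have hcob₁ : IsCob p e b₁ c₁ := by
    refine isCob_of_univ (isRep_P f hT (n + 2)) hb₁ hc₁ ?_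
    rw [dS_univ (isRep_P f hT (n + 1)).compat (fun i => spm f (δ A A' (n + 1) i)) (fun i => ?_) (fun i k => ?_) hb₁, h1]
    · have h2 := congrArg (θ f G _) hb2
      rw [AddEquiv.apply_symm_apply, map_sum] at h2
      rw [← h2]
      refine Finset.sum_congr rfl fun i _ => ?_
      rw [map_zsmul, θ_res]
    · rw [← spm_comp]
      congr 1
      exact AlgHom.ext fun a => (δ A A' (n + 1) i).commutes a
    · rw [← Category.assoc, ← spm_comp, δ_y]
  have hb0 : (CGrpSh.ptsPre G).map (cc i (sp f (P A A' (n + 1)))).op (θ f G _ b₀) = 0 :=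
    (map_cc_iff i f (hk _).1 (hk _).2 b₀).2 (res_fI hI b₀ hb1)
  have hinv : inv e ≫ e = 𝟙 T := IsIso.inv_hom_id e
  refine ⟨resF (inv e) b₁, ?_, ?_, ?_⟩
  · have := hb₁.res (inv e)
    rwa [hinv] at this
  · have h3 := hcob₁.res (inv e)
    rw [hinv] at h3
    have h4 : resF (inv e) c₁ = c := by
      funext W a x
      change c W ((a ≫ inv e) ≫ e) x = c W a x
      rw [Category.assoc, hinv, Category.comp_id]
    rwa [h4] at h3
  · intro W a x hx
    have h5 : Compat p e (a ≫ inv e) x := by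
      intro k
      rw [hx k, Category.assoc, hinv]
    change (CGrpSh.ptsPre G).map (cc i W).op (ofSec R (θ f G _ b₀) W (a ≫ inv e) x) = 0
    rw [ofSec_apply R _ _ _ h5, K828.Cech.res_comp, ← cc_nat, ← K828.Cech.res_comp]
    exact (congrArg _ hb0).trans (map_zero _)

end

end K771.RedAcy
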