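import Groth.Agent.GaDual.K771.RedAcy
import Groth.Agent.CGrpSh.K731.SmCA
import Mathlib.RingTheory.Flat.FaithfullyFlat.Algebra

/-!
# `G(T) → G(T ×_X X₀)`: the sheaf of points of a smooth commutative group scheme is good
-/

set_option autoImplicit false

universe u

open CategoryTheory CategoryTheory.Limits AlgebraicGeometry Opposite TensorProduct MonObj
open Groth.Agent.Books.AffBridge K809.CechAlg K809.CechGeo K809.CechDict
open K809.KerGrp hiding sg
open Groth.Agent.Etrest.FppfCoch K828 K828.Cech K828.Cartan K828.FppfDisj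
open K771.RedCoh

noncomputable section

namespace K771.RedGood

variable {X X₀ : Scheme.{u}} (i : X₀ ⟶ X)

theorem exists_sp {T' T : Over X} (p : T' ⟶ T) (hT : Aff X T) (hp : AffCov X p) :
    ∃ (A A' : Type u) (_ : CommRing A) (_ : CommRing A') (_ : Algebra A A') (_ : Module.FaithfullyFlat A A')
      (f : Spec (CommRingCat.of A) ⟶ X) (e : sp f A ⟶ T) (_ : IsIso e) (t : sp f A' ⟶ T'),
      IsPullback t (spm f (Algebra.ofId A A')) p e := by
  have hTa : IsAffine T.left := hT
  have hTa' : IsAffine T'.left := hp.1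
  have hfl : Flat p.left := hp.2.1
  have hs : Surjective p.left := hp.2.2.2
  let A : Type u := Γ(T.left, ⊤)
  let A' : Type u := Γ(T'.left, ⊤)
  let φ : A →+* A' := p.left.appTop.hom
  let _ : Algebra A A' := φ.toAlgebra
  have hnat : Spec.map p.left.appTop ≫ T.left.isoSpec.inv = T'.left.isoSpec.inv ≫ p.left :=
    Scheme.isoSpec_inv_naturality p.left
  have hff : Module.FaithfullyFlat A A' := by
    have h1 : φ.Flat := (HasRingHomProperty.iff_of_isAffine (P := @Flat)).1 hfl
    have h2 : Module.Flat A A' := h1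
    refine Module.FaithfullyFlat.of_comap_surjective ?_
    have h3 : Surjective (Spec.map p.left.appTop) := by
      have h4 : Spec.map p.left.appTop = (T'.left.isoSpec.inv ≫ p.left) ≫ T.left.isoSpec.hom := by
        rw [← hnat, Category.assoc, Iso.inv_hom_id, Category.comp_id]
      rw [h4]
      infer_instance
    exact h3.surj
  let f : Spec (CommRingCat.of A) ⟶ X := T.left.isoSpec.inv ≫ T.hom
  let e : sp f A ⟶ T := Over.homMk T.left.isoSpec.inv (by
    have h1 : Spec.map (CommRingCat.ofHom (algebraMap A A)) = 𝟙 (Spec (CommRingCat.of A)) := by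
      have : CommRingCat.ofHom (algebraMap A A) = 𝟙 _ := rfl
      rw [this, Spec.map_id]
    change T.left.isoSpec.inv ≫ T.hom = Spec.map (CommRingCat.ofHom (algebraMap A A)) ≫ f
    rw [h1]
    exact (Category.id_comp _).symm)
  let t : sp f A' ⟶ T' := Over.homMk T'.left.isoSpec.inv (by
    change T'.left.isoSpec.inv ≫ T'.hom = Spec.map p.left.appTop ≫ T.left.isoSpec.inv ≫ T.hom
    rw [← Category.assoc, hnat, Category.assoc, Over.w])
  have he : IsIso e := by
    have : IsIso ((Over.forget X).map e) := inferInstanceAs (IsIso T.left.isoSpec.inv)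
    exact isIso_of_reflects_iso e (Over.forget X)
  have ht : IsIso t := by
    have : IsIso ((Over.forget X).map t) := inferInstanceAs (IsIso T'.left.isoSpec.inv)
    exact isIso_of_reflects_iso t (Over.forget X)
  refine ⟨A, A', inferInstance, inferInstance, inferInstance, hff, f, e, he, t, ?_⟩
  refine IsPullback.of_horiz_isIso ⟨?_⟩
  ext : 1
  exact hnat.symm

variable [IsClosedImmersion i] [Surjective i] (G : Over X) [GrpObj G] [IsCommMonObj G] [Smooth G.hom]

theorem good_pts : Good i (CGrpSh.pts Scheme.fppfPrecoverage G) where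
  ca := K731.SmAlg.ca_pts G
  epi := K771.RedPts.epi_pts i G
  acy {T' T} p hT hp := by
    intro n c hc hz
    have hepi := K771.RedPts.epi_pts i G
    obtain ⟨A, A', _, _, _, _, f, e, _, t, hpb⟩ := exists_sp p hT hp
    let k := kernel.ι (RedCoh.η i (CGrpSh.pts Scheme.fppfPrecoverage G))
    have hLE : LE k.hom (RedCoh.η i (CGrpSh.pts Scheme.fppfPrecoverage G)).hom :=
      le_of_shortExact (seq_shortExact i (CGrpSh.pts Scheme.fppfPrecoverage G))
    obtain ⟨b, hb, hbc, hb0⟩ := K771.RedAcy.acy_sp i f (G := G) hpb n (mapF k.hom c) (hc.map _) (hz.map _)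
      (fun W a x _ => hLE.comp W (c W a x))
    have hsp : ∀ {W : Over X} (a : W ⟶ T) (x : Fin (n + 1) → (W ⟶ T')), Compat p (𝟙 T) a x →
        k.hom.app (op W) (pull k.hom b W a x) = b W a x :=
      fun a x hx => pull_spec hLE b a x (hb0 _ a x hx)
    refine ⟨pull k.hom b, ?_, ?_⟩
    · intro W W' g a x hx
      apply hLE.inj'
      rw [nat_apply, hsp a x hx, hsp _ _ (hx.comp g)]
      exact hb g a x hx
    · intro W a x hx
      apply hLE.inj'
      rw [← dS_mapF]
      have h1 : dS (mapF k.hom (pull k.hom b) W a) x = dS (b W a) x := dS_congr fun i => hsp a _ (hx.face i)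
      rw [h1]
      exact hbc a x hx

end K771.RedGood
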