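import Groth.Agent.GaDual.K771.RedCoh
import Groth.Agent.GaDual.K771.NilLoc
import Groth.Agent.GaDual.K771.NilFg
import Groth.Agent.CGrpSh.K731.SmAlg

/-!
# The sheaf of points of a smooth commutative group scheme is good for nil-immersions
-/

set_option autoImplicit false

universe u

open CategoryTheory CategoryTheory.Limits AlgebraicGeometry Opposite

namespace K771.RedPts

open K771.RedCoh

variable {X X₀ : Scheme.{u}} (i : X₀ ⟶ X) [IsClosedImmersion i] [Surjective i]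

/-- Points lift locally. -/
theorem exists_local_lift (G : Over X) [Smooth G.hom] (T : Over X) (b : (Φ i).obj T ⟶ G) (t : T.left) :
    ∃ (V : Over X) (g : V ⟶ T), IsOpenImmersion g.left ∧ t ∈ Set.range g.left ∧
      ∃ s : V ⟶ G, cc i V ≫ s = (Φ i).map g ≫ b := by
  let j : ((Φ i).obj T).left ⟶ T.left := (cc i T).left
  let x : ((Φ i).obj T).left ⟶ G.left := b.left
  have hjc : IsClosedImmersion j := closedImmersion_cc i T
  obtain ⟨t₀, ht₀⟩ := (surjective_cc i T).surj t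
  have ht₀' : j t₀ = t := ht₀
  have hxT : x ≫ G.hom = j ≫ T.hom := (Over.w b).trans (Over.w (cc i T)).symm
  obtain ⟨V, hV, hvV, -⟩ := exists_isAffineOpen_mem_and_subset (x := T.hom t) (U := ⊤) trivial
  have hxV : x t₀ ∈ G.hom ⁻¹ᵁ V := by
    change G.hom (x t₀) ∈ V
    have h1 : G.hom (x t₀) = T.hom (j t₀) := congrArg (fun f => f t₀) hxT
    rw [h1, ht₀']
    exact hvV
  obtain ⟨W, hW, hxW, hWV⟩ := exists_isAffineOpen_mem_and_subset (x := x t₀) (U := G.hom ⁻¹ᵁ V) hxV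
  let C : Set T.left := j '' ((x ⁻¹ᵁ W : Set _)ᶜ)
  have hC : IsClosed C := j.isClosedEmbedding.isClosedMap _ (x ⁻¹ᵁ W).isOpen.isClosed_compl
  have htC : t ∉ C := by
    rintro ⟨w, hw, hwt⟩
    have h1 : w = t₀ := j.isClosedEmbedding.injective (hwt.trans ht₀'.symm)
    exact hw (by rw [h1]; exact hxW)
  obtain ⟨U, hU, htU, hUV⟩ := exists_isAffineOpen_mem_and_subset (x := t)
    (U := (T.hom ⁻¹ᵁ V) ⊓ ⟨Cᶜ, hC.isOpen_compl⟩) ⟨hvV, htC⟩
  have hUV1 : U ≤ T.hom ⁻¹ᵁ V := fun z hz => (hUV hz).1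
  let V' : Over X := Over.mk (U.ι ≫ T.hom)
  let g : V' ⟶ T := Over.homMk U.ι rfl
  let q : ((Φ i).obj V').left ⟶ (U : Scheme.{u}) := (cc i V').left
  have hq1 : IsClosedImmersion q := closedImmersion_cc i V'
  have hq2 : Surjective q := surjective_cc i V'
  let y₀ : ((Φ i).obj V').left ⟶ G.left := ((Φ i).map g).left ≫ x
  have hcg : ((Φ i).map g).left ≫ j = q ≫ U.ι := congrArg CommaMorphism.left (cc_nat i g)
  have hy₀ : Set.range y₀ ⊆ Set.range W.ι := by
    rintro _ ⟨z, rfl⟩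
    rw [Scheme.Opens.range_ι]
    by_contra hcon
    have h1 : j (((Φ i).map g).left z) = U.ι (q z) := congrArg (fun f => f z) hcg
    have h2 : U.ι (q z) ∈ U := (q z).2
    rw [← h1] at h2
    exact (hUV h2).2 ⟨_, hcon, rfl⟩
  let y : ((Φ i).obj V').left ⟶ (W : Scheme.{u}) := IsOpenImmersion.lift W.ι y₀ hy₀
  have hy : y ≫ W.ι = y₀ := IsOpenImmersion.lift_fac _ _ _
  have hVa : IsAffine (V : Scheme.{u}) := hV
  have hWa : IsAffine (W : Scheme.{u}) := hW
  have hUa : IsAffine (U : Scheme.{u}) := hU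
  let γ : (W : Scheme.{u}) ⟶ (V : Scheme.{u}) := G.hom.resLE V W hWV
  let τ : (U : Scheme.{u}) ⟶ (V : Scheme.{u}) := T.hom.resLE V U hUV1
  have hγ : γ ≫ V.ι = W.ι ≫ G.hom := Scheme.Hom.resLE_comp_ι _ _
  have hτ : τ ≫ V.ι = U.ι ≫ T.hom := Scheme.Hom.resLE_comp_ι _ _
  have hsm : Smooth γ := inferInstance
  have hcomm : y ≫ γ = q ≫ τ := by
    rw [← cancel_mono V.ι, Category.assoc, Category.assoc, hγ, hτ, ← Category.assoc, hy]
    change (((Φ i).map g).left ≫ x) ≫ G.hom = q ≫ V'.hom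
    rw [Category.assoc, hxT, ← Category.assoc, hcg, Category.assoc]
    rfl
  obtain ⟨s₀, hs₁, hs₂⟩ := K771.NilLoc.aff_lift γ τ q y hcomm
  let s : V' ⟶ G := Over.homMk (s₀ ≫ W.ι) (by
    rw [Category.assoc, ← hγ, ← Category.assoc, hs₂, hτ]
    rfl)
  refine ⟨V', g, inferInstanceAs (IsOpenImmersion U.ι), ⟨⟨t, htU⟩, rfl⟩, s, ?_⟩
  ext : 1
  change q ≫ s₀ ≫ W.ι = y₀
  rw [← Category.assoc, hs₁, hy]

/-- local surjectivity -/
theorem epi_pts (G : Over X) [GrpObj G] [IsCommMonObj G] [Smooth G.hom] :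
    Epi (η i (CGrpSh.pts Scheme.fppfPrecoverage G)) := by
  refine K731.Basic.epi_of_exists_lift _ fun T b => ?_
  let F := CGrpSh.pts Scheme.fppfPrecoverage G
  let R : Sieve T :=
    { arrows := fun V g => ∃ s : F.obj.obj (op V), (η i F).hom.app (op V) s = ((RR i).obj F).obj.map g.op b
      downward_closed := by
        rintro V V' g ⟨s, hs⟩ f
        refine ⟨F.obj.map f.op s, ?_⟩
        rw [K828.Cech.nat_apply, hs, K828.Cech.res_comp] }
  refine ⟨R, (K601.FppfSieve.mem_J_iff _).2 fun t => ?_, fun V g h => h⟩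
  obtain ⟨V, g, hg, ⟨v, hv⟩, s, hs⟩ := exists_local_lift i G T b.down.toMul t
  refine ⟨V, g, v, ⟨ULift.up (Additive.ofMul s), ?_⟩, inferInstance, inferInstance, hv⟩
  exact congrArg (fun z => ULift.up (Additive.ofMul z)) hs

end K771.RedPts
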