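import Groth.Agent.GaDual.K771.RedGood
import Groth.Agent.TateGlob.K827.Abs

/-!
# `H^n(X, G) → H^n(X₀, G)` is bijective, `n > 0`, for a nil-immersion `X₀ ⟶ X` of affine schemes and `G` smooth

* `bijective_res`: `HRes.res` along a surjective closed immersion is bijective in positive degrees.
* `res_affine`: restriction `H^n(T, G) → H^n(T ×_X X₀, G)` in an arbitrary cohomology theory `𝓗 : CohT`.
-/

set_option autoImplicit false

universe u

open CategoryTheory CategoryTheory.Limits AlgebraicGeometry Opposite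
open K828 K828.FppfDisj K771.RedCoh

noncomputable section

namespace K771.RedRes

variable {X X₀ : Scheme.{u}} (i : X₀ ⟶ X) [IsClosedImmersion i] [Surjective i]
  (G : Over X) [GrpObj G] [IsCommMonObj G] [Smooth G.hom]

theorem res_affine (𝓗 : CohT Scheme.fppfPrecoverage X) (n : ℕ) {T : Over X} (hT : IsAffine T.left) :
    Function.Bijective (𝓗.res (cc i T) : 𝓗.H (CGrpSh.pts Scheme.fppfPrecoverage G) (n + 1) T →+
      𝓗.H (CGrpSh.pts Scheme.fppfPrecoverage G) (n + 1) ((Φ i).obj T)) :=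
  bij i 𝓗 n _ (K771.RedGood.good_pts i G) hT

/-- Any morphism `T₀ ⟶ T` which is a base change of `X₀ ⟶ X`. -/
theorem res_bijective_of_isPullback (𝓗 : CohT Scheme.fppfPrecoverage X) (n : ℕ) {T T₀ : Over X} (hT : IsAffine T.left)
    (j : T₀ ⟶ T) (q : T₀.left ⟶ X₀) (hq : IsPullback j.left q T.hom i) :
    Function.Bijective (𝓗.res j : 𝓗.H (CGrpSh.pts Scheme.fppfPrecoverage G) (n + 1) T →+
      𝓗.H (CGrpSh.pts Scheme.fppfPrecoverage G) (n + 1) T₀) := by
  have h1 : IsPullback (cc i T).left (pullback.snd T.hom i) T.hom i := by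
    rw [cc_left]
    exact IsPullback.of_hasPullback T.hom i
  let e : T₀.left ≅ ((Φ i).obj T).left := hq.isoIsPullback _ _ h1
  have he : e.hom ≫ (cc i T).left = j.left := hq.isoIsPullback_hom_fst _ _ h1
  let θ : T₀ ≅ (Φ i).obj T := Over.isoMk e (by
    rw [← Over.w (cc i T), ← Category.assoc, he, Over.w])
  have hθ : θ.hom ≫ cc i T = j := by
    ext : 1
    exact he
  have h2 : Function.Bijective (𝓗.res θ.hom : 𝓗.H (CGrpSh.pts Scheme.fppfPrecoverage G) (n + 1) ((Φ i).obj T) →+
      𝓗.H (CGrpSh.pts Scheme.fppfPrecoverage G) (n + 1) T₀) := by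
    refine Function.bijective_iff_has_inverse.2 ⟨𝓗.res θ.inv, fun x => ?_, fun x => ?_⟩
    · rw [← 𝓗.res_comp, Iso.inv_hom_id, 𝓗.res_id]
    · rw [← 𝓗.res_comp, Iso.hom_inv_id, 𝓗.res_id]
  have h3 := h2.comp (res_affine i G 𝓗 n hT)
  have h4 : (𝓗.res j : 𝓗.H (CGrpSh.pts Scheme.fppfPrecoverage G) (n + 1) T →
      𝓗.H (CGrpSh.pts Scheme.fppfPrecoverage G) (n + 1) T₀) = 𝓗.res θ.hom ∘ 𝓗.res (cc i T) := by
    funext x
    rw [Function.comp_apply, ← 𝓗.res_comp, hθ]
  rw [h4]
  exact h3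

/-- **Invariance of the cohomology of smooth commutative group schemes under nil-immersions.** -/
theorem bijective_res [IsAffine X] (n : ℕ) (hn : 0 < n) :
    Function.Bijective (HRes.res Scheme.fppfPrecoverage (CGrpSh.pts Scheme.fppfPrecoverage G) n (Over.mk i)) := by
  obtain ⟨m, rfl⟩ : ∃ m, n = m + 1 := ⟨n - 1, by omega⟩
  let j : Over.mk i ⟶ Over.mk (𝟙 X) := Over.homMk i (Category.comp_id _)
  have hX : IsAffine (Over.mk (𝟙 X)).left := inferInstanceAs (IsAffine X)
  have h1 : IsPullback j.left (𝟙 X₀) (Over.mk (𝟙 X)).hom i := by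
    change IsPullback i (𝟙 X₀) (𝟙 X) i
    exact IsPullback.id_vert i
  have h2 := res_bijective_of_isPullback i G (K828.BigCoh.bigCoh Scheme.fppfPrecoverage X) m hX j (𝟙 X₀) h1
  have h3 := h2.comp (K827.Abs.absE (CGrpSh.pts Scheme.fppfPrecoverage G) (m + 1)).bijective
  have h4 : (HRes.res Scheme.fppfPrecoverage (CGrpSh.pts Scheme.fppfPrecoverage G) (m + 1) (Over.mk i) : _ → _) =
      (K828.BigCoh.bigCoh Scheme.fppfPrecoverage X).res j ∘ K827.Abs.absE (CGrpSh.pts Scheme.fppfPrecoverage G) (m + 1) := by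
    funext x
    exact (K827.Abs.res_absE' _ _ j x).symm
  rw [h4]
  exact h3

instance surjective_nilradical (X : Scheme.{u}) : Surjective X.nilradical.subschemeι := by
  refine ⟨fun x => ?_⟩
  have h : x ∈ Set.range X.nilradical.subschemeι := by
    rw [X.nilradical.range_subschemeι, Scheme.support_nilradical]
    trivial
  exact h

end K771.RedRes
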