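import Groth.Agent.GaDual.K771.Char
import Groth.Agent.GaDual.K771.AffLocal

/-!
# The dual of `G_a` has no nonzero sections over reduced schemes

`IsChar.eq_one`, `gad_eq_zero`.
-/

set_option autoImplicit false
universe u
open CategoryTheory CategoryTheory.Limits AlgebraicGeometry Opposite Polynomial

noncomputable section

namespace K771.RedZero

open Groth.Agent.Etdl.H432.Sec Groth.Agent.Etdl.H494 K771.Pts K771.HomEv K771.DDAlg K771.Aff K771.Char K771.AffLocal

theorem coeff_pow {A : Type u} [CommRing A] {f : A[X]} (hf : IsChar f) (n m : ℕ) :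
    ∃ a : A, f.coeff n ^ (m + 1) = a * f.coeff (n * (m + 1)) := by
  induction m with
  | zero => exact ⟨1, by simp⟩
  | succ m ih =>
    obtain ⟨a, ha⟩ := ih
    refine ⟨a * ((n * (m + 1) + n).choose (n * (m + 1)) : A), ?_⟩
    rw [pow_succ, ha, mul_assoc, hf.2, mul_assoc, mul_add n (m + 1) 1, mul_one]

theorem isNilpotent_coeff {A : Type u} [CommRing A] {f : A[X]} (hf : IsChar f) {n : ℕ} (hn : n ≠ 0) :
    IsNilpotent (f.coeff n) := by
  obtain ⟨a, ha⟩ := coeff_pow hf n f.natDegree
  refine ⟨_, ha.trans ?_⟩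
  rw [coeff_eq_zero_of_natDegree_lt, mul_zero]
  have : 1 ≤ n := Nat.one_le_iff_ne_zero.2 hn
  nlinarith

theorem IsChar.eq_one {A : Type u} [CommRing A] [IsReduced A] {f : A[X]} (hf : IsChar f) : f = 1 := by
  ext n
  rw [coeff_one]
  split_ifs with h
  · rw [h, hf.1]
  · exact (isNilpotent_coeff hf h).eq_zero

variable {X : Scheme.{u}}

theorem gad_eq_zero_of_affine {T : Over X} [IsAffine T.left] [IsReduced T.left] (φ : Γs (Gad X) T) : φ = 0 := by
  apply poly_injective
  rw [poly_zero]
  exact IsChar.eq_one (isChar_poly φ)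

theorem gad_eq_zero {T : Over X} [IsReduced T.left] (φ : Γs (Gad X) T) : φ = 0 := by
  have h : ∀ x : T.left, ∃ U : T.left.Opens, IsAffineOpen U ∧ x ∈ U := fun x => by
    obtain ⟨U, hU, hxU, -⟩ := exists_isAffineOpen_mem_and_subset (x := x) (U := ⊤) trivial
    exact ⟨U, hU, hxU⟩
  choose U hU hx using h
  refine sep (Gad X) (isCov_opn U fun x => ⟨x, hx x⟩) _ _ fun x => ?_
  have : IsAffine (opn T (U x)).left := hU x
  have : IsReduced (opn T (U x)).left := inferInstanceAs (IsReduced (U x).toScheme)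
  rw [gad_eq_zero_of_affine (r (Gad X) (opnι T (U x)) φ), map_zero]

end K771.RedZero
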