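import Groth.Agent.TateLoc.K810.GaKer
import Groth.Agent.TateLoc.K59.DevTor
import Groth.Agent.TateLoc.K892.ExpMain
import Groth.Agent.Sga3.H792.PowFlat
import Groth.Agent.Sga7.H740.GaPow
import Groth.Agent.S0352

/-!
# Smooth connected commutative affine groups without subtori: multiplication by integers

* `kill_unip`: in characteristic `p` a unipotent commutative group is killed by a positive integer;
* `kill_mult`: a group of multiplicative type which is a subgroup of a group without subtori is killed by a positive integer;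
* `epi_nsmul`: multiplication by an integer `n` invertible in `k` is an epimorphism on a connected commutative group of finite type.
-/

set_option autoImplicit false
universe u
open CategoryTheory CategoryTheory.Limits MonoidalCategory CartesianMonoidalCategory MonObj GrpObj AlgebraicGeometry
open TensorProduct Opposite
open Groth.Agent.Books Groth.Agent.Books.AffBridge Groth.Agent.Books.AffBridge2
open K620.HopfSeq K620.HopfPow K620.HopfGa K620.Devissage

noncomputable section

namespace K771.UniVan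

variable {k : Type u} [Field k]

/-- The group `G` is killed by a positive integer. -/
def Kill (G : Over (Spec (CommRingCat.of k))) [GrpObj G] [IsCommMonObj G] : Prop :=
  ∃ n : ℕ, 0 < n ∧ n • 𝟙 (CGrpSh.pts Scheme.fppfPrecoverage G) = 0

section Abs

variable {C : Type*} [Category C] [Abelian C]

theorem nsmul_id_iso {A B : C} (e : A ≅ B) {n : ℕ} (h : n • 𝟙 A = 0) : n • 𝟙 B = 0 := by
  have h1 : n • 𝟙 B = e.inv ≫ (n • 𝟙 A) ≫ e.hom := by
    rw [Preadditive.nsmul_comp, Category.id_comp, Preadditive.comp_nsmul, e.inv_hom_id]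
  rw [h1, h, zero_comp, comp_zero]

theorem nsmul_id_mid {S : ShortComplex C} (hS : S.ShortExact) {n m : ℕ} (h₁ : n • 𝟙 S.X₁ = 0) (h₃ : m • 𝟙 S.X₃ = 0) :
    (n * m) • 𝟙 S.X₂ = 0 := by
  have hg : (m • 𝟙 S.X₂) ≫ S.g = 0 := by
    rw [Preadditive.nsmul_comp, Category.id_comp]
    have : m • S.g = S.g ≫ (m • 𝟙 S.X₃) := by rw [Preadditive.comp_nsmul, Category.comp_id]
    rw [this, h₃, comp_zero]
  have hm : Mono S.f := hS.mono_f
  obtain ⟨l, hl'⟩ : ∃ l : S.X₂ ⟶ S.X₁, l ≫ S.f = m • 𝟙 S.X₂ := by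
    obtain ⟨l, hl⟩ := KernelFork.IsLimit.lift' hS.fIsKernel (m • 𝟙 S.X₂) hg
    exact ⟨l, hl⟩
  have h2 : (n * m) • 𝟙 S.X₂ = (n • l) ≫ S.f := by
    rw [Preadditive.nsmul_comp, hl', mul_smul]
  have h3 : n • l = l ≫ (n • 𝟙 S.X₁) := by rw [Preadditive.comp_nsmul, Category.comp_id]
  rw [h2, h3, h₁, comp_zero, zero_comp]

/-- If `m • 𝟙` is an epimorphism and `(n * m) • 𝟙 = 0` then `n • 𝟙 = 0`. -/
theorem nsmul_id_of_epi {A : C} {n m : ℕ} (he : Epi (m • 𝟙 A)) (h : (n * m) • 𝟙 A = 0) : n • 𝟙 A = 0 := by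
  have h1 : (m • 𝟙 A) ≫ (n • 𝟙 A) = 0 := by
    rw [Preadditive.nsmul_comp, Category.id_comp, ← mul_smul, mul_comm, h]
  rwa [← cancel_epi (m • 𝟙 A), comp_zero]

/-- Let `0 → M → G → V → 0` be exact with `M` killed by `n`, `n` invertible on `V` and an epimorphism on `G`. Then
`G ≅ V`. -/
theorem nonempty_iso {S : ShortComplex C} (hS : S.ShortExact) {n : ℕ} (h₁ : n • 𝟙 S.X₁ = 0) (h₃ : IsIso (n • 𝟙 S.X₃))
    (he : Epi (n • 𝟙 S.X₂)) : Nonempty (S.X₃ ≅ S.X₂) := by
  have hf : S.f ≫ (n • 𝟙 S.X₂) = 0 := by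
    have : S.f ≫ (n • 𝟙 S.X₂) = (n • 𝟙 S.X₁) ≫ S.f := by
      rw [Preadditive.nsmul_comp, Category.id_comp, Preadditive.comp_nsmul, Category.comp_id]
    rw [this, h₁, zero_comp]
  have hg : Epi S.g := hS.epi_g
  obtain ⟨v, hv⟩ := CokernelCofork.IsColimit.desc' hS.gIsCokernel (n • 𝟙 S.X₂) hf
  have hv' : S.g ≫ v = n • 𝟙 S.X₂ := hv
  have h2 : v ≫ S.g = n • 𝟙 S.X₃ := by
    rw [← cancel_epi S.g, ← Category.assoc, hv', Preadditive.nsmul_comp, Category.id_comp, Preadditive.comp_nsmul,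
      Category.comp_id]
  have hm : Mono v := by
    have : Mono (v ≫ S.g) := by rw [h2]; infer_instance
    exact mono_of_mono v S.g
  have hep : Epi v := by
    have : Epi (S.g ≫ v) := by rw [hv']; exact he
    exact epi_of_epi S.g v
  have : IsIso v := isIso_of_mono_of_epi v
  exact ⟨asIso v⟩

end Abs

theorem kill_iso : IsoClosed (k := k) Kill := by
  intro G H _ _ _ _ e _ h
  obtain ⟨n, hn, h⟩ := h
  exact ⟨n, hn, nsmul_id_iso (K810.GaKer.ptsIso e) h⟩

theorem kill_ext : ExtClosed (k := k) Kill := by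
  intro G₁ G₂ G₃ _ _ _ _ _ _ _ _ _ _ _ _ f g _ _ w hS h₁ h₃
  obtain ⟨n, hn, h₁⟩ := h₁
  obtain ⟨m, hm, h₃⟩ := h₃
  exact ⟨n * m, Nat.mul_pos hn hm, nsmul_id_mid hS h₁ h₃⟩

theorem kill_fin (G : Over (Spec (CommRingCat.of k))) [GrpObj G] [IsCommMonObj G] [IsFinite G.hom] : Kill G :=
  K892.ExpMain.exists_nsmul_id G

/-- Evaluation of a multiple of the identity. -/
theorem nsmul_apply {S : Scheme.{u}} (A : Over S) [GrpObj A] [IsCommMonObj A] (n : ℕ) (T : Over S) (x : T ⟶ A) :
    (n • 𝟙 (CGrpSh.pts Scheme.fppfPrecoverage A)).hom.app (op T) (ULift.up (Additive.ofMul x)) =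
      ULift.up (Additive.ofMul (x ^ n)) := by
  let φ : (CGrpSh.pts Scheme.fppfPrecoverage A ⟶ CGrpSh.pts Scheme.fppfPrecoverage A) →+
      (CGrpSh.pts Scheme.fppfPrecoverage A).obj.obj (op T) :=
    AddMonoidHom.mk' (fun f => f.hom.app (op T) (ULift.up (Additive.ofMul x))) (fun _ _ => rfl)
  have h1 : φ (n • 𝟙 _) = n • (ULift.up (Additive.ofMul x) : (CGrpSh.pts Scheme.fppfPrecoverage A).obj.obj (op T)) := by
    rw [map_nsmul]
    rfl
  exact h1

/-- A faithfully flat locally finitely presented multiplication map is an epimorphism of sheaves. -/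
theorem epi_of_fppf {S : Scheme.{u}} (A : Over S) [GrpObj A] [IsCommMonObj A] (n : ℕ) [Flat (𝟙 A ^ n).left]
    [Surjective (𝟙 A ^ n).left] [LocallyOfFinitePresentation (𝟙 A ^ n).left] :
    Epi (n • 𝟙 (CGrpSh.pts Scheme.fppfPrecoverage A)) := by
  refine K731.Basic.epi_of_exists_cover _ fun T b => ?_
  let x : T ⟶ A := b.down.toMul
  refine ⟨_, Scheme.Hom.singleton_mem_fppfPrecoverage (pullback.fst x.left (𝟙 A ^ n).left), ?_⟩
  rintro _ _ ⟨⟩
  let y : Over.mk (pullback.fst x.left (𝟙 A ^ n).left ≫ T.hom) ⟶ A :=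
    Over.homMk (pullback.snd x.left (𝟙 A ^ n).left) (by
      have h1 : (𝟙 A ^ n).left ≫ A.hom = A.hom := Over.w _
      have h2 : x.left ≫ A.hom = T.hom := Over.w _
      rw [← h1, ← pullback.condition_assoc, h2]
      rfl)
  refine ⟨ULift.up (Additive.ofMul y), ?_⟩
  rw [nsmul_apply]
  refine ULift.ext _ _ ?_
  change Additive.ofMul (y ^ n) = Additive.ofMul (Over.homMk (pullback.fst x.left (𝟙 A ^ n).left) ≫ x)
  congr 1
  have h3 : y ^ n = y ≫ (𝟙 A ^ n) := by rw [MonObj.comp_pow, Category.comp_id]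
  rw [h3]
  ext1
  exact pullback.condition.symm

theorem kill_ga (p : ℕ) [Fact p.Prime] [CharP k p] : Kill (Red.Ga (Spec (CommRingCat.of k))) := by
  refine ⟨p, (Fact.out : p.Prime).pos, ?_⟩
  apply Sheaf.hom_ext
  apply NatTrans.ext
  funext T
  apply AddCommGrpCat.ext
  intro x
  refine (nsmul_apply _ p T.unop x.down.toMul).trans ?_
  have hp : (p : Γ(T.unop.left, ⊤)) = 0 := by
    have h1 : (p : k) = 0 := CharP.cast_eq_zero k p
    have h2 := congrArg (T.unop.hom.appTop.hom.comp (Scheme.ΓSpecIso (CommRingCat.of k)).inv.hom) h1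
    rwa [map_natCast, map_zero] at h2
  have h1 : (x.down.toMul : T.unop ⟶ Red.Ga (Spec (CommRingCat.of k))) ^ p = 1 := by
    apply Groth.Agent.Sga3B.GaPts.gaFn_injective
    rw [Groth.Agent.Sga7.H740.GaPow.gaFn_pow, Groth.Agent.Sga3B.GaPts.gaFn_one, nsmul_eq_mul, hp, zero_mul]
  exact congrArg (fun z => ULift.up (Additive.ofMul z)) h1

/-- A unipotent commutative group in characteristic `p` is killed by a positive integer. -/
theorem kill_unip (p : ℕ) [Fact p.Prime] [CharP k p] (B : Type u) [CommRing B] [HopfAlgebra k B] [Coalgebra.IsCocomm k B]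
    [Algebra.FiniteType k B] (hU : HopfRep.IsUnipotent k B) : Kill (SpecOver k B) := by
  have hGa : IsCommMonObj (Red.Ga (Spec (CommRingCat.of k))) := inferInstance
  have hK : (RingHom.ker (BialgHom.id k B)).IsHopfIdeal k := isHopfIdeal_ker (BialgHom.id k B)
  exact of_equiv kill_iso (quotKerEquiv (BialgHom.id k B) Function.surjective_id _ rfl)
    (of_unip kill_iso kill_ext (fun G => kill_fin G) (kill_ga p) B hU _ hK)

/-- The sheaf of points of a trivial group is zero. -/
theorem isZero_of_isIso {S : Scheme.{u}} (T : Over S) [GrpObj T] [IsCommMonObj T] [IsIso T.hom] :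
    IsZero (CGrpSh.pts Scheme.fppfPrecoverage T) := by
  rw [IsZero.iff_id_eq_zero]
  apply Sheaf.hom_ext
  apply NatTrans.ext
  funext Z
  apply AddCommGrpCat.ext
  intro x
  refine ULift.ext _ _ ?_
  refine Additive.toMul.injective ?_
  have h : ∀ a b : Z.unop ⟶ T, a = b := by
    intro a b
    ext1
    rw [← cancel_mono T.hom, Over.w a, Over.w b]
  exact h _ _

open K59.DevMain K59.DevFin K59.DevAbs in
/-- A group of multiplicative type contained in a group without subtori is killed by a positive integer. -/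
theorem kill_mult (A : Type u) [CommRing A] [HopfAlgebra k A] [Algebra.FiniteType k A] [Coalgebra.IsCocomm k A]
    (hA : SGA3b.IsMultTypeConst k A) (U : Over (Spec (CommRingCat.of k))) [GrpObj U] (hU : Red.HasNoSubtorus k U)
    (i : SpecOver k A ⟶ U) [IsMonHom i] [Mono i] : Kill (SpecOver k A) := by
  obtain ⟨Q, q, hq, hQ, T, h1, h2, h3, h4, hT, ⟨e⟩⟩ := K59.DevTor.at_of_mult A hA
  let j := e.hom ≫ kernel.ι q
  have hj : Mono j := mono_comp _ _
  let j' : T ⟶ SpecOver k A := K731.Full.hom j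
  have hjm : Mono j' := by
    refine ⟨fun {Z} a b hab => ?_⟩
    have h5 := K731.Basic.injective_of_mono j (op Z) (a₁ := ULift.up (Additive.ofMul a)) (a₂ := ULift.up (Additive.ofMul b)) (by
      rw [K731.Full.app_eq, K731.Full.app_eq]
      exact congrArg (fun z => ULift.up (Additive.ofMul z)) hab)
    exact congrArg (fun z => z.down.toMul) h5
  have hc : IsMonHom (j' ≫ i) := inferInstance
  have hcm : Mono (j' ≫ i) := mono_comp _ _
  have ht : IsIso T.hom := hU T (j' ≫ i) hT
  have hz : IsZero (CGrpSh.pts Scheme.fppfPrecoverage T) := isZero_of_isIso T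
  have hq' : Mono q := by
    have : kernel.ι q = 0 := (hz.of_iso e.symm).eq_of_src _ _
    exact Preadditive.mono_of_kernel_zero this
  have hqi : IsIso q := isIso_of_mono_of_epi q
  have hfin : IsFinite (SpecOver k A).hom := isFinite_of_fin (fin_iso (asIso q).symm hQ)
  exact kill_fin _

end K771.UniVan
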