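import Groth.Agent.GaDual.K771.UniVan
import Groth.Agent.S3271

/-!
# Unipotent groups in characteristic zero

Multiplication by a positive integer is an isomorphism on a commutative unipotent group over a field of characteristic `0`.
-/

set_option autoImplicit false
universe u
open CategoryTheory CategoryTheory.Limits MonoidalCategory CartesianMonoidalCategory MonObj GrpObj AlgebraicGeometry
open TensorProduct Opposite
open Groth.Agent.Books Groth.Agent.Books.AffBridge Groth.Agent.Books.AffBridge2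
open K620.HopfSeq K620.HopfPow K620.HopfGa K620.Devissage

noncomputable section

namespace K771.UniVan

variable {k : Type u} [Field k]

theorem exists_pow {B : Type u} [CommRing B] [HopfAlgebra k B] {r : ℕ} (x : Fin r → B)
    (hprim : ∀ i, CoalgebraStruct.comul (R := k) (x i) = x i ⊗ₜ[k] (1 : B) + (1 : B) ⊗ₜ[k] x i) (n : ℕ) :
    ∃ φ : B →ₐ[k] B, specMap k φ = (𝟙 (SpecOver k B)) ^ n ∧ ∀ i, φ (x i) = n • x i := by
  induction n with
  | zero =>
    refine ⟨(1 : WithConv (B →ₐ[k] B)).ofConv, ?_, fun i => ?_⟩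
    · rw [specMap_one, pow_zero]
    · have h1 : (1 : WithConv (B →ₐ[k] B)).ofConv (x i) = algebraMap k B (CoalgebraStruct.counit (x i)) := rfl
      rw [h1, zero_smul]
      have h2 : (CoalgebraStruct.counit (R := k) (x i)) = 0 := counit_of_primitive (hprim i)
      rw [h2, map_zero]
  | succ n ih =>
    obtain ⟨φ, h1, h2⟩ := ih
    refine ⟨(WithConv.toConv φ * WithConv.toConv (AlgHom.id k B)).ofConv, ?_, fun i => ?_⟩
    · rw [specMap_mul, pow_succ]
      change specMap k φ * specMap k (AlgHom.id k B) = _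
      rw [h1, specMap_id]
    · have h3 : (WithConv.toConv φ * WithConv.toConv (AlgHom.id k B)).ofConv (x i) =
          Algebra.TensorProduct.lift φ (AlgHom.id k B) (fun _ _ => .all _ _) (CoalgebraStruct.comul (R := k) (x i)) :=
        AlgHom.convMul_apply (WithConv.toConv φ) (WithConv.toConv (AlgHom.id k B)) (x i)
      rw [h3, hprim i, map_add, Algebra.TensorProduct.lift_tmul, Algebra.TensorProduct.lift_tmul, map_one, h2]
      rw [map_one, AlgHom.id_apply, succ_nsmul]
      exact congrArg₂ (· + ·) (mul_one _) (one_mul _)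

theorem isIso_pow [CharZero k] (B : Type u) [CommRing B] [HopfAlgebra k B] [Coalgebra.IsCocomm k B]
    [Algebra.FiniteType k B] (hU : HopfRep.IsUnipotent k B) (n : ℕ) (hn : 0 < n) :
    IsIso ((𝟙 (SpecOver k B)) ^ n) := by
  obtain ⟨r, x, hx, hgen, hprim⟩ := Groth.Agent.S3271.result k B hU
  obtain ⟨φ, h1, h2⟩ := exists_pow x hprim n
  have hsurj : Function.Surjective (MvPolynomial.aeval x : MvPolynomial (Fin r) k →ₐ[k] B) := by
    rw [← AlgHom.range_eq_top, ← Algebra.adjoin_range_eq_range_aeval, hgen]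
  let e : MvPolynomial (Fin r) k ≃ₐ[k] B := AlgEquiv.ofBijective (MvPolynomial.aeval x) ⟨hx, hsurj⟩
  have he : ∀ i, e.symm (x i) = MvPolynomial.X i := fun i => by
    rw [AlgEquiv.symm_apply_eq]
    exact (MvPolynomial.aeval_X x i).symm
  let ψ : B →ₐ[k] B := (MvPolynomial.aeval (fun i => (n : k)⁻¹ • x i)).comp (e.symm : B →ₐ[k] MvPolynomial (Fin r) k)
  have hψ : ∀ i, ψ (x i) = (n : k)⁻¹ • x i := fun i => by
    change MvPolynomial.aeval (fun i => (n : k)⁻¹ • x i) (e.symm (x i)) = _
    rw [he, MvPolynomial.aeval_X]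
  have hn0 : (n : k) ≠ 0 := Nat.cast_ne_zero.2 hn.ne'
  have h3 : ψ.comp φ = AlgHom.id k B := by
    apply AlgHom.ext_of_adjoin_eq_top hgen
    rintro _ ⟨i, rfl⟩
    rw [AlgHom.comp_apply, h2, map_nsmul, hψ, AlgHom.id_apply, ← Nat.cast_smul_eq_nsmul k, smul_smul, mul_inv_cancel₀ hn0,
      one_smul]
  have h4 : φ.comp ψ = AlgHom.id k B := by
    apply AlgHom.ext_of_adjoin_eq_top hgen
    rintro _ ⟨i, rfl⟩
    rw [AlgHom.comp_apply, hψ, map_smul, h2, AlgHom.id_apply, ← Nat.cast_smul_eq_nsmul k, smul_smul, inv_mul_cancel₀ hn0,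
      one_smul]
  rw [← h1]
  exact ⟨specMap k ψ, by rw [← specMap_comp, h4, specMap_id], by rw [← specMap_comp, h3, specMap_id]⟩

/-- Multiplication by a positive integer on a commutative unipotent group in characteristic zero is an isomorphism. -/
theorem isIso_nsmul [CharZero k] (B : Type u) [CommRing B] [HopfAlgebra k B] [Coalgebra.IsCocomm k B]
    [Algebra.FiniteType k B] (hU : HopfRep.IsUnipotent k B) (n : ℕ) (hn : 0 < n) :
    IsIso (n • 𝟙 (CGrpSh.pts Scheme.fppfPrecoverage (SpecOver k B))) := by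
  have h1 : K731.Full.hom (n • 𝟙 (CGrpSh.pts Scheme.fppfPrecoverage (SpecOver k B))) = (𝟙 (SpecOver k B)) ^ n :=
    congrArg (fun z => z.down.toMul) (nsmul_apply (SpecOver k B) n (SpecOver k B) (𝟙 _))
  have h2 : IsIso (K731.Full.hom (n • 𝟙 (CGrpSh.pts Scheme.fppfPrecoverage (SpecOver k B)))) := by
    rw [h1]; exact isIso_pow B hU n hn
  rw [← K731.Full.ptsMap_hom (n • 𝟙 (CGrpSh.pts Scheme.fppfPrecoverage (SpecOver k B)))]
  exact K59.DevFin.isIso_ptsMap _

end K771.UniVan
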