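import Groth.Agent.GaDual.K771.UniVan
import Groth.Agent.GaDual.K771.UniZero
import Groth.Agent.S3494
import Groth.Agent.S0007
import Groth.Agent.S18315

/-!
# Vanishing of the higher cohomology of smooth connected commutative affine groups without subtori

`H^i_fppf(k, U) = 0` for `i > 1`.
-/

set_option autoImplicit false
universe u
open CategoryTheory CategoryTheory.Limits MonoidalCategory CartesianMonoidalCategory MonObj GrpObj AlgebraicGeometry
open TensorProduct Opposite
open Groth.Agent.Books Groth.Agent.Books.AffBridge Groth.Agent.Books.AffBridge2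
open K620.HopfSeq K620.HopfPow K620.HopfGa K620.Devissage

noncomputable section

namespace K771.UniVan

variable {k : Type u} [Field k]

/-- Multiplication by an integer invertible in `k` is an epimorphism on a connected commutative group scheme locally of
finite type. -/
theorem epi_nsmul (G : Over (Spec (CommRingCat.of k))) [GrpObj G] [IsCommMonObj G] [LocallyOfFiniteType G.hom]
    [ConnectedSpace G.left] (n : ℕ) (hn : (n : k) ≠ 0) : Epi (n • 𝟙 (CGrpSh.pts Scheme.fppfPrecoverage G)) := by
  have hn' : ((n : ℤ) : k) ≠ 0 := by rwa [Int.cast_natCast]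
  have he : Etale (𝟙 G ^ n).left := by
    have := Groth.Agent.Sga3.H792.PowFlat.etale_zpow_comm G hn'
    rwa [zpow_natCast] at this
  have hm : IsMonHom (𝟙 G ^ n) := by
    have h1 : K731.Full.hom (n • 𝟙 (CGrpSh.pts Scheme.fppfPrecoverage G)) = (𝟙 G) ^ n :=
      congrArg (fun z => z.down.toMul) (nsmul_apply G n G (𝟙 _))
    rw [← h1]
    infer_instance
  have hopen : IsOpen (Set.range (𝟙 G ^ n).left) := (𝟙 G ^ n).left.isOpenMap.isOpen_range
  have hclosed : IsClosed (Set.range (𝟙 G ^ n).left) := Groth.Agent.S0352.result k G G (𝟙 G ^ n) hopen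
  have hs : Surjective (𝟙 G ^ n).left := by
    refine ⟨Set.range_eq_univ.1 (IsClopen.eq_univ ⟨hclosed, hopen⟩ ?_)⟩
    have hne : Nonempty G.left := inferInstance
    exact Set.range_nonempty _
  exact epi_of_fppf G n

/-! ### Characteristic `p` -/

theorem cohDim (p : ℕ) [Fact p.Prime] [CharP k p] : Dix.CohDimLEAt (Spec (CommRingCat.of k)) p 1 := by
  have : Algebra (ZMod p) k := ZMod.algebra k p
  let a : Spec (CommRingCat.of k) ⟶ Spec (CommRingCat.of (ULift.{u} (ZMod p))) :=
    Spec.map (CommRingCat.ofHom ((algebraMap (ZMod p) k).comp (ULift.ringEquiv : ULift.{u} (ZMod p) ≃+* ZMod p).toRingHom))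
  exact Groth.Agent.S3494.result p _ a 0 (fun M hM q hq => by
    have := hM
    exact Groth.Agent.S0007.result _ M q hq)

/-- A smooth commutative group killed by a power of `p` over a field of characteristic `p` has no higher cohomology. -/
theorem subsingleton_of_kill (p : ℕ) [Fact p.Prime] [CharP k p] (G : Over (Spec (CommRingCat.of k))) [GrpObj G]
    [IsCommMonObj G] [Smooth G.hom] (a : ℕ) (ha : (p ^ a) • 𝟙 (CGrpSh.pts Scheme.fppfPrecoverage G) = 0) (i : ℕ)
    (hi : 1 < i) : Subsingleton (BigSite.H Scheme.fppfPrecoverage (Spec (CommRingCat.of k))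
      (CGrpSh.pts Scheme.fppfPrecoverage G) i) := by
  let F := (EtFppf.aPush (Spec (CommRingCat.of k))).obj (CGrpSh.pts Scheme.fppfPrecoverage G)
  have hF : Dix.IsPrimaryTorsion p F := by
    intro V s x
    refine ⟨V, 𝟙 V, ⟨x, rfl⟩, a, ?_⟩
    let φ : (CGrpSh.pts Scheme.fppfPrecoverage G ⟶ CGrpSh.pts Scheme.fppfPrecoverage G) →+
        (CGrpSh.pts Scheme.fppfPrecoverage G).obj.obj (op ((EtFppf.a (Spec (CommRingCat.of k))).obj V)) :=
      AddMonoidHom.mk' (fun f => f.hom.app (op ((EtFppf.a (Spec (CommRingCat.of k))).obj V)) s) (fun _ _ => rfl)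
    have h1 : φ ((p ^ a) • 𝟙 _) = (p ^ a) • φ (𝟙 _) := map_nsmul _ _ _
    rw [ha, map_zero] at h1
    have h2 : F.obj.map (𝟙 V).op s = s := by
      rw [op_id, F.obj.map_id]; rfl
    rw [h2]
    exact h1.symm
  have h3 := cohDim (k := k) p F hF i hi
  obtain ⟨e⟩ := Groth.Agent.S18315.result (Spec (CommRingCat.of k)) G i
  exact e.symm.toEquiv.subsingleton

/-! ### The general case -/

theorem main (U : Over (Spec (CommRingCat.of k))) [GrpObj U] [IsCommMonObj U] [Smooth U.hom] [ConnectedSpace U.left]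
    [IsAffine U.left] (hU : Red.HasNoSubtorus k U) (i : ℕ) (hi : 1 < i) :
    Subsingleton (BigSite.H Scheme.fppfPrecoverage (Spec (CommRingCat.of k)) (CGrpSh.pts Scheme.fppfPrecoverage U) i) := by
  obtain ⟨A, _, _, _, e, he, hft⟩ := exists_model U
  have hA : Algebra.FiniteType k A := hft inferInstance
  have he' : IsMonHom e.symm.hom := inferInstanceAs (IsMonHom e.inv)
  have he'' : IsMonHom e.inv := he'
  obtain ⟨J, hJ, hM, -, B, _, _, φ, hφ, hJB, hUB⟩ := Groth.Agent.S4130.result k A
  have hB : Coalgebra.IsCocomm k B := isCocomm_of_injective φ hφ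
  have hBf : Algebra.FiniteType k B := finiteType_of_injective φ hφ
  have i1 : IsMonHom (specMap k (Ideal.Quotient.mkₐ k J)) :=
    isMonHom_specMap k (Bialgebra.Quotient.mkBialgHom (R := k) J)
  have i2 : IsMonHom (specMap k (φ : B →ₐ[k] A)) := isMonHom_specMap k φ
  have w : specMap k (Ideal.Quotient.mkₐ k J) ≫ specMap k (φ : B →ₐ[k] A) = 1 :=
    isKernel_w (isKernel_specMap k (φ : B →ₐ[k] A) J hJB)
  have hS := shortExact_spec φ hφ J hJB w
  -- the subgroup of multiplicative type is finite
  have hm : Mono (specMap k (Ideal.Quotient.mkₐ k J)) := by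
    have h1 : IsClosedImmersion (specMap k (Ideal.Quotient.mkₐ k J)).left :=
      (isClosedImmersion_specMap_iff k _).2 (Ideal.Quotient.mkₐ_surjective k J)
    have h3 : Mono ((Over.forget _).map (specMap k (Ideal.Quotient.mkₐ k J))) := inferInstanceAs (Mono (specMap k _).left)
    exact (Over.forget _).mono_of_mono_map h3
  have hm' : Mono (specMap k (Ideal.Quotient.mkₐ k J) ≫ e.inv) := mono_comp _ _
  obtain ⟨n, hn, hkill⟩ := kill_mult (A ⧸ J) hM U hU (specMap k (Ideal.Quotient.mkₐ k J) ≫ e.inv)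
  obtain ⟨p, hp⟩ := CharP.exists k
  rcases CharP.char_is_prime_or_zero k p with hpp | rfl
  · -- characteristic `p`
    have : Fact p.Prime := ⟨hpp⟩
    obtain ⟨m, hm0, hkill'⟩ := kill_unip p B hUB
    have h1 : (n * m) • 𝟙 (CGrpSh.pts Scheme.fppfPrecoverage (SpecOver k A)) = 0 := nsmul_id_mid hS hkill hkill'
    have h2 : (n * m) • 𝟙 (CGrpSh.pts Scheme.fppfPrecoverage U) = 0 := nsmul_id_iso (K810.GaKer.ptsIso e).symm h1
    obtain ⟨a, b, hb, hab⟩ := Nat.exists_eq_pow_mul_and_not_dvd (Nat.mul_pos hn hm0).ne' p hpp.ne_one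
    rw [hab] at h2
    have h3 : (b : k) ≠ 0 := fun h => hb ((CharP.cast_eq_zero_iff k p b).1 h)
    exact subsingleton_of_kill p U a (nsmul_id_of_epi (epi_nsmul U b h3) h2) i hi
  · -- characteristic zero
    have : CharZero k := CharP.charP_to_charZero k
    have hconn : ConnectedSpace (SpecOver k A).left := by
      let e' : U.left ≅ (SpecOver k A).left := (Over.forget _).mapIso e
      exact (Scheme.homeoOfIso e').surjective.connectedSpace (Scheme.homeoOfIso e').continuous
    have he1 : Epi (n • 𝟙 (CGrpSh.pts Scheme.fppfPrecoverage (SpecOver k A))) :=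
      epi_nsmul (SpecOver k A) n (Nat.cast_ne_zero.2 hn.ne')
    obtain ⟨f⟩ := nonempty_iso hS hkill (isIso_nsmul B hUB n hn) he1
    have h4 := K810.GaKer.unipotent (k := k) B hUB i hi
    let f' : CGrpSh.pts Scheme.fppfPrecoverage (SpecOver k B) ≅ CGrpSh.pts Scheme.fppfPrecoverage (SpecOver k A) := f
    have h5 : Subsingleton (BigSite.H Scheme.fppfPrecoverage (Spec (CommRingCat.of k))
        (CGrpSh.pts Scheme.fppfPrecoverage (SpecOver k A)) i) := (K809.Les.mpEquiv _ f' i).symm.toEquiv.subsingleton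
    exact (K809.Les.mpEquiv _ (K810.GaKer.ptsIso e) i).toEquiv.subsingleton

end K771.UniVan
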